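import Mathlib
import Cfsg.Prelude.Def_Characters
import Cfsg.Prelude.Def_Blocks

/-!
# Blocks of defect one (Brauer 1942), general blocks — definitions (helper77)

Setting: `x : G` of prime order `p`, `K ≤ G` a `p'`-subgroup with `C_G(x) = ⟨x⟩ × K`.

* `dco K θ χ y`: the `θ`-coefficient `(1/|K|) ∑_{k ∈ K} χ(y k) conj θ(k)` of `χ` at `y`.
* `ThetaLatticeBoundStmt G p`: the lattice bound for a Galois- and `N_G(⟨x⟩)`-stable finite set `Θ`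
  of irreducible characters of `K` (for `Θ = {1}`, `r = d = 1` this is helper75's
  `LatticeBoundStmt`).
-/

set_option autoImplicit false
open Cfsg
open scoped ComplexConjugate

namespace Cfsg.Agent.Helper77

universe u

/-- The `θ`-coefficient of `χ` at `y`: `(1/|K|) ∑_{k ∈ K} χ(y k) conj θ(k)`. -/
noncomputable def dco {G : Type u} [Group G] (K : Subgroup G) (θ : K → ℂ) (χ : G → ℂ) (y : G) : ℂ :=
  (Nat.card K : ℂ)⁻¹ * ∑ᶠ k : K, χ (y * (k : G)) * conj (θ k)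

/-- The lattice bound for a stable set `Θ` of irreducible characters of `K`, as a statement. -/
def ThetaLatticeBoundStmt (G : Type u) [Group G] [Fintype G] (p : ℕ) : Prop :=
  ∀ (x : G) (K : Subgroup G) [DecidablePred (· ∈ K)]
    (𝒪 ℛ : Finset (Cfsg.IrrCharacter G)) (Θ : Finset (Cfsg.IrrCharacter K)) (M₀ d r : ℕ),
    orderOf x = p →
    ¬ p ∣ Nat.card K →
    (∀ g : G, g * x = x * g ↔ ∃ i : ℕ, ∃ k ∈ K, g = x ^ i * k) →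
    (∀ χ ∈ 𝒪, ∀ σ : ℂ ≃+* ℂ, ∃ χ' ∈ 𝒪, ∀ g : G, (χ' : G → ℂ) g = σ ((χ : G → ℂ) g)) →
    ¬ p ∣ M₀ → Nat.card G ∣ p * M₀ →
    (∀ χ ∈ 𝒪, ∃ χ₀ ∈ ℛ, ∃ τ : ℂ ≃+* ℂ, (∀ w : ℂ, w ^ M₀ = 1 → τ w = w) ∧
      ∀ g : G, (χ : G → ℂ) g = τ ((χ₀ : G → ℂ) g)) →
    (∀ θ ∈ Θ, ∀ σ : ℂ ≃+* ℂ, ∃ θ' ∈ Θ, ∀ k : K, (θ' : K → ℂ) k = σ ((θ : K → ℂ) k)) →
    (∀ θ ∈ Θ, ∀ n ∈ Subgroup.normalizer ((Subgroup.zpowers x : Subgroup G) : Set G),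
      ∃ θ' ∈ Θ, ∀ k k' : K, (k' : G) = n * (k : G) * n⁻¹ → (θ' : K → ℂ) k' = (θ : K → ℂ) k) →
    (∀ θ ∈ Θ, Cfsg.charDegree (θ : K → ℂ) ≤ d) →
    0 < r →
    (∀ θ ∈ Θ, ∀ n ∈ Subgroup.normalizer ((Subgroup.zpowers x : Subgroup G) : Set G),
      ∀ k k' : K, (k' : G) = n ^ r * (k : G) * (n ^ r)⁻¹ → (θ : K → ℂ) k' = (θ : K → ℂ) k) →
    ‖∑ θ ∈ Θ, ∑ χ ∈ 𝒪, ∑ k : K, (χ : G → ℂ) 1 * (θ : K → ℂ) 1 * (χ : G → ℂ) (x * (k : G))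
        * conj ((θ : K → ℂ) k)‖
      ≤ (Nat.card K : ℝ) * ((r * d : ℕ) : ℝ) * ∑ χ ∈ ℛ, (Cfsg.charDegree (χ : G → ℂ) : ℝ)

end Cfsg.Agent.Helper77
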