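import Mathlib
import Cfsg.Prelude.Def_Characters
import Cfsg.Prelude.Def_Blocks
import Cfsg.Agent.Helper77.D1Defs

/-!
# Blocks of defect one (Brauer 1942), general blocks — block-side definitions (helper77)

Setting `D1Hyp p x K`: `x` of order `p`, `p² ∤ |G|`, `K` a `p'`-subgroup with `C_G(x) = ⟨x⟩ × K`.
For `θ ∈ Irr(K)`: `blkTheta K x θ = {χ ∈ Irr(G) | dco K θ χ x ≠ 0}` (a `p`-block of `G`),
`stabUnits p x K θ` / `normUnits p x` the images in `(ZMod p)ˣ` of the stabilizer of `θ` in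
`N_G(⟨x⟩)` / of `N_G(⟨x⟩)` (of orders `e` and `f`), and the statements of the main steps.
-/

set_option autoImplicit false
open Cfsg
open scoped ComplexConjugate

namespace Cfsg.Agent.Helper77

universe u

/-- The standing hypotheses. -/
structure D1Hyp {G : Type u} [Group G] (p : ℕ) (x : G) (K : Subgroup G) : Prop where
  hx : orderOf x = p
  hK : ¬ p ∣ Nat.card K
  hC : ∀ g : G, g * x = x * g ↔ ∃ i : ℕ, ∃ k ∈ K, g = x ^ i * k
  hsq : ¬ p ^ 2 ∣ Nat.card G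

/-- `θ' (n k n⁻¹) = θ k` for all `k ∈ K` (with `n k n⁻¹ ∈ K`). -/
def thetaConj {G : Type u} [Group G] (K : Subgroup G) (n : G) (θ θ' : K → ℂ) : Prop :=
  ∀ k k' : K, (k' : G) = n * (k : G) * n⁻¹ → θ' k' = θ k

/-- The units `u` such that some `n` with `n x n⁻¹ = x ^ u` stabilizes `θ`. -/
def stabUnits {G : Type u} [Group G] (p : ℕ) (x : G) (K : Subgroup G) (θ : K → ℂ) :
    Set (ZMod p)ˣ :=
  {u | ∃ n : G, n * x * n⁻¹ = x ^ (u : ZMod p).val ∧ thetaConj K n θ θ}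

/-- The units `u` such that `x` is conjugate to `x ^ u`. -/
def normUnits {G : Type u} [Group G] (p : ℕ) (x : G) : Set (ZMod p)ˣ :=
  {u | ∃ n : G, n * x * n⁻¹ = x ^ (u : ZMod p).val}

/-- The set of irreducible characters with nonzero `θ`-coefficient at `x`. -/
def blkTheta {G : Type u} [Group G] (K : Subgroup G) (x : G) (θ : K → ℂ) :
    Set (Cfsg.IrrCharacter G) :=
  {χ | dco K θ (χ : G → ℂ) x ≠ 0}

/-- `χ'` is the image of `χ` under an automorphism of `ℂ` fixing the `M₀`-th roots of unity. -/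
def galRel {G : Type u} (M₀ : ℕ) (χ χ' : G → ℂ) : Prop :=
  ∃ τ : ℂ ≃+* ℂ, (∀ w : ℂ, w ^ M₀ = 1 → τ w = w) ∧ ∀ g : G, χ' g = τ (χ g)

/-- The primitive `p`-th root of unity `exp(2πi/p)`. -/
noncomputable def d1zeta (p : ℕ) : ℂ := Complex.exp (2 * Real.pi * Complex.I / p)

/-- The central character of `1 × θ` on `C_G(x) = ⟨x⟩ × K` induced to `G`: the sum of
`θ k / θ 1` over the elements `x ^ i k` (`i < p`, `k ∈ K`) conjugate to `g`. -/
noncomputable def omTheta {G : Type u} [Group G] (p : ℕ) (x : G) (K : Subgroup G) (θ : K → ℂ)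
    (g : G) : ℂ :=
  ∑ᶠ c ∈ {c : Fin p × K | IsConj g (x ^ (c.1 : ℕ) * (c.2 : G))}, θ c.2 / θ 1

/-- (CC) a character in `blkTheta K x θ` has central character `omTheta θ` modulo `M`. -/
def D1CCStmt (G : Type u) [Group G] [Finite G] (p : ℕ) : Prop :=
  ∀ (M : Ideal Cfsg.AlgInt) (x : G) (K : Subgroup G), Cfsg.IsPModular p M → D1Hyp p x K →
    ∀ (θ : Cfsg.IrrCharacter K) (χ : Cfsg.IrrCharacter G), χ ∈ blkTheta K x (θ : K → ℂ) →
      ∀ g : G, Cfsg.MemLocalIdeal M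
        (Cfsg.centralChar (χ : G → ℂ) g - omTheta p x K (θ : K → ℂ) g)

/-- (INJ) characters of `K` with the same induced central character modulo `M` are conjugate
under the normalizer of `⟨x⟩`. -/
def D1InjStmt (G : Type u) [Group G] [Finite G] (p : ℕ) : Prop :=
  ∀ (M : Ideal Cfsg.AlgInt) (x : G) (K : Subgroup G), Cfsg.IsPModular p M → D1Hyp p x K →
    ∀ θ θ' : Cfsg.IrrCharacter K,
      (∀ g : G, Cfsg.MemLocalIdeal M
        (omTheta p x K (θ : K → ℂ) g - omTheta p x K (θ' : K → ℂ) g)) →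
      ∃ n : G, n * x * n⁻¹ ∈ Subgroup.zpowers x ∧ thetaConj K n (θ : K → ℂ) (θ' : K → ℂ)

/-- (F) the sum of the `θ`-coefficients over an orbit of the inertial automorphisms has
absolute value at most `1`. -/
def FBoundStmt (G : Type u) [Group G] [Finite G] (p : ℕ) : Prop :=
  ∀ (x : G) (K : Subgroup G) (M₀ : ℕ), D1Hyp p x K → ¬ p ∣ M₀ → Nat.card G ∣ p * M₀ →
    ∀ (θ : Cfsg.IrrCharacter K) (χ : Cfsg.IrrCharacter G) (Ω : Finset (Cfsg.IrrCharacter G)),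
      (∀ χ' : Cfsg.IrrCharacter G, χ' ∈ Ω ↔ galRel M₀ (χ : G → ℂ) (χ' : G → ℂ)) →
      ‖∑ χ' ∈ Ω, dco K (θ : K → ℂ) (χ' : G → ℂ) x‖ ≤ 1

/-- The main theorem on the set `blkTheta K x θ`. -/
def D1MainStmt (G : Type u) [Group G] [Finite G] (p : ℕ) : Prop :=
  ∀ (x : G) (K : Subgroup G) (M₀ : ℕ), D1Hyp p x K → ¬ p ∣ M₀ → Nat.card G ∣ p * M₀ →
    ∀ θ : Cfsg.IrrCharacter K,
      Nat.card (stabUnits p x K (θ : K → ℂ)) ∣ p - 1 ∧
      ∃ (X Y : Set (Cfsg.IrrCharacter G)) (c : Cfsg.IrrCharacter G → ℤ) (ε : ℤ),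
        blkTheta K x (θ : K → ℂ) = X ∪ Y ∧ Disjoint X Y ∧
        Nat.card X = Nat.card (stabUnits p x K (θ : K → ℂ)) ∧
        Nat.card Y = (p - 1) / Nat.card (stabUnits p x K (θ : K → ℂ)) ∧
        (∀ χ ∈ X, c χ = 1 ∨ c χ = -1) ∧ (ε = 1 ∨ ε = -1) ∧
        (∀ χ ∈ X, ∀ χ' : Cfsg.IrrCharacter G, galRel M₀ (χ : G → ℂ) (χ' : G → ℂ) → χ' = χ) ∧
        (∀ ψ ∈ Y, ∀ ψ' : Cfsg.IrrCharacter G,
          galRel M₀ (ψ : G → ℂ) (ψ' : G → ℂ) ↔ ψ' ∈ Y) ∧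
        (∀ ψ ∈ Y, ∀ g : G, ¬ p ∣ orderOf g →
          ∑ᶠ χ ∈ X, (c χ : ℂ) * (χ : G → ℂ) g = (ε : ℂ) * (ψ : G → ℂ) g) ∧
        (∀ χ ∈ X, (Cfsg.charDegree (χ : G → ℂ) : ℤ) ≡
          c χ * ((Nat.card (normUnits p x) / Nat.card (stabUnits p x K (θ : K → ℂ))
            * Cfsg.charDegree (θ : K → ℂ) : ℕ) : ℤ) [ZMOD p]) ∧
        (∀ ψ ∈ Y, (Cfsg.charDegree (ψ : G → ℂ) : ℤ) ≡
          ε * ((Nat.card (normUnits p x) * Cfsg.charDegree (θ : K → ℂ) : ℕ) : ℤ) [ZMOD p])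

end Cfsg.Agent.Helper77
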