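/-
helper77: CALL BG36 (helper2, row S1436), piece B3 (double): `m = r⁻¹ n g` normalizes the maximal
subgroup `M` (so lies in `M`) and conjugates `N'` to `N`.  Pure group theory (Prelude definitions only).
-/
import Mathlib
import Cfsg.Prelude.Def_OddOrder

set_option autoImplicit false

namespace Cfsg.Agent.Helper77

open Cfsg Subgroup

universe u

variable {G : Type u} [Group G] [Finite G]

theorem bg36b3_conj_apply (x w : G) : (MulAut.conj x).toMonoidHom w = x * w * x⁻¹ := rfl

/-- in a nonabelian simple group a maximal subgroup is self-normalizing (elementwise form) -/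
theorem bg36b3_mem_of_normalizes (hG : IsMinSimpleOddOrder G) {M : Subgroup G} (hM : IsCoatom M)
    {m : G} (hm : ∀ h, h ∈ M ↔ m * h * m⁻¹ ∈ M) : m ∈ M := by
  obtain ⟨-, hsimple, hnc, -⟩ := hG
  have := hsimple
  have hmem : m ∈ normalizer (M : Set G) := Subgroup.mem_normalizer_iff.mpr hm
  by_contra hmM
  have hlt : M < normalizer (M : Set G) :=
    lt_of_le_of_ne Subgroup.le_normalizer (fun h => hmM (h ▸ hmem))
  have htop : normalizer (M : Set G) = ⊤ := hM.2 _ hlt
  have hnormal : M.Normal := Subgroup.normalizer_eq_top_iff.mp htop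
  rcases hnormal.eq_bot_or_eq_top with hbot | htop'
  · -- `⊥` is a coatom: `G` is cyclic
    apply hnc
    refine ⟨⟨fun a b => ?_⟩⟩
    by_cases ha : a = 1
    · rw [ha, one_mul, mul_one]
    · have hza : Subgroup.zpowers a = ⊤ := by
        apply hM.2
        rw [hbot]
        exact bot_lt_iff_ne_bot.mpr (fun h => ha (Subgroup.zpowers_eq_bot.mp h))
      have hb : b ∈ Subgroup.zpowers a := by rw [hza]; exact Subgroup.mem_top b
      obtain ⟨k, rfl⟩ := Subgroup.mem_zpowers_iff.mp hb
      exact ((Commute.refl a).zpow_right k).eq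
  · exact hM.1 htop'

/-- PIECE B3: `m = r⁻¹ n g` normalizes the maximal subgroup `M` (so lies in `M`) and conjugates
`N'` to `N`. -/
theorem bg36_b_fin (hG : IsMinSimpleOddOrder G) {M N N' : Subgroup G} (hM : IsCoatom M)
    {g n r : G} (hg : N'.map (MulAut.conj g).toMonoidHom = N) (hn : n ∈ N) (hrN : r ∈ N)
    (hrM : M.map (MulAut.conj r).toMonoidHom = M.map (MulAut.conj (n * g)).toMonoidHom) :
    ∃ m ∈ M, N'.map (MulAut.conj m).toMonoidHom = N := by
  refine ⟨r⁻¹ * n * g, ?_, ?_⟩
  · apply bg36b3_mem_of_normalizes hG hM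
    intro h
    constructor
    · intro hh
      have h1 : (n * g) * h * (n * g)⁻¹ ∈ M.map (MulAut.conj r).toMonoidHom := by
        rw [hrM]
        exact Subgroup.mem_map.mpr ⟨h, hh, bg36b3_conj_apply _ _⟩
      obtain ⟨h', hh', he⟩ := Subgroup.mem_map.mp h1
      have he' : r * h' * r⁻¹ = (n * g) * h * (n * g)⁻¹ := by
        rw [← he]; rfl
      have h2 : r⁻¹ * n * g * h * (r⁻¹ * n * g)⁻¹ = h' := by
        have : h' = r⁻¹ * ((n * g) * h * (n * g)⁻¹) * r := by
          rw [← he']; group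
        rw [this]; group
      rw [h2]
      exact hh'
    · intro hh
      have h1 : r * (r⁻¹ * n * g * h * (r⁻¹ * n * g)⁻¹) * r⁻¹ ∈
          M.map (MulAut.conj (n * g)).toMonoidHom := by
        rw [← hrM]
        exact Subgroup.mem_map.mpr ⟨_, hh, bg36b3_conj_apply _ _⟩
      obtain ⟨h'', hh'', he⟩ := Subgroup.mem_map.mp h1
      have he' : (n * g) * h'' * (n * g)⁻¹ = r * (r⁻¹ * n * g * h * (r⁻¹ * n * g)⁻¹) * r⁻¹ := by
        rw [← he]; rfl
      have h2 : h'' = h := by
        have h3 : (n * g) * h'' * (n * g)⁻¹ = (n * g) * h * (n * g)⁻¹ := by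
          rw [he']; group
        exact mul_left_cancel (mul_right_cancel h3)
      rw [← h2]
      exact hh''
  · ext y
    constructor
    · intro hy
      obtain ⟨w, hw, rfl⟩ := Subgroup.mem_map.mp hy
      have h1 : g * w * g⁻¹ ∈ N := by
        rw [← hg]
        exact Subgroup.mem_map.mpr ⟨w, hw, bg36b3_conj_apply _ _⟩
      have h2 : (MulAut.conj (r⁻¹ * n * g)).toMonoidHom w = r⁻¹ * (n * (g * w * g⁻¹) * n⁻¹) * r := by
        rw [bg36b3_conj_apply]
        group
      rw [h2]
      exact N.mul_mem (N.mul_mem (N.inv_mem hrN) (N.mul_mem (N.mul_mem hn h1) (N.inv_mem hn))) hrN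
    · intro hy
      have h1 : n⁻¹ * (r * y * r⁻¹) * n ∈ N :=
        N.mul_mem (N.mul_mem (N.inv_mem hn) (N.mul_mem (N.mul_mem hrN hy) (N.inv_mem hrN))) hn
      rw [← hg] at h1
      obtain ⟨w, hw, he⟩ := Subgroup.mem_map.mp h1
      have he' : g * w * g⁻¹ = n⁻¹ * (r * y * r⁻¹) * n := by
        rw [← he]; rfl
      refine Subgroup.mem_map.mpr ⟨w, hw, ?_⟩
      rw [bg36b3_conj_apply]
      have : y = r⁻¹ * (n * (g * w * g⁻¹) * n⁻¹) * r := by
        rw [he']; group
      rw [this]; group

end Cfsg.Agent.Helper77
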