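import Cfsg.Prelude.Def_BrauerPairs
import Cfsg.Agent.Helper16.BrauerMap
import Cfsg.Agent.Helper77.BlockCount

/-!
# Brauer pairs: the block of a Brauer pair

* `brauerOmega_eq_omega`: `Cfsg.brauerOmega P β ξ = Ω_ξ (brRes P C_G(P) β)`.
* `exists_irr_isBrauerPairOf_iff`, `existsUnique_isBrauerPairOf`: every Brauer pair `(P, e)` is a
  Brauer pair of exactly one block, the block of any `χ` with `Ω_ξ ∘ Br_P ≡ Ω_χ` (`ξ ∈ e`).
-/

set_option autoImplicit false
set_option linter.style.haveILetI false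
open Cfsg

namespace Cfsg.Agent.Helper77

universe u

variable {G : Type u} [Group G]

/-- `brauerOmega` is `Ω_ξ` of the Brauer map. -/
theorem brauerOmega_eq_omega (P : Subgroup G) [Fintype (Subgroup.centralizer (P : Set G))]
    (β : G → ℂ) (ξ : Subgroup.centralizer (P : Set G) → ℂ) :
    Cfsg.brauerOmega P β ξ
      = Helper81.omega ξ (Helper16.brRes P (Subgroup.centralizer (P : Set G)) β) := by
  unfold Cfsg.brauerOmega Helper81.omega
  rw [finsum_eq_sum_of_fintype, Finset.sum_div]
  refine Finset.sum_congr rfl fun x _ => ?_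
  rw [Helper16.brRes_apply_of_mem _ x.2]

variable [Fintype G]

omit [Fintype G] in
/-- The Brauer map of a block idempotent: a class function on `C_G(P)` with local values. -/
theorem brRes_blockCoeff_isClassFunction (P : Subgroup G) (B : Set (Cfsg.IrrCharacter G)) :
    Cfsg.IsClassFunction (Subgroup.centralizer (P : Set G))
      (Helper16.brRes P (Subgroup.centralizer (P : Set G)) (Cfsg.blockCoeff B)) :=
  Helper16.isClassFunction_brRes (Subgroup.centralizer_le_normalizer _)
    (blockCoeff_isClassFunction B)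

omit [Fintype G] in
theorem brRes_memLocalRing {M : Ideal Cfsg.AlgInt} (hM : M.IsMaximal) (P H : Subgroup G)
    {a : G → ℂ} (ha : ∀ g, Cfsg.MemLocalRing M (a g)) (h : H) :
    Cfsg.MemLocalRing M (Helper16.brRes P H a h) := by
  classical
  by_cases hh : (h : G) ∈ Subgroup.centralizer (P : Set G)
  · rw [Helper16.brRes_apply_of_mem _ hh]; exact ha _
  · rw [Helper16.brRes_apply_of_not_mem _ hh]; exact memLocalRing_zero hM

/-- **The block of a Brauer pair.**  For a Brauer pair `(P, e)` there is an irreducible character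
`χ` of `G` such that the blocks `B` of which `(P, e)` is a Brauer pair are exactly `B = bl(χ)`. -/
theorem exists_irr_isBrauerPairOf_iff {p : ℕ} [Fact p.Prime] {M : Ideal Cfsg.AlgInt}
    (hM : Cfsg.IsPModular p M) (P : Subgroup G)
    (e : Set (Cfsg.IrrCharacter (Subgroup.centralizer (P : Set G))))
    (hPe : Cfsg.IsBrauerPair p M P e) :
    ∃ χ : Cfsg.IrrCharacter G, ∀ B : Set (Cfsg.IrrCharacter G),
      Cfsg.IsBrauerPairOf p M B P e ↔ B = Cfsg.blockOf M (χ : G → ℂ) := by
  classical
  have hMm := hM.2.1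
  haveI := hMm.isPrime
  letI : Fintype (Subgroup.centralizer (P : Set G)) := Fintype.ofFinite _
  obtain ⟨hP, he⟩ := hPe
  obtain ⟨ξ₀, hξ₀⟩ := Helper16.exists_mem_of_isPBlock hMm he
  obtain ⟨χ, hχ⟩ := Helper16.exists_irr_brauer hM P (Subgroup.centralizer (P : Set G)) hP
    le_rfl (Subgroup.centralizer_le_normalizer _) ξ₀
  refine ⟨χ, fun B => ⟨?_, ?_⟩⟩
  · rintro ⟨-, hB, hB2⟩
    have h1 := hB2 ξ₀ hξ₀
    rw [brauerOmega_eq_omega] at h1
    have h2 := hχ _ (blockCoeff_isClassFunction B) (blockCoeff_memLocalRing hMm hB)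
    have h3 : Cfsg.MemLocalIdeal M (Helper81.omega (χ : G → ℂ) (Cfsg.blockCoeff B) - 1) := by
      have := memLocalIdeal_sub hMm h1 h2
      have e : Helper81.omega (ξ₀ : _ → ℂ)
            (Helper16.brRes P (Subgroup.centralizer (P : Set G)) (Cfsg.blockCoeff B)) - 1 -
          (Helper81.omega (ξ₀ : _ → ℂ)
            (Helper16.brRes P (Subgroup.centralizer (P : Set G)) (Cfsg.blockCoeff B)) -
            Helper81.omega (χ : G → ℂ) (Cfsg.blockCoeff B))
          = Helper81.omega (χ : G → ℂ) (Cfsg.blockCoeff B) - 1 := by ring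
      rwa [e] at this
    have hχB : χ ∈ B := by
      by_contra hnot
      rw [omega_blockCoeff_of_not_mem hnot, zero_sub] at h3
      have := memLocalIdeal_neg h3
      rw [neg_neg] at this
      exact not_memLocalIdeal_one hMm this
    exact Helper16.eq_blockOf_of_mem hMm hB hχB
  · rintro rfl
    have hB : Cfsg.IsPBlock M (Cfsg.blockOf M (χ : G → ℂ)) := ⟨χ, rfl⟩
    refine ⟨⟨hP, he⟩, hB, fun ξ hξ => ?_⟩
    rw [brauerOmega_eq_omega]
    have h1 := Helper16.omega_sub_memLocalIdeal hMm ξ ξ₀ (Helper16.sameBlock_of_mem hMm he hξ hξ₀)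
      (brRes_blockCoeff_isClassFunction P (Cfsg.blockOf M (χ : G → ℂ)))
      (brRes_memLocalRing hMm P _ (blockCoeff_memLocalRing hMm hB))
    have h2 := hχ _ (blockCoeff_isClassFunction (Cfsg.blockOf M (χ : G → ℂ)))
      (blockCoeff_memLocalRing hMm hB)
    rw [omega_blockCoeff_of_mem (Helper81.mem_blockOf_self χ)] at h2
    have := memLocalIdeal_add hMm h1 h2
    have e : Helper81.omega (ξ : _ → ℂ)
          (Helper16.brRes P (Subgroup.centralizer (P : Set G))
            (Cfsg.blockCoeff (Cfsg.blockOf M (χ : G → ℂ)))) -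
        Helper81.omega (ξ₀ : _ → ℂ)
          (Helper16.brRes P (Subgroup.centralizer (P : Set G))
            (Cfsg.blockCoeff (Cfsg.blockOf M (χ : G → ℂ)))) +
        (Helper81.omega (ξ₀ : _ → ℂ)
          (Helper16.brRes P (Subgroup.centralizer (P : Set G))
            (Cfsg.blockCoeff (Cfsg.blockOf M (χ : G → ℂ)))) - 1)
        = Helper81.omega (ξ : _ → ℂ)
          (Helper16.brRes P (Subgroup.centralizer (P : Set G))
            (Cfsg.blockCoeff (Cfsg.blockOf M (χ : G → ℂ)))) - 1 := by ring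
    rwa [e] at this

/-- Every Brauer pair belongs to exactly one block. -/
theorem existsUnique_isBrauerPairOf {p : ℕ} [Fact p.Prime] {M : Ideal Cfsg.AlgInt}
    (hM : Cfsg.IsPModular p M) (P : Subgroup G)
    (e : Set (Cfsg.IrrCharacter (Subgroup.centralizer (P : Set G))))
    (hPe : Cfsg.IsBrauerPair p M P e) :
    ∃! B : Set (Cfsg.IrrCharacter G), Cfsg.IsBrauerPairOf p M B P e := by
  obtain ⟨χ, hχ⟩ := exists_irr_isBrauerPairOf_iff hM P e hPe
  exact ⟨_, (hχ _).mpr rfl, fun B hB => (hχ B).mp hB⟩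

end Cfsg.Agent.Helper77
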