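import Mathlib
import Cfsg.Prelude.Def_Characters
import Cfsg.Prelude.Def_Blocks
import Cfsg.Agent.Helper77.D1Defs
import Cfsg.Agent.Helper15.D1LD
import Cfsg.Agent.Helper39.LatP7
import Cfsg.Agent.Helper14.D1LA
import Cfsg.Agent.Helper14.D1LB
import Cfsg.Agent.Helper14.D1LI
import Cfsg.Agent.Helper14.D1LJ
import Cfsg.Agent.Helper14.D1LK
import Cfsg.Agent.Helper65.D1LL
import Cfsg.Agent.Helper65.D1LM
import Cfsg.Agent.Helper74.D1LC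
import Cfsg.Agent.Helper74.D1LE
import Cfsg.Agent.Helper84.D1LF
import Cfsg.Agent.Helper15.D1LG
import Cfsg.Agent.Helper14.D1LH
import Cfsg.Agent.Helper75.LatBound
import Cfsg.Agent.Helper15.AlgIntMod
import Cfsg.Agent.Helper78.Counting

/-!
# Lattice bound for a stable set `Θ` of characters of `K`: one side (helper77)
-/

set_option autoImplicit false
open Cfsg Matrix
open scoped ComplexConjugate

namespace Cfsg.Agent.Helper77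

universe u

variable {G : Type u} [Group G] [Fintype G] {N : ℕ}

omit [Fintype G] in
theorem d1_pow_sub_mem (X : Matrix (Fin N) (Fin N) ℤ) (M T : Submodule ℤ (Fin N → ℤ))
    (hXM : ∀ v ∈ M, X *ᵥ v ∈ M) (hXT : ∀ v ∈ T, X *ᵥ v ∈ T)
    (hxM : ∀ v ∈ M, X *ᵥ v - v ∈ T) (i : ℕ) (v : Fin N → ℤ) (hv : v ∈ M) :
    (X ^ i) *ᵥ v - v ∈ T ∧ (X ^ i) *ᵥ v ∈ M := by
  induction i with
  | zero => simpa using hv
  | succ i ih =>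
    have h1 := hXT _ ih.1
    rw [Matrix.mulVec_sub, Matrix.mulVec_mulVec, ← pow_succ'] at h1
    have h2 := T.add_mem h1 (hxM v hv)
    rw [sub_add_sub_cancel] at h2
    refine ⟨h2, ?_⟩
    have := hXM _ ih.2
    rwa [Matrix.mulVec_mulVec, ← pow_succ'] at this

set_option maxHeartbeats 1600000 in
theorem d1_one_side (p : ℕ) [Fact p.Prime]
    (ρ : G →* Matrix (Fin N) (Fin N) ℤ) (𝒪 ℛ : Finset (Cfsg.IrrCharacter G))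
    (htr : ∀ g : G, (((ρ g).trace : ℤ) : ℂ)
      = ∑ χ ∈ 𝒪, ((Cfsg.charDegree (χ : G → ℂ) : ℕ) : ℂ) * (χ : G → ℂ) g)
    (hℛ𝒪 : ℛ ⊆ 𝒪) (M₀ : ℕ) (hM₀ : ¬ p ∣ M₀) (hGM : Nat.card G ∣ p * M₀)
    (hℛ : ∀ χ ∈ 𝒪, ∃ χ₀ ∈ ℛ, ∃ τ : ℂ ≃+* ℂ, (∀ w : ℂ, w ^ M₀ = 1 → τ w = w) ∧
      ∀ g : G, (χ : G → ℂ) g = τ ((χ₀ : G → ℂ) g))
    (x : G) (hx : orderOf x = p) (n₀ : ℕ)
    (hn₀ : n₀ * p = Nat.card (Subgroup.normalizer ((Subgroup.zpowers x : Subgroup G) : Set G)))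
    (hpn₀ : ¬ p ∣ n₀)
    (κ sgn : ℤ) (hκ : ¬ (p : ℤ) ∣ κ) (hsgn : sgn = 1 ∨ sgn = -1)
    (M T : Submodule ℤ (Fin N → ℤ)) (hTM : T ≤ M) (hpM : ∀ v ∈ M, (p : ℤ) • v ∈ T)
    (hsat : ∀ v : Fin N → ℤ, (p : ℤ) • v ∈ M → v ∈ M)
    (hNM : ∀ r ∈ Subgroup.normalizer ((Subgroup.zpowers x : Subgroup G) : Set G),
      ∀ v ∈ M, ρ r *ᵥ v ∈ M)
    (hNT : ∀ r ∈ Subgroup.normalizer ((Subgroup.zpowers x : Subgroup G) : Set G),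
      ∀ v ∈ T, ρ r *ᵥ v ∈ T)
    (hcM : ∀ γ : Matrix (Fin N) (Fin N) ℤ, (∀ g, γ * ρ g = ρ g * γ) → ∀ v ∈ M, γ *ᵥ v ∈ M)
    (hcT : ∀ γ : Matrix (Fin N) (Fin N) ℤ, (∀ g, γ * ρ g = ρ g * γ) → ∀ v ∈ T, γ *ᵥ v ∈ T)
    (hxM : ∀ v ∈ M, ρ x *ᵥ v - v ∈ T)
    (hlift : ∀ w : Fin N → ℤ, w ∈ M → ∀ ℓ : Fin N → ℤ, (∀ s ∈ T, (p : ℤ) ∣ ℓ ⬝ᵥ s) →
      ∃ A : Matrix (Fin N) (Fin N) ℤ, A * ρ x = ρ x * A ∧ (∀ v, A *ᵥ v ∈ M) ∧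
        ∀ u ∈ M, A *ᵥ u - (sgn * κ * (ℓ ⬝ᵥ u)) • w ∈ T)
    (hδ : ∀ (D : Matrix (Fin N) (Fin N) ℤ) (u : Fin N → ℤ), u ∈ M →
      (∑ i ∈ Finset.range p, ρ (x ^ i)⁻¹ * D * ρ (x ^ i)) *ᵥ u ∈ M →
      κ • ((∑ i ∈ Finset.range p, ρ (x ^ i)⁻¹ * D * ρ (x ^ i)) *ᵥ u) ∈ T)
    (K : Subgroup G) [DecidablePred (· ∈ K)] (hK : ¬ p ∣ Nat.card K)
    (hC : ∀ g : G, g * x = x * g ↔ ∃ i : ℕ, ∃ k ∈ K, g = x ^ i * k)
    (Θ : Finset (Cfsg.IrrCharacter K)) (cΘ : K → ℤ)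
    (hcΘ : ∀ k : K, ((cΘ k : ℤ) : ℂ) = ∑ θ ∈ Θ, (θ : K → ℂ) 1 * conj ((θ : K → ℂ) k))
    (hΘM : ∀ v ∈ M, (∑ k : K, cΘ k • ρ (k : G)) *ᵥ v = (Nat.card K : ℤ) • v)
    (d r : ℕ) (hd : ∀ θ ∈ Θ, Cfsg.charDegree (θ : K → ℂ) ≤ d) (hr0 : 0 < r)
    (hr : ∀ θ ∈ Θ, ∀ n ∈ Subgroup.normalizer ((Subgroup.zpowers x : Subgroup G) : Set G),
      ∀ k k' : K, (k' : G) = n ^ r * (k : G) * (n ^ r)⁻¹ → (θ : K → ℂ) k' = (θ : K → ℂ) k)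
    (a : ℕ) (ha : T.toAddSubgroup.relIndex M.toAddSubgroup = p ^ a) :
    a ≤ r * d * ∑ χ ∈ ℛ, Cfsg.charDegree (χ : G → ℂ) := by
  classical
  have hp : p.Prime := Fact.out
  have hpZ : Prime (p : ℤ) := Nat.prime_iff_prime_int.mp hp
  obtain ⟨𝔐, h𝔐⟩ := Helper78.exists_isPModular p hp
  haveI : 𝔐.IsMaximal := h𝔐.2.1
  letI : Field (Cfsg.AlgInt ⧸ 𝔐) := Ideal.Quotient.field 𝔐
  haveI : CharP (Cfsg.AlgInt ⧸ 𝔐) p := Helper15.algInt_charP p 𝔐 h𝔐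
  haveI : Infinite (Cfsg.AlgInt ⧸ 𝔐) := Helper14.d1_residue_infinite p 𝔐 h𝔐
  have hpk : ((p : ℕ) : Cfsg.AlgInt ⧸ 𝔐) = 0 := Helper15.algInt_natCast_mk_eq_zero p 𝔐 h𝔐
  have hxN : x ∈ Subgroup.normalizer ((Subgroup.zpowers x : Subgroup G) : Set G) :=
    Subgroup.le_normalizer (Subgroup.mem_zpowers x)
  obtain ⟨y, ℓ, hyM, hℓT, hℓy, hspan⟩ := Helper14.d1_coord p M T hTM hpM hsat a ha
  obtain ⟨H, z, hHN, hKH, hHcard, hzH, hzgen, hNH⟩ :=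
    Helper65.d1_complement p x hx K hK hC n₀ hn₀ hpn₀
  obtain ⟨R, hR⟩ := Helper14.d1_rep p (k := Cfsg.AlgInt ⧸ 𝔐) hpk ρ M T H
    (fun h hh => hNM h (hHN hh)) (fun h hh => hNT h (hHN hh)) a y ℓ hyM hℓT hℓy hspan
  -- the cast of an integer divisible by `p` vanishes
  have hcast0 : ∀ n : ℤ, (p : ℤ) ∣ n → ((n : ℤ) : Cfsg.AlgInt ⧸ 𝔐) = 0 := by
    rintro n ⟨q, rfl⟩
    push_cast
    rw [hpk, zero_mul]
  have hcast_ne : ∀ n : ℤ, ¬ (p : ℤ) ∣ n → ((n : ℤ) : Cfsg.AlgInt ⧸ 𝔐) ≠ 0 := by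
    intro n hn h0
    exact hn ((CharP.intCast_eq_zero_iff (Cfsg.AlgInt ⧸ 𝔐) p n).mp h0)
  -- the `K`-central element acts as `|K|`
  have hΘR : ∑ᶠ k : K, ((cΘ k : ℤ) : Cfsg.AlgInt ⧸ 𝔐) • R ⟨(k : G), hKH k.2⟩
      = ((Nat.card K : ℕ) : Cfsg.AlgInt ⧸ 𝔐) • (1 : Matrix (Fin a) (Fin a) (Cfsg.AlgInt ⧸ 𝔐)) := by
    rw [finsum_eq_sum_of_fintype]
    ext i j
    rw [Matrix.sum_apply, Matrix.smul_apply, Matrix.one_apply]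
    simp only [Matrix.smul_apply, hR, smul_eq_mul]
    have h1 : ∑ k : K, cΘ k * (ℓ i ⬝ᵥ (ρ (k : G) *ᵥ y j)) = (Nat.card K : ℤ) * (ℓ i ⬝ᵥ y j) := by
      have h2 := congrArg (fun v => ℓ i ⬝ᵥ v) (hΘM (y j) (hyM j))
      simp only [Matrix.sum_mulVec, dotProduct_sum, Matrix.smul_mulVec, dotProduct_smul,
        smul_eq_mul] at h2
      exact h2
    have h3 : ∑ k : K, ((cΘ k : ℤ) : Cfsg.AlgInt ⧸ 𝔐)
          * ((ℓ i ⬝ᵥ (ρ (k : G) *ᵥ y j) : ℤ) : Cfsg.AlgInt ⧸ 𝔐)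
        = (((Nat.card K : ℤ) * (ℓ i ⬝ᵥ y j) : ℤ) : Cfsg.AlgInt ⧸ 𝔐) := by
      rw [← h1]
      push_cast
      rfl
    rw [h3]
    have h4 := Int.modEq_iff_dvd.mp (hℓy i j).symm
    have h5 := hcast0 _ h4
    push_cast at h5 ⊢
    rw [sub_eq_zero] at h5
    rw [h5]
  -- `K` is normal in `H`
  have hnormHK : ∀ h ∈ H, ∀ k ∈ K, h * k * h⁻¹ ∈ K := fun h hh k hk =>
    Helper75.lat_K_normal p x hx K hK hC h (hHN hh) k hk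
  have hpH : ¬ p ∣ Nat.card H := by rw [hHcard]; exact hpn₀
  have hDη : ∀ η : Cfsg.IrrCharacter H,
      (∃ θ ∈ Θ, ∑ᶠ k : K, (η : H → ℂ) ⟨(k : G), hKH k.2⟩ * conj ((θ : K → ℂ) k) ≠ 0) →
        Cfsg.charDegree (η : H → ℂ) ≤ r * d := by
    rintro η ⟨θ, hθ, hne⟩
    have h1 := Helper74.d1_clifford_bound H K hKH hnormHK z hzH hzgen θ r hr0
      (hr θ hθ z (hHN hzH)) η hne
    exact h1.trans (Nat.mul_le_mul_left r (hd θ hθ))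
  have hH0 : ((Nat.card H : ℕ) : Cfsg.AlgInt ⧸ 𝔐) ≠ 0 := by
    rw [Ne, CharP.cast_eq_zero_iff (Cfsg.AlgInt ⧸ 𝔐) p]
    exact hpH
  obtain ⟨ν, β, v, c, hβ, hv, hc0, hcinj, heig, haν⟩ := Helper74.d1_mod_main hH0 R (r * d)
    (fun W hW hW0 hmin => Helper15.d1_mod_dim p 𝔐 h𝔐 H K hKH hpH Θ cΘ hcΘ (r * d) hDη R hΘR W hW hW0
      hmin)
  -- base change of the commutant
  have hRm : ∀ s : H, (Matrix.of fun i j => ℓ i ⬝ᵥ (ρ (s : G) *ᵥ y j)).map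
      (Int.cast : ℤ → Cfsg.AlgInt ⧸ 𝔐) = R s := by
    intro s
    ext i j
    rw [Matrix.map_apply, Matrix.of_apply, hR]
  obtain ⟨Q, B, w, hBcomm, hβsum⟩ := Helper14.d1_commutant_basechange p (k := Cfsg.AlgInt ⧸ 𝔐)
    (ι := H) (fun s => Matrix.of fun i j => ℓ i ⬝ᵥ (ρ (s : G) *ᵥ y j)) β
    (fun s => by rw [hRm s]; exact hβ s)
  -- the commutation relation for all of the normalizer
  have hBN : ∀ q, ∀ r' ∈ Subgroup.normalizer ((Subgroup.zpowers x : Subgroup G) : Set G),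
      ∀ i j, (p : ℤ) ∣ ∑ l, (B q i l * (ℓ l ⬝ᵥ (ρ r' *ᵥ y j))
        - (ℓ i ⬝ᵥ (ρ r' *ᵥ y l)) * B q l j) := by
    intro q r' hr' i j
    obtain ⟨e, h, hh, rfl⟩ := hNH r' hr'
    have hcong : ∀ (l j' : Fin a), (p : ℤ) ∣ ℓ l ⬝ᵥ (ρ (x ^ e * h) *ᵥ y j')
        - ℓ l ⬝ᵥ (ρ h *ᵥ y j') := by
      intro l j'
      have h1 := (d1_pow_sub_mem (ρ x) M T (hNM x hxN) (hNT x hxN) hxM e (ρ h *ᵥ y j')
        (hNM h (hHN hh) _ (hyM j'))).1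
      have h2 := hℓT l _ h1
      rw [dotProduct_sub, Matrix.mulVec_mulVec, ← map_pow, ← map_mul] at h2
      exact h2
    have h3 := hBcomm q ⟨h, hh⟩ i j
    rw [Matrix.sub_apply, Matrix.mul_apply, Matrix.mul_apply, ← Finset.sum_sub_distrib] at h3
    simp only [Matrix.of_apply] at h3
    have h4 : ∑ l, (B q i l * (ℓ l ⬝ᵥ (ρ (x ^ e * h) *ᵥ y j))
          - (ℓ i ⬝ᵥ (ρ (x ^ e * h) *ᵥ y l)) * B q l j)
        = ∑ l, (B q i l * (ℓ l ⬝ᵥ (ρ h *ᵥ y j)) - (ℓ i ⬝ᵥ (ρ h *ᵥ y l)) * B q l j)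
          + ∑ l, (B q i l * (ℓ l ⬝ᵥ (ρ (x ^ e * h) *ᵥ y j) - ℓ l ⬝ᵥ (ρ h *ᵥ y j))
            - (ℓ i ⬝ᵥ (ρ (x ^ e * h) *ᵥ y l) - ℓ i ⬝ᵥ (ρ h *ᵥ y l)) * B q l j) := by
      rw [← Finset.sum_add_distrib]
      refine Finset.sum_congr rfl (fun l _ => ?_)
      ring
    rw [h4]
    refine dvd_add h3 (Finset.dvd_sum (fun l _ => ?_))
    exact dvd_sub (Dvd.dvd.mul_left (hcong l j) _) (Dvd.dvd.mul_right (hcong i l) _)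
  have hγ : ∀ q, ∃ γ : Matrix (Fin N) (Fin N) ℤ, (∀ g, γ * ρ g = ρ g * γ) ∧
      ∀ j, γ *ᵥ y j - ∑ i, (sgn * κ * n₀ * B q i j) • y i ∈ T := fun q =>
    Helper84.d1_transfer p ρ x hx n₀ hn₀ κ sgn hκ M T hpM hNM hNT hcM a y ℓ hyM hℓT hℓy hspan hlift hδ
      (B q) (hBN q)
  choose γ hγc hγy using hγ
  -- Teichmüller lifts
  have hteich := fun q => Helper14.d1_teichmuller p 𝔐 h𝔐 (w q)
  choose ω hω hω' using hteich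
  obtain ⟨M₁, hM₁p, hM₀M₁, hωM₁⟩ : ∃ M₁ : ℕ, ¬ p ∣ M₁ ∧ M₀ ∣ M₁ ∧
      ∀ q, ω q = 0 ∨ ω q ^ M₁ = 1 := by
    have hex : ∀ q, ∃ n : ℕ, 0 < n ∧ ¬ p ∣ n ∧ (ω q = 0 ∨ ω q ^ n = 1) := by
      intro q
      rcases hω' q with h | ⟨n, hn, hpn, h⟩
      · exact ⟨1, one_pos, by simpa using hp.one_lt.ne', Or.inl h⟩
      · exact ⟨n, hn, hpn, Or.inr h⟩
    choose n hn hpn hnω using hex
    refine ⟨M₀ * ∏ q, n q, ?_, dvd_mul_right _ _, fun q => ?_⟩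
    · intro h
      rcases (Nat.Prime.dvd_mul hp).mp h with h | h
      · exact hM₀ h
      · obtain ⟨q, -, hq⟩ := (Prime.dvd_finsetProd_iff (Nat.prime_iff.mp hp) _).mp h
        exact hpn q hq
    · rcases hnω q with h | h
      · exact Or.inl h
      · right
        have h1 : n q ∣ M₀ * ∏ q, n q :=
          (Finset.dvd_prod_of_mem _ (Finset.mem_univ q)).trans (dvd_mul_left _ _)
        obtain ⟨t, ht⟩ := h1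
        rw [ht, pow_mul, h, one_pow]
  have hGM₁ : Nat.card G ∣ p * M₁ := hGM.trans (Nat.mul_dvd_mul_left p hM₀M₁)
  have hℛ₁ : ∀ χ ∈ 𝒪, ∃ χ₀ ∈ ℛ, ∃ τ : ℂ ≃+* ℂ, (∀ w : ℂ, w ^ M₁ = 1 → τ w = w) ∧
      ∀ g : G, (χ : G → ℂ) g = τ ((χ₀ : G → ℂ) g) := by
    intro χ hχ
    obtain ⟨χ₀, h₀, τ, hτ, hχτ⟩ := hℛ χ hχ
    obtain ⟨τ', hτ', hτχ⟩ := Helper65.d1_galois_enlarge (G := G) p M₀ M₁ hM₁p hM₀M₁ hGM τ hτ
    exact ⟨χ₀, h₀, τ', hτ', fun g => by rw [hτχ, hχτ]⟩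
  -- the unit `c₀ = sgn κ n₀`
  have hc₀ : ¬ (p : ℤ) ∣ sgn * κ * n₀ := by
    intro h
    rcases hpZ.dvd_mul.mp h with h | h
    · rcases hpZ.dvd_mul.mp h with h | h
      · rcases hsgn with rfl | rfl
        · exact hpZ.not_dvd_one h
        · exact hpZ.not_dvd_one ((dvd_neg).mp h)
      · exact hκ h
    · exact hpn₀ (Int.natCast_dvd_natCast.mp h)
  have hcc := hcast_ne _ hc₀
  obtain ⟨S, Y, Λ, lam, hS, hlamA, hΛS, hΛY, hY, hlam0, hlaminj⟩ :=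
    Helper14.d1_bridge p 𝔐 h𝔐 M T a y ℓ hyM hℓT hℓy Q γ (fun q => hcM _ (hγc q))
      (fun q => hcT _ (hγc q)) (fun q => (sgn * κ * n₀) • B q)
      (fun q j => by simpa [Matrix.smul_apply] using hγy q j) ω ν v
      (fun j => ((sgn * κ * n₀ : ℤ) : Cfsg.AlgInt ⧸ 𝔐) * c j) hv
      (fun j => mul_ne_zero hcc (hc0 j))
      (fun j j' h => hcinj (mul_left_cancel₀ hcc h))
      (fun j => by
        have h1 : (∑ q, Ideal.Quotient.mk 𝔐 (ω q) •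
            ((sgn * κ * n₀) • B q).map (Int.cast : ℤ → Cfsg.AlgInt ⧸ 𝔐))
            = ((sgn * κ * n₀ : ℤ) : Cfsg.AlgInt ⧸ 𝔐) • β := by
          rw [hβsum, Finset.smul_sum]
          refine Finset.sum_congr rfl (fun q _ => ?_)
          rw [hω q]
          ext i j'
          simp only [Matrix.smul_apply, Matrix.map_apply, smul_eq_mul]
          push_cast
          ring
        rw [h1, Matrix.smul_mulVec, heig j, smul_smul])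
  have hfin := Helper15.d1_geb_core p ρ 𝒪 ℛ (fun χ => Cfsg.charDegree (χ : G → ℂ)) htr hℛ𝒪 M₁ hM₁p
    hGM₁ hℛ₁ 𝔐 h𝔐 Q γ hγc (fun q => ((ω q : Cfsg.AlgInt) : ℂ))
    (fun q => by
      rcases hωM₁ q with h | h
      · left; rw [h]; rfl
      · right
        have := congrArg (fun t : Cfsg.AlgInt => (t : ℂ)) h
        simpa using this)
    S hS ν Y Λ lam hlamA hΛS hΛY hY hlam0 hlaminj
  calc a ≤ ν * (r * d) := haν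
    _ ≤ (∑ χ ∈ ℛ, Cfsg.charDegree (χ : G → ℂ)) * (r * d) := Nat.mul_le_mul_right _ hfin
    _ = r * d * ∑ χ ∈ ℛ, Cfsg.charDegree (χ : G → ℂ) := by ring

end Cfsg.Agent.Helper77
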