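import Mathlib
import Cfsg.Prelude.Def_Characters
import Cfsg.Prelude.Def_Blocks
import Cfsg.Agent.Helper77.D1Defs
import Cfsg.Agent.Helper77.D1Lat
import Cfsg.Agent.Helper75.LatBound

/-!
# Lattice bound for a stable set `Θ` of characters of `K`: the frame (helper77)

`thetaAvg ρ K cΘ = ∑_{k ∈ K} c_Θ(k) ρ(k)` and its eigenlattice `thetaFix` replace the average
over `K` and the lattice of `K`-fixed points of helper75's `LatAB.lean` / `LatBound.lean`.
-/

set_option autoImplicit false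
open Cfsg Matrix
open scoped ComplexConjugate

namespace Cfsg.Agent.Helper77

universe u

variable {G : Type u} [Group G] [Fintype G] {N : ℕ}

/-- `∑_{k ∈ K} c(k) ρ(k)`. -/
noncomputable def thetaAvg (ρ : G →* Matrix (Fin N) (Fin N) ℤ) (K : Subgroup G)
    [DecidablePred (· ∈ K)] (c : K → ℤ) : Matrix (Fin N) (Fin N) ℤ :=
  ∑ k : K, c k • ρ (k : G)

/-- The lattice of vectors on which `thetaAvg` acts as `|K|`. -/
def thetaFix (ρ : G →* Matrix (Fin N) (Fin N) ℤ) (K : Subgroup G)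
    [DecidablePred (· ∈ K)] (c : K → ℤ) : Submodule ℤ (Fin N → ℤ) where
  carrier := {v | thetaAvg ρ K c *ᵥ v = (Nat.card K : ℤ) • v}
  add_mem' := by
    intro a b ha hb
    simp only [Set.mem_setOf_eq] at ha hb ⊢
    rw [Matrix.mulVec_add, ha, hb, smul_add]
  zero_mem' := by simp
  smul_mem' := by
    intro t a ha
    simp only [Set.mem_setOf_eq] at ha ⊢
    rw [Matrix.mulVec_smul, ha, smul_comm]

variable (ρ : G →* Matrix (Fin N) (Fin N) ℤ) (K : Subgroup G) [DecidablePred (· ∈ K)]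
  (c : K → ℤ)

omit [Fintype G] in
theorem mem_thetaFix [Fintype G] {v : Fin N → ℤ} :
    v ∈ thetaFix ρ K c ↔ thetaAvg ρ K c *ᵥ v = (Nat.card K : ℤ) • v := Iff.rfl

theorem thetaAvg_sq (hconv : ∀ k : K, ∑ k₁ : K, c k₁ * c (k₁⁻¹ * k) = (Nat.card K : ℤ) * c k) :
    thetaAvg ρ K c * thetaAvg ρ K c = (Nat.card K : ℤ) • thetaAvg ρ K c := by
  unfold thetaAvg
  rw [Finset.sum_mul, Finset.smul_sum]
  have h1 : ∀ k₁ : K, (c k₁ • ρ (k₁ : G)) * ∑ k : K, c k • ρ (k : G)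
      = ∑ k : K, (c k₁ * c (k₁⁻¹ * k)) • ρ (k : G) := by
    intro k₁
    rw [Finset.mul_sum, ← Equiv.sum_comp (Equiv.mulLeft k₁⁻¹)]
    refine Finset.sum_congr rfl (fun k _ => ?_)
    simp only [Equiv.coe_mulLeft]
    rw [Matrix.smul_mul, Matrix.mul_smul, smul_smul, ← map_mul]
    congr 2
    simp
  rw [Finset.sum_congr rfl (fun k₁ _ => h1 k₁), Finset.sum_comm]
  refine Finset.sum_congr rfl (fun k _ => ?_)
  rw [← Finset.sum_smul, hconv k, mul_smul]

theorem thetaAvg_mem (hconv : ∀ k : K, ∑ k₁ : K, c k₁ * c (k₁⁻¹ * k) = (Nat.card K : ℤ) * c k)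
    (v : Fin N → ℤ) : thetaAvg ρ K c *ᵥ v ∈ thetaFix ρ K c := by
  rw [mem_thetaFix, Matrix.mulVec_mulVec, thetaAvg_sq ρ K c hconv, Matrix.smul_mulVec]

theorem thetaFix_of_commute (A : Matrix (Fin N) (Fin N) ℤ)
    (hA : A * thetaAvg ρ K c = thetaAvg ρ K c * A) {v : Fin N → ℤ} (hv : v ∈ thetaFix ρ K c) :
    A *ᵥ v ∈ thetaFix ρ K c := by
  rw [mem_thetaFix] at hv ⊢
  rw [Matrix.mulVec_mulVec, ← hA, ← Matrix.mulVec_mulVec, hv, Matrix.mulVec_smul]

theorem thetaAvg_comm (x : G) (hKx : ∀ k ∈ K, k * x = x * k) :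
    thetaAvg ρ K c * ρ x = ρ x * thetaAvg ρ K c := by
  unfold thetaAvg
  rw [Finset.sum_mul, Finset.mul_sum]
  refine Finset.sum_congr rfl (fun k _ => ?_)
  rw [Matrix.smul_mul, Matrix.mul_smul, ← map_mul, ← map_mul, hKx _ k.2]

theorem thetaAvg_commute (γ : Matrix (Fin N) (Fin N) ℤ) (hγ : ∀ g, γ * ρ g = ρ g * γ) :
    γ * thetaAvg ρ K c = thetaAvg ρ K c * γ := by
  unfold thetaAvg
  rw [Finset.sum_mul, Finset.mul_sum]
  refine Finset.sum_congr rfl (fun k _ => ?_)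
  rw [Matrix.smul_mul, Matrix.mul_smul, hγ]

/-- Conjugation-invariance of `c` under `r` gives commutation with `ρ r`. -/
theorem thetaAvg_conj (r : G) (hrK : ∀ k ∈ K, r * k * r⁻¹ ∈ K) (hrK' : ∀ k ∈ K, r⁻¹ * k * r ∈ K)
    (hc : ∀ k k' : K, (k' : G) = r * (k : G) * r⁻¹ → c k' = c k) :
    ρ r * thetaAvg ρ K c = thetaAvg ρ K c * ρ r := by
  unfold thetaAvg
  rw [Finset.sum_mul, Finset.mul_sum]
  let e : K ≃ K :=
    { toFun := fun k => ⟨r * (k : G) * r⁻¹, hrK _ k.2⟩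
      invFun := fun k => ⟨r⁻¹ * (k : G) * r, hrK' _ k.2⟩
      left_inv := fun k => by apply Subtype.ext; simp [mul_assoc]
      right_inv := fun k => by apply Subtype.ext; simp [mul_assoc] }
  rw [← Equiv.sum_comp e (fun k : K => c k • ρ (k : G) * ρ r)]
  refine Finset.sum_congr rfl (fun k _ => ?_)
  have h1 : c (e k) = c k := hc k (e k) rfl
  rw [h1, Matrix.smul_mul, Matrix.mul_smul, ← map_mul, ← map_mul]
  congr 2
  simp [e, mul_assoc]

end Cfsg.Agent.Helper77
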