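import Mathlib
import Cfsg.Prelude.Def_Characters
import Cfsg.Prelude.Def_Blocks
import Cfsg.Agent.Helper77.D1Defs
import Cfsg.Agent.Helper77.D1Lat
import Cfsg.Agent.Helper77.D1Frame
import Cfsg.Agent.Helper75.LatBound
import Cfsg.Agent.Helper14.D1LO
import Cfsg.Agent.Helper74.D1LN

/-!
# Lattice bound for a stable set `Θ` of characters of `K`: the two Tate cohomology groups and
the bound (helper77)

`d1_a_le`, `d1_b_le`: the `𝔽_p`-dimensions of `Ĥ⁰` and `Ĥ⁻¹` of `⟨x⟩` on the `Θ`-part of the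
lattice are at most `r d ∑_{χ ∈ ℛ} χ(1)`; `theta_lattice_bound : ThetaLatticeBoundStmt G p`.
-/

set_option autoImplicit false
open Cfsg Matrix
open scoped ComplexConjugate

namespace Cfsg.Agent.Helper77

universe u

variable {G : Type u} [Group G] [Fintype G] {N : ℕ}

set_option maxHeartbeats 1600000 in
theorem d1_a_le (p : ℕ) [Fact p.Prime]
    (ρ : G →* Matrix (Fin N) (Fin N) ℤ) (𝒪 ℛ : Finset (Cfsg.IrrCharacter G))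
    (htr : ∀ g : G, (((ρ g).trace : ℤ) : ℂ)
      = ∑ χ ∈ 𝒪, ((Cfsg.charDegree (χ : G → ℂ) : ℕ) : ℂ) * (χ : G → ℂ) g)
    (hℛ𝒪 : ℛ ⊆ 𝒪) (M₀ : ℕ) (hM₀ : ¬ p ∣ M₀) (hGM : Nat.card G ∣ p * M₀)
    (hℛ : ∀ χ ∈ 𝒪, ∃ χ₀ ∈ ℛ, ∃ τ : ℂ ≃+* ℂ, (∀ w : ℂ, w ^ M₀ = 1 → τ w = w) ∧
      ∀ g : G, (χ : G → ℂ) g = τ ((χ₀ : G → ℂ) g))
    (x : G) (hx : orderOf x = p) (K : Subgroup G) [DecidablePred (· ∈ K)]
    (hK : ¬ p ∣ Nat.card K)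
    (hC : ∀ g : G, g * x = x * g ↔ ∃ i : ℕ, ∃ k ∈ K, g = x ^ i * k)
    (Θ : Finset (Cfsg.IrrCharacter K)) (cΘ : K → ℤ)
    (hcΘ : ∀ k : K, ((cΘ k : ℤ) : ℂ) = ∑ θ ∈ Θ, (θ : K → ℂ) 1 * conj ((θ : K → ℂ) k))
    (hconv : ∀ k : K, ∑ k₁ : K, cΘ k₁ * cΘ (k₁⁻¹ * k) = (Nat.card K : ℤ) * cΘ k)
    (hΘN : ∀ θ ∈ Θ, ∀ n ∈ Subgroup.normalizer ((Subgroup.zpowers x : Subgroup G) : Set G),
      ∃ θ' ∈ Θ, ∀ k k' : K, (k' : G) = n * (k : G) * n⁻¹ → (θ' : K → ℂ) k' = (θ : K → ℂ) k)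
    (d r : ℕ) (hd : ∀ θ ∈ Θ, Cfsg.charDegree (θ : K → ℂ) ≤ d) (hr0 : 0 < r)
    (hr : ∀ θ ∈ Θ, ∀ n ∈ Subgroup.normalizer ((Subgroup.zpowers x : Subgroup G) : Set G),
      ∀ k k' : K, (k' : G) = n ^ r * (k : G) * (n ^ r)⁻¹ → (θ : K → ℂ) k' = (θ : K → ℂ) k)
    (a : ℕ)
    (ha : ((thetaFix ρ K cΘ).map (∑ i ∈ Finset.range p, ρ x ^ i).mulVecLin).toAddSubgroup.relIndex
      (thetaFix ρ K cΘ ⊓ LinearMap.ker (ρ x - 1).mulVecLin).toAddSubgroup = p ^ a) :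
    a ≤ r * d * ∑ χ ∈ ℛ, Cfsg.charDegree (χ : G → ℂ) := by
  have hp : p.Prime := Fact.out
  have hKx : ∀ k ∈ K, k * x = x * k := fun k hk => (hC k).mpr ⟨0, k, hk, by simp⟩
  have hXp : ρ x ^ p = 1 := Helper75.lat_X_pow ρ x p hx
  have hEX : thetaAvg ρ K cΘ * ρ x = ρ x * thetaAvg ρ K cΘ := thetaAvg_comm ρ K cΘ x hKx
  have hXL : ∀ v ∈ thetaFix ρ K cΘ, ρ x *ᵥ v ∈ thetaFix ρ K cΘ :=
    fun v hv => thetaFix_of_commute ρ K cΘ (ρ x) hEX.symm hv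
  have hκ : ¬ (p : ℤ) ∣ (Nat.card K : ℤ) := fun h => hK (Int.natCast_dvd_natCast.mp h)
  have hNL : ∀ r ∈ Subgroup.normalizer ((Subgroup.zpowers x : Subgroup G) : Set G),
      ∀ v ∈ thetaFix ρ K cΘ, ρ r *ᵥ v ∈ thetaFix ρ K cΘ := by
    intro r hr v hv
    have hrK : ∀ k ∈ K, r * k * r⁻¹ ∈ K :=
      fun k hk => Helper75.lat_K_normal p x hx K hK hC r hr k hk
    have hrK' : ∀ k ∈ K, r⁻¹ * k * r ∈ K := by
      intro k hk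
      have := Helper75.lat_K_normal p x hx K hK hC r⁻¹ (inv_mem hr) k hk
      rwa [inv_inv] at this
    exact thetaFix_of_commute ρ K cΘ (ρ r) (thetaAvg_conj ρ K cΘ r hrK hrK'
      (fun k k' h => Helper14.d1_cTheta_conj K Θ cΘ hcΘ r hrK (fun θ hθ => hΘN θ hθ r hr) k k' h))
      hv
  obtain ⟨n₀, hn₀, hpn₀⟩ := Helper75.lat_n0 p x hx M₀ hM₀ hGM
  have hmemM : ∀ v, v ∈ thetaFix ρ K cΘ ⊓ LinearMap.ker (ρ x - 1).mulVecLin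
      ↔ v ∈ thetaFix ρ K cΘ ∧ ρ x *ᵥ v = v := by
    intro v
    rw [Submodule.mem_inf, Helper75.lat_mem_ker_sub]
  have hmemT : ∀ v, v ∈ (thetaFix ρ K cΘ).map (∑ i ∈ Finset.range p, ρ x ^ i).mulVecLin
      ↔ ∃ u ∈ thetaFix ρ K cΘ, (∑ i ∈ Finset.range p, ρ x ^ i) *ᵥ u = v := by
    intro v
    rw [Submodule.mem_map]
    rfl
  have hnmfix : ∀ v, ρ x *ᵥ v = v → (∑ i ∈ Finset.range p, ρ x ^ i) *ᵥ v = (p : ℤ) • v := by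
    intro v hv
    rw [Matrix.sum_mulVec, Finset.sum_congr rfl (fun i _ => Helper75.lat_pow_fix (ρ x) v hv i),
      Finset.sum_const, Finset.card_range, natCast_zsmul]
  refine d1_one_side p ρ 𝒪 ℛ htr hℛ𝒪 M₀ hM₀ hGM hℛ x hx n₀ hn₀ hpn₀ (Nat.card K : ℤ) 1 hκ
    (Or.inl rfl) (thetaFix ρ K cΘ ⊓ LinearMap.ker (ρ x - 1).mulVecLin)
    ((thetaFix ρ K cΘ).map (∑ i ∈ Finset.range p, ρ x ^ i).mulVecLin)
    ?_ ?_ ?_ ?_ ?_ ?_ ?_ ?_ ?_ ?_ K hK hC Θ cΘ hcΘ ?_ d r hd hr0 hr a ha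
  · -- T ≤ M
    intro s hs
    obtain ⟨u, hu, rfl⟩ := (hmemT s).mp hs
    rw [hmemM]
    refine ⟨Helper75.lat_geom_mem _ _ hXL p hu, ?_⟩
    have h1 := Helper75.lat_sub_mul_nm ρ x p hx
    have h2 : (ρ x - 1) *ᵥ ((∑ i ∈ Finset.range p, ρ x ^ i) *ᵥ u) = 0 := by
      rw [Matrix.mulVec_mulVec, h1, Matrix.zero_mulVec]
    rw [Matrix.sub_mulVec, Matrix.one_mulVec, sub_eq_zero] at h2
    exact h2
  · -- p M ⊆ T
    intro v hv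
    obtain ⟨hvL, hvX⟩ := (hmemM v).mp hv
    rw [hmemT]
    exact ⟨v, hvL, hnmfix v hvX⟩
  · -- saturation
    intro v hv
    obtain ⟨hvL, hvX⟩ := (hmemM _).mp hv
    rw [hmemM]
    have hp0 : (p : ℤ) ≠ 0 := by exact_mod_cast hp.ne_zero
    refine ⟨?_, ?_⟩
    · rw [mem_thetaFix] at hvL ⊢
      rw [Matrix.mulVec_smul, smul_comm] at hvL
      exact smul_right_injective _ hp0 hvL
    · rw [Matrix.mulVec_smul] at hvX
      exact smul_right_injective _ hp0 hvX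
  · -- N preserves M
    intro r hr v hv
    obtain ⟨hvL, hvX⟩ := (hmemM v).mp hv
    rw [hmemM]
    refine ⟨hNL r hr v hvL, ?_⟩
    obtain ⟨j, hj⟩ := Helper75.lat_conj_mat' ρ x r hr
    rw [Matrix.mulVec_mulVec, hj, ← Matrix.mulVec_mulVec, Helper75.lat_pow_fix (ρ x) v hvX j]
  · -- N preserves T
    intro r hr s hs
    obtain ⟨u, hu, rfl⟩ := (hmemT s).mp hs
    rw [hmemT]
    refine ⟨ρ r *ᵥ u, hNL r hr u hu, ?_⟩
    rw [Matrix.mulVec_mulVec, Matrix.mulVec_mulVec, Helper75.lat_nm_conj ρ x p hx r hr]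
  · -- commuting matrices preserve M
    intro γ hγ v hv
    obtain ⟨hvL, hvX⟩ := (hmemM v).mp hv
    rw [hmemM]
    refine ⟨thetaFix_of_commute ρ K cΘ γ (thetaAvg_commute ρ K cΘ γ hγ) hvL, ?_⟩
    rw [Matrix.mulVec_mulVec, ← hγ x, ← Matrix.mulVec_mulVec, hvX]
  · -- commuting matrices preserve T
    intro γ hγ s hs
    obtain ⟨u, hu, rfl⟩ := (hmemT s).mp hs
    rw [hmemT]
    refine ⟨γ *ᵥ u, thetaFix_of_commute ρ K cΘ γ (thetaAvg_commute ρ K cΘ γ hγ) hu, ?_⟩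
    rw [Matrix.mulVec_mulVec, Matrix.mulVec_mulVec, Helper75.lat_commute_nm ρ x p γ hγ]
  · -- x acts trivially on M / T
    intro v hv
    obtain ⟨hvL, hvX⟩ := (hmemM v).mp hv
    rw [hvX, sub_self]
    exact Submodule.zero_mem _
  · -- lifts
    intro w hw ℓ hℓ
    obtain ⟨A, hA1, hA2, hA3⟩ := Helper47.lat_ulift p (thetaFix ρ K cΘ) (ρ x) (thetaAvg ρ K cΘ)
      (Nat.card K : ℤ) hXL hXp (thetaAvg_mem ρ K cΘ hconv) (fun v hv => (mem_thetaFix ρ K cΘ).mp hv)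
      hEX w hw ℓ hℓ
    refine ⟨A, hA1, hA2, fun u hu => ?_⟩
    rw [hA3 u hu, one_mul, sub_self]
    exact Submodule.zero_mem _
  · -- the δ-term
    intro D u hu hv
    obtain ⟨huL, huX⟩ := (hmemM u).mp hu
    obtain ⟨hvL, -⟩ := (hmemM _).mp hv
    have h1 : (∑ i ∈ Finset.range p, ρ (x ^ i)⁻¹ * D * ρ (x ^ i)) *ᵥ u
        = (∑ i ∈ Finset.range p, ρ x ^ i) *ᵥ (D *ᵥ u) := by
      rw [← Helper75.lat_nm_inv ρ x p hx, Matrix.sum_mulVec, Matrix.sum_mulVec]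
      refine Finset.sum_congr rfl (fun i _ => ?_)
      rw [← Matrix.mulVec_mulVec, ← Matrix.mulVec_mulVec, map_pow,
        Helper75.lat_pow_fix (ρ x) u huX i]
    rw [← (mem_thetaFix ρ K cΘ).mp hvL, h1, hmemT]
    refine ⟨thetaAvg ρ K cΘ *ᵥ (D *ᵥ u), thetaAvg_mem ρ K cΘ hconv _, ?_⟩
    have h2 : Commute (thetaAvg ρ K cΘ) (ρ x) := hEX
    have h3 : (∑ i ∈ Finset.range p, ρ x ^ i) * thetaAvg ρ K cΘ
        = thetaAvg ρ K cΘ * ∑ i ∈ Finset.range p, ρ x ^ i :=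
      ((Commute.sum_right _ _ _ (fun i _ => h2.pow_right i)).eq).symm
    have h4 : ∀ w : Fin N → ℤ, (∑ i ∈ Finset.range p, ρ x ^ i) *ᵥ (thetaAvg ρ K cΘ *ᵥ w)
        = thetaAvg ρ K cΘ *ᵥ ((∑ i ∈ Finset.range p, ρ x ^ i) *ᵥ w) := by
      intro w
      rw [Matrix.mulVec_mulVec, h3, ← Matrix.mulVec_mulVec]
    exact h4 _
  · -- the Θ-condition
    intro v hv
    exact (mem_thetaFix ρ K cΘ).mp ((hmemM v).mp hv).1

set_option maxHeartbeats 1600000 in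
theorem d1_b_le (p : ℕ) [Fact p.Prime]
    (ρ : G →* Matrix (Fin N) (Fin N) ℤ) (𝒪 ℛ : Finset (Cfsg.IrrCharacter G))
    (htr : ∀ g : G, (((ρ g).trace : ℤ) : ℂ)
      = ∑ χ ∈ 𝒪, ((Cfsg.charDegree (χ : G → ℂ) : ℕ) : ℂ) * (χ : G → ℂ) g)
    (hℛ𝒪 : ℛ ⊆ 𝒪) (M₀ : ℕ) (hM₀ : ¬ p ∣ M₀) (hGM : Nat.card G ∣ p * M₀)
    (hℛ : ∀ χ ∈ 𝒪, ∃ χ₀ ∈ ℛ, ∃ τ : ℂ ≃+* ℂ, (∀ w : ℂ, w ^ M₀ = 1 → τ w = w) ∧
      ∀ g : G, (χ : G → ℂ) g = τ ((χ₀ : G → ℂ) g))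
    (x : G) (hx : orderOf x = p) (K : Subgroup G) [DecidablePred (· ∈ K)]
    (hK : ¬ p ∣ Nat.card K)
    (hC : ∀ g : G, g * x = x * g ↔ ∃ i : ℕ, ∃ k ∈ K, g = x ^ i * k)
    (Θ : Finset (Cfsg.IrrCharacter K)) (cΘ : K → ℤ)
    (hcΘ : ∀ k : K, ((cΘ k : ℤ) : ℂ) = ∑ θ ∈ Θ, (θ : K → ℂ) 1 * conj ((θ : K → ℂ) k))
    (hconv : ∀ k : K, ∑ k₁ : K, cΘ k₁ * cΘ (k₁⁻¹ * k) = (Nat.card K : ℤ) * cΘ k)
    (hΘN : ∀ θ ∈ Θ, ∀ n ∈ Subgroup.normalizer ((Subgroup.zpowers x : Subgroup G) : Set G),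
      ∃ θ' ∈ Θ, ∀ k k' : K, (k' : G) = n * (k : G) * n⁻¹ → (θ' : K → ℂ) k' = (θ : K → ℂ) k)
    (d r : ℕ) (hd : ∀ θ ∈ Θ, Cfsg.charDegree (θ : K → ℂ) ≤ d) (hr0 : 0 < r)
    (hr : ∀ θ ∈ Θ, ∀ n ∈ Subgroup.normalizer ((Subgroup.zpowers x : Subgroup G) : Set G),
      ∀ k k' : K, (k' : G) = n ^ r * (k : G) * (n ^ r)⁻¹ → (θ : K → ℂ) k' = (θ : K → ℂ) k)
    (b : ℕ)
    (hb : ((thetaFix ρ K cΘ).map (ρ x - 1).mulVecLin).toAddSubgroup.relIndex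
      (thetaFix ρ K cΘ ⊓ LinearMap.ker (∑ i ∈ Finset.range p, ρ x ^ i).mulVecLin).toAddSubgroup
        = p ^ b) :
    b ≤ r * d * ∑ χ ∈ ℛ, Cfsg.charDegree (χ : G → ℂ) := by
  have hp : p.Prime := Fact.out
  have hKx : ∀ k ∈ K, k * x = x * k := fun k hk => (hC k).mpr ⟨0, k, hk, by simp⟩
  have hXp : ρ x ^ p = 1 := Helper75.lat_X_pow ρ x p hx
  have hEX : thetaAvg ρ K cΘ * ρ x = ρ x * thetaAvg ρ K cΘ := thetaAvg_comm ρ K cΘ x hKx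
  have hXL : ∀ v ∈ thetaFix ρ K cΘ, ρ x *ᵥ v ∈ thetaFix ρ K cΘ :=
    fun v hv => thetaFix_of_commute ρ K cΘ (ρ x) hEX.symm hv
  have hκ : ¬ (p : ℤ) ∣ (Nat.card K : ℤ) := fun h => hK (Int.natCast_dvd_natCast.mp h)
  have hNL : ∀ r ∈ Subgroup.normalizer ((Subgroup.zpowers x : Subgroup G) : Set G),
      ∀ v ∈ thetaFix ρ K cΘ, ρ r *ᵥ v ∈ thetaFix ρ K cΘ := by
    intro r hr v hv
    have hrK : ∀ k ∈ K, r * k * r⁻¹ ∈ K :=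
      fun k hk => Helper75.lat_K_normal p x hx K hK hC r hr k hk
    have hrK' : ∀ k ∈ K, r⁻¹ * k * r ∈ K := by
      intro k hk
      have := Helper75.lat_K_normal p x hx K hK hC r⁻¹ (inv_mem hr) k hk
      rwa [inv_inv] at this
    exact thetaFix_of_commute ρ K cΘ (ρ r) (thetaAvg_conj ρ K cΘ r hrK hrK'
      (fun k k' h => Helper14.d1_cTheta_conj K Θ cΘ hcΘ r hrK (fun θ hθ => hΘN θ hθ r hr) k k' h))
      hv
  obtain ⟨n₀, hn₀, hpn₀⟩ := Helper75.lat_n0 p x hx M₀ hM₀ hGM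
  have hmemM : ∀ v, v ∈ thetaFix ρ K cΘ ⊓ LinearMap.ker (∑ i ∈ Finset.range p, ρ x ^ i).mulVecLin
      ↔ v ∈ thetaFix ρ K cΘ ∧ (∑ i ∈ Finset.range p, ρ x ^ i) *ᵥ v = 0 := by
    intro v
    rw [Submodule.mem_inf, LinearMap.mem_ker, Matrix.mulVecLin_apply]
  have hmemT : ∀ v, v ∈ (thetaFix ρ K cΘ).map (ρ x - 1).mulVecLin
      ↔ ∃ u ∈ thetaFix ρ K cΘ, (ρ x - 1) *ᵥ u = v := by
    intro v
    rw [Submodule.mem_map]
    rfl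
  have hgeo : ∀ n : ℕ, ρ x ^ n = 1 + (ρ x - 1) * ∑ j ∈ Finset.range n, ρ x ^ j := by
    intro n
    rw [mul_geom_sum, add_sub_cancel]
  have hNT : ∀ r ∈ Subgroup.normalizer ((Subgroup.zpowers x : Subgroup G) : Set G),
      ∀ v ∈ (thetaFix ρ K cΘ).map (ρ x - 1).mulVecLin,
        ρ r *ᵥ v ∈ (thetaFix ρ K cΘ).map (ρ x - 1).mulVecLin := by
    intro r hr s hs
    obtain ⟨u, hu, rfl⟩ := (hmemT s).mp hs
    rw [hmemT]
    obtain ⟨j, hj⟩ := Helper75.lat_conj_mat ρ x r hr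
    refine ⟨(∑ i ∈ Finset.range j, ρ x ^ i) *ᵥ (ρ r *ᵥ u),
      Helper75.lat_geom_mem _ _ hXL j (hNL r hr u hu), ?_⟩
    have h1 : ρ r * (ρ x - 1) = (ρ x - 1) * ((∑ i ∈ Finset.range j, ρ x ^ i) * ρ r) := by
      rw [mul_sub, mul_one, hj, ← mul_assoc, mul_geom_sum, sub_mul, one_mul]
    rw [Matrix.mulVec_mulVec, Matrix.mulVec_mulVec, Matrix.mulVec_mulVec, h1, Matrix.mul_assoc]
  refine d1_one_side p ρ 𝒪 ℛ htr hℛ𝒪 M₀ hM₀ hGM hℛ x hx n₀ hn₀ hpn₀ (Nat.card K : ℤ) (-1) hκ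
    (Or.inr rfl) (thetaFix ρ K cΘ ⊓ LinearMap.ker (∑ i ∈ Finset.range p, ρ x ^ i).mulVecLin)
    ((thetaFix ρ K cΘ).map (ρ x - 1).mulVecLin)
    ?_ ?_ ?_ ?_ hNT ?_ ?_ ?_ ?_ ?_ K hK hC Θ cΘ hcΘ ?_ d r hd hr0 hr b hb
  · -- T ≤ M
    intro s hs
    obtain ⟨u, hu, rfl⟩ := (hmemT s).mp hs
    rw [hmemM]
    refine ⟨?_, ?_⟩
    · rw [Matrix.sub_mulVec, Matrix.one_mulVec]
      exact Submodule.sub_mem _ (hXL u hu) hu
    · rw [Matrix.mulVec_mulVec, Helper75.lat_nm_mul_sub ρ x p hx, Matrix.zero_mulVec]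
  · -- p M ⊆ T
    intro v hv
    obtain ⟨hvL, hvN⟩ := (hmemM v).mp hv
    rw [hmemT]
    refine ⟨-((∑ i ∈ Finset.range p, ∑ j ∈ Finset.range i, ρ x ^ j) *ᵥ v), ?_, ?_⟩
    · apply Submodule.neg_mem
      rw [Matrix.sum_mulVec]
      exact Submodule.sum_mem _ fun i _ => Helper75.lat_geom_mem _ _ hXL i hvL
    · have h1 := congrArg (fun A : Matrix (Fin N) (Fin N) ℤ => A *ᵥ v) (Helper75.lat_p_eq (ρ x) p)
      simp only [Matrix.sub_mulVec, hvN, zero_sub] at h1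
      rw [Matrix.mulVec_neg, Matrix.mulVec_mulVec, ← h1]
      ext k
      simp [Matrix.mulVec, dotProduct, Matrix.natCast_apply]
  · -- saturation
    intro v hv
    obtain ⟨hvL, hvN⟩ := (hmemM _).mp hv
    rw [hmemM]
    have hp0 : (p : ℤ) ≠ 0 := by exact_mod_cast hp.ne_zero
    refine ⟨?_, ?_⟩
    · rw [mem_thetaFix] at hvL ⊢
      rw [Matrix.mulVec_smul, smul_comm] at hvL
      exact smul_right_injective _ hp0 hvL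
    · rw [Matrix.mulVec_smul] at hvN
      have h2 : (p : ℤ) • ((∑ i ∈ Finset.range p, ρ x ^ i) *ᵥ v) = (p : ℤ) • 0 := by
        rw [hvN, smul_zero]
      exact smul_right_injective _ hp0 h2
  · -- N preserves M
    intro r hr v hv
    obtain ⟨hvL, hvN⟩ := (hmemM v).mp hv
    rw [hmemM]
    refine ⟨hNL r hr v hvL, ?_⟩
    rw [Matrix.mulVec_mulVec, ← Helper75.lat_nm_conj ρ x p hx r hr, ← Matrix.mulVec_mulVec, hvN,
      Matrix.mulVec_zero]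
  · -- commuting matrices preserve M
    intro γ hγ v hv
    obtain ⟨hvL, hvN⟩ := (hmemM v).mp hv
    rw [hmemM]
    refine ⟨thetaFix_of_commute ρ K cΘ γ (thetaAvg_commute ρ K cΘ γ hγ) hvL, ?_⟩
    rw [Matrix.mulVec_mulVec, ← Helper75.lat_commute_nm ρ x p γ hγ, ← Matrix.mulVec_mulVec, hvN,
      Matrix.mulVec_zero]
  · -- commuting matrices preserve T
    intro γ hγ s hs
    obtain ⟨u, hu, rfl⟩ := (hmemT s).mp hs
    rw [hmemT]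
    refine ⟨γ *ᵥ u, thetaFix_of_commute ρ K cΘ γ (thetaAvg_commute ρ K cΘ γ hγ) hu, ?_⟩
    have h1 : γ * (ρ x - 1) = (ρ x - 1) * γ := by
      rw [mul_sub, sub_mul, hγ x, mul_one, one_mul]
    rw [Matrix.mulVec_mulVec, Matrix.mulVec_mulVec, h1]
  · -- x acts trivially on M / T
    intro v hv
    obtain ⟨hvL, hvN⟩ := (hmemM v).mp hv
    rw [hmemT]
    exact ⟨v, hvL, by rw [Matrix.sub_mulVec, Matrix.one_mulVec]⟩
  · -- lifts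
    intro w hw ℓ hℓ
    obtain ⟨A, hA1, hA2, hA3⟩ := Helper47.lat_vlift p (thetaFix ρ K cΘ) (ρ x) (thetaAvg ρ K cΘ)
      (Nat.card K : ℤ) hXL hXp (thetaAvg_mem ρ K cΘ hconv) (fun v hv => (mem_thetaFix ρ K cΘ).mp hv)
      hEX w hw ℓ hℓ
    refine ⟨A, hA1, hA2, fun u hu => ?_⟩
    have e : A *ᵥ u - (-1 * (Nat.card K : ℤ) * (ℓ ⬝ᵥ u)) • w
        = A *ᵥ u + ((Nat.card K : ℤ) * (ℓ ⬝ᵥ u)) • w := by
      rw [neg_one_mul, neg_mul, neg_smul, sub_neg_eq_add]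
    rw [e]
    exact hA3 u hu
  · -- the δ-term
    intro D u hu hv
    obtain ⟨huL, huN⟩ := (hmemM u).mp hu
    obtain ⟨hvL, -⟩ := (hmemM _).mp hv
    have hinv : ∀ i : ℕ, (x ^ i)⁻¹ = x ^ (i * (p - 1)) := by
      intro i
      apply inv_eq_of_mul_eq_one_right
      rw [← pow_add]
      have h1 : i + i * (p - 1) = p * i := by
        have := hp.pos
        obtain ⟨q, rfl⟩ : ∃ q, p = q + 1 := ⟨p - 1, by omega⟩
        simp; ring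
      rw [h1, pow_mul, ← hx, pow_orderOf_eq_one, one_pow]
    have h1 : (∑ i ∈ Finset.range p, ρ (x ^ i)⁻¹ * D * ρ (x ^ i)) *ᵥ u
        = (ρ x - 1) *ᵥ (∑ i ∈ Finset.range p,
            (∑ j ∈ Finset.range (i * (p - 1)), ρ x ^ j) *ᵥ (D *ᵥ ((ρ x ^ i) *ᵥ u))) := by
      rw [Matrix.sum_mulVec, Matrix.mulVec_sum]
      have h2 : ∀ i ∈ Finset.range p, (ρ (x ^ i)⁻¹ * D * ρ (x ^ i)) *ᵥ u
          = D *ᵥ ((ρ x ^ i) *ᵥ u) + (ρ x - 1) *ᵥ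
            ((∑ j ∈ Finset.range (i * (p - 1)), ρ x ^ j) *ᵥ (D *ᵥ ((ρ x ^ i) *ᵥ u))) := by
        intro i _
        have e1 : (ρ (x ^ i)⁻¹ * D * ρ (x ^ i)) *ᵥ u
            = (ρ x ^ (i * (p - 1))) *ᵥ (D *ᵥ ((ρ x ^ i) *ᵥ u)) := by
          rw [hinv i, map_pow, map_pow, Matrix.mulVec_mulVec, Matrix.mulVec_mulVec,
            Matrix.mul_assoc]
        rw [e1]
        conv_lhs => rw [hgeo (i * (p - 1))]
        rw [Matrix.add_mulVec, Matrix.one_mulVec]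
        simp only [Matrix.mulVec_mulVec, Matrix.mul_assoc]
      rw [Finset.sum_congr rfl h2, Finset.sum_add_distrib]
      have h3 : ∑ i ∈ Finset.range p, D *ᵥ ((ρ x ^ i) *ᵥ u) = 0 := by
        rw [← Matrix.mulVec_sum, ← Matrix.sum_mulVec, huN, Matrix.mulVec_zero]
      rw [h3, zero_add]
    rw [← (mem_thetaFix ρ K cΘ).mp hvL, h1, hmemT]
    refine ⟨thetaAvg ρ K cΘ *ᵥ (∑ i ∈ Finset.range p,
      (∑ j ∈ Finset.range (i * (p - 1)), ρ x ^ j) *ᵥ (D *ᵥ ((ρ x ^ i) *ᵥ u))),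
      thetaAvg_mem ρ K cΘ hconv _, ?_⟩
    have h4 : thetaAvg ρ K cΘ * (ρ x - 1) = (ρ x - 1) * thetaAvg ρ K cΘ := by
      rw [mul_sub, sub_mul, hEX, mul_one, one_mul]
    rw [Matrix.mulVec_mulVec, ← h4, ← Matrix.mulVec_mulVec]
  · -- the Θ-condition
    intro v hv
    exact (mem_thetaFix ρ K cΘ).mp ((hmemM v).mp hv).1

set_option maxHeartbeats 1600000 in
theorem theta_lattice_bound (p : ℕ) [Fact p.Prime] : ThetaLatticeBoundStmt G p := by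
  classical
  intro x K _ 𝒪 ℛ Θ M₀ d r hx hK hC h𝒪 hM₀ hGM hℛ hΘ hΘN hd hr0 hr
  have hp : p.Prime := Fact.out
  have hKx : ∀ k ∈ K, k * x = x * k := fun k hk => (hC k).mpr ⟨0, k, hk, by simp⟩
  -- reduce to `ℛ ⊆ 𝒪`
  have hℛ' : ∀ χ ∈ 𝒪, ∃ χ₀ ∈ ℛ.filter (· ∈ 𝒪), ∃ τ : ℂ ≃+* ℂ,
      (∀ w : ℂ, w ^ M₀ = 1 → τ w = w) ∧ ∀ g : G, (χ : G → ℂ) g = τ ((χ₀ : G → ℂ) g) := by
    intro χ hχ
    obtain ⟨χ₀, h₀, τ, hτ, hχτ⟩ := hℛ χ hχ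
    refine ⟨χ₀, Finset.mem_filter.mpr ⟨h₀, ?_⟩, τ, hτ, hχτ⟩
    obtain ⟨χ', h', hχ'⟩ := h𝒪 χ hχ τ.symm
    have : χ' = χ₀ := by
      apply Subtype.ext
      funext g
      rw [hχ' g, hχτ g, RingEquiv.symm_apply_apply]
    rw [← this]; exact h'
  have hsub : ℛ.filter (· ∈ 𝒪) ⊆ 𝒪 := fun χ hχ => (Finset.mem_filter.mp hχ).2
  -- the lattice
  have hint := Helper75.lat_int 𝒪 h𝒪
  obtain ⟨N, ρ, hN, htr0⟩ := Helper39.lat_exists 𝒪 hint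
  have htr : ∀ g : G, (((ρ g).trace : ℤ) : ℂ)
      = ∑ χ ∈ 𝒪, ((Cfsg.charDegree (χ : G → ℂ) : ℕ) : ℂ) * (χ : G → ℂ) g := by
    intro g
    rw [htr0 g]
    refine Finset.sum_congr rfl (fun χ _ => ?_)
    rw [Helper79.isCharacter_one_eq_charDegree (Helper79.isCharacter_of_irr χ.2)]
  obtain ⟨cΘ, hcΘ, hconv, -⟩ := Helper74.d1_cTheta K Θ hΘ
  have hXp : ρ x ^ p = 1 := Helper75.lat_X_pow ρ x p hx
  have hEX : thetaAvg ρ K cΘ * ρ x = ρ x * thetaAvg ρ K cΘ := thetaAvg_comm ρ K cΘ x hKx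
  have hXL : ∀ v ∈ thetaFix ρ K cΘ, ρ x *ᵥ v ∈ thetaFix ρ K cΘ :=
    fun v hv => thetaFix_of_commute ρ K cΘ (ρ x) hEX.symm hv
  have hκ0 : (Nat.card K : ℤ) ≠ 0 := by exact_mod_cast (Nat.card_pos (α := K)).ne'
  -- traces
  have htrE : ∀ k : ℕ, (((thetaAvg ρ K cΘ * ρ x ^ k).trace : ℤ) : ℂ)
      = ∑ κ' : K, ((cΘ κ' : ℤ) : ℂ)
          * ∑ χ ∈ 𝒪, (χ : G → ℂ) 1 * (χ : G → ℂ) ((κ' : G) * x ^ k) := by
    intro k
    unfold thetaAvg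
    rw [Finset.sum_mul, Matrix.trace_sum, Int.cast_sum]
    refine Finset.sum_congr rfl (fun κ' _ => ?_)
    rw [Matrix.smul_mul, Matrix.trace_smul, ← map_pow, ← map_mul, smul_eq_mul, Int.cast_mul, htr0]
  have htrE1 : (((thetaAvg ρ K cΘ * ρ x).trace : ℤ) : ℂ)
      = ∑ κ' : K, ((cΘ κ' : ℤ) : ℂ)
          * ∑ χ ∈ 𝒪, (χ : G → ℂ) 1 * (χ : G → ℂ) ((κ' : G) * x) := by
    have := htrE 1
    simpa only [pow_one] using this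
  -- |G| = p * m'
  have hpG : p ∣ Nat.card G := by rw [← hx]; exact orderOf_dvd_natCard x
  obtain ⟨m', hm'⟩ := hpG
  have hpm' : ¬ p ∣ m' := by
    intro h
    obtain ⟨t, rfl⟩ := h
    rw [hm'] at hGM
    have h3 := (Nat.mul_dvd_mul_iff_left hp.pos).mp hGM
    exact hM₀ ((dvd_mul_right p t).trans h3)
  have hcop : Nat.Coprime p m' := (Nat.Prime.coprime_iff_not_dvd hp).mpr hpm'
  have htr' : ∀ k ∈ Finset.Ico 1 p,
      (thetaAvg ρ K cΘ * ρ x ^ k).trace = (thetaAvg ρ K cΘ * ρ x).trace := by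
    intro k hk
    obtain ⟨hk1, hkp⟩ := Finset.mem_Ico.mp hk
    have h1 := htrE k
    have h2 := htrE1
    have h3 : ∑ κ' : K, ((cΘ κ' : ℤ) : ℂ)
          * ∑ χ ∈ 𝒪, (χ : G → ℂ) 1 * (χ : G → ℂ) ((κ' : G) * x ^ k)
        = ∑ κ' : K, ((cΘ κ' : ℤ) : ℂ)
          * ∑ χ ∈ 𝒪, (χ : G → ℂ) 1 * (χ : G → ℂ) ((κ' : G) * x) := by
      refine Finset.sum_congr rfl (fun κ' _ => ?_)
      congr 1
      -- choose j ≡ k mod p, j ≡ 1 mod m'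
      obtain ⟨j, hj1, hj2⟩ := Nat.chineseRemainder hcop k 1
      have hjp : Nat.Coprime j p := by
        rw [Nat.coprime_comm, Nat.Prime.coprime_iff_not_dvd hp]
        intro h
        have h4 : p ∣ k := (Nat.modEq_zero_iff_dvd.mp
          (hj1.symm.trans (Nat.modEq_zero_iff_dvd.mpr h)))
        exact absurd (Nat.le_of_dvd (by omega) h4) (by omega)
      have hjm : Nat.Coprime j m' := by
        have := hj2.gcd_eq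
        rw [Nat.gcd_one_left] at this
        exact this
      have hjG : Nat.Coprime j (Nat.card G) := by
        rw [hm']; exact Nat.Coprime.mul_right hjp hjm
      have hκord : orderOf (κ' : G) ∣ m' := by
        have h5 : orderOf (κ' : G) ∣ p * m' := by rw [← hm']; exact orderOf_dvd_natCard _
        have h6 : ¬ p ∣ orderOf (κ' : G) :=
          ((Helper75.lat_mem_K_iff p x hx K hK hC (κ' : G)).mp κ'.2).2
        exact (Nat.Coprime.dvd_mul_left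
          ((Nat.Prime.coprime_iff_not_dvd hp).mpr h6).symm).mp h5
      have h7 : ((κ' : G) * x) ^ j = (κ' : G) * x ^ k := by
        have hc : Commute (κ' : G) x := hKx _ κ'.2
        rw [hc.mul_pow]
        congr 1
        · have : (κ' : G) ^ j = (κ' : G) ^ 1 :=
            pow_eq_pow_iff_modEq.mpr (hj2.of_dvd hκord)
          rw [this, pow_one]
        · exact pow_eq_pow_iff_modEq.mpr (by rw [hx]; exact hj1)
      rw [← h7, Helper75.lat_pow_inv 𝒪 hint j hjG]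
    rw [h3, ← h2] at h1
    exact_mod_cast h1
  obtain ⟨a, b, ha, hb, hab⟩ := Helper67.lat_herbrand p (thetaFix ρ K cΘ) (ρ x)
    (thetaAvg ρ K cΘ) (Nat.card K : ℤ) hκ0 hXL hXp (thetaAvg_mem ρ K cΘ hconv)
    (fun v hv => (mem_thetaFix ρ K cΘ).mp hv) htr'
  have hale := d1_a_le p ρ 𝒪 (ℛ.filter (· ∈ 𝒪)) htr hsub M₀ hM₀ hGM hℛ' x hx K hK hC Θ cΘ hcΘ
    hconv hΘN d r hd hr0 hr a ha
  have hble := d1_b_le p ρ 𝒪 (ℛ.filter (· ∈ 𝒪)) htr hsub M₀ hM₀ hGM hℛ' x hx K hK hC Θ cΘ hcΘ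
    hconv hΘN d r hd hr0 hr b hb
  have hle : ∑ χ ∈ ℛ.filter (· ∈ 𝒪), Cfsg.charDegree (χ : G → ℂ)
      ≤ ∑ χ ∈ ℛ, Cfsg.charDegree (χ : G → ℂ) :=
    Finset.sum_le_sum_of_subset (Finset.filter_subset _ _)
  -- the left side is `κ (a - b)`
  have hLHS : ∑ θ ∈ Θ, ∑ χ ∈ 𝒪, ∑ k : K, (χ : G → ℂ) 1 * (θ : K → ℂ) 1
        * (χ : G → ℂ) (x * (k : G)) * conj ((θ : K → ℂ) k)
      = (((Nat.card K : ℤ) * ((a : ℤ) - b) : ℤ) : ℂ) := by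
    rw [hab, htrE1]
    calc ∑ θ ∈ Θ, ∑ χ ∈ 𝒪, ∑ k : K, (χ : G → ℂ) 1 * (θ : K → ℂ) 1
            * (χ : G → ℂ) (x * (k : G)) * conj ((θ : K → ℂ) k)
        = ∑ θ ∈ Θ, ∑ k : K, ∑ χ ∈ 𝒪, (χ : G → ℂ) 1 * (θ : K → ℂ) 1
            * (χ : G → ℂ) (x * (k : G)) * conj ((θ : K → ℂ) k) :=
          Finset.sum_congr rfl (fun θ _ => Finset.sum_comm)
      _ = ∑ k : K, ∑ θ ∈ Θ, ∑ χ ∈ 𝒪, (χ : G → ℂ) 1 * (θ : K → ℂ) 1
            * (χ : G → ℂ) (x * (k : G)) * conj ((θ : K → ℂ) k) := Finset.sum_comm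
      _ = ∑ κ' : K, ((cΘ κ' : ℤ) : ℂ)
            * ∑ χ ∈ 𝒪, (χ : G → ℂ) 1 * (χ : G → ℂ) ((κ' : G) * x) := by
          refine Finset.sum_congr rfl (fun k _ => ?_)
          rw [hcΘ k, Finset.sum_mul]
          refine Finset.sum_congr rfl (fun θ _ => ?_)
          rw [Finset.mul_sum]
          refine Finset.sum_congr rfl (fun χ _ => ?_)
          rw [hKx _ k.2]
          ring
  rw [hLHS, Complex.norm_intCast]
  have h1 : |(((Nat.card K : ℤ) * ((a : ℤ) - b) : ℤ) : ℝ)|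
      = (Nat.card K : ℝ) * |((a : ℝ) - b)| := by
    push_cast
    rw [abs_mul, abs_of_nonneg (Nat.cast_nonneg _)]
  rw [h1, mul_assoc]
  apply mul_le_mul_of_nonneg_left _ (Nat.cast_nonneg _)
  have h2 : |((a : ℝ) - b)| ≤ ((r * d * ∑ χ ∈ ℛ, Cfsg.charDegree (χ : G → ℂ) : ℕ) : ℝ) := by
    have ha' : (a : ℝ) ≤ ((r * d * ∑ χ ∈ ℛ, Cfsg.charDegree (χ : G → ℂ) : ℕ) : ℝ) := by
      exact_mod_cast hale.trans (Nat.mul_le_mul_left _ hle)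
    have hb' : (b : ℝ) ≤ ((r * d * ∑ χ ∈ ℛ, Cfsg.charDegree (χ : G → ℂ) : ℕ) : ℝ) := by
      exact_mod_cast hble.trans (Nat.mul_le_mul_left _ hle)
    rw [abs_le]
    constructor
    · have : (0 : ℝ) ≤ (a : ℝ) := Nat.cast_nonneg _
      linarith
    · have : (0 : ℝ) ≤ (b : ℝ) := Nat.cast_nonneg _
      linarith
  calc |((a : ℝ) - b)| ≤ ((r * d * ∑ χ ∈ ℛ, Cfsg.charDegree (χ : G → ℂ) : ℕ) : ℝ) := h2
    _ = ((r * d : ℕ) : ℝ) * ∑ χ ∈ ℛ, (Cfsg.charDegree (χ : G → ℂ) : ℝ) := by push_cast; rfl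

end Cfsg.Agent.Helper77
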