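import Mathlib
import Cfsg.Prelude.Def_Characters
import Cfsg.Prelude.Def_Blocks
import Cfsg.Agent.Helper77.D1Defs2
import Cfsg.Agent.Helper29.D1IG

/-!
# Fourier analysis on `ZMod p` for the defect-one theory (helper77)
-/

set_option autoImplicit false
open Cfsg
open scoped ComplexConjugate

namespace Cfsg.Agent.Helper77

theorem d1f_add (p : ℕ) [NeZero p] (ζ : ℂ) (hζ : ζ ^ p = 1) (a b : ZMod p) :
    ζ ^ (a + b).val = ζ ^ a.val * ζ ^ b.val := by
  rw [ZMod.val_add, ← pow_eq_pow_mod _ hζ, pow_add]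

theorem d1f_natCast (p : ℕ) [NeZero p] (ζ : ℂ) (hζ : ζ ^ p = 1) (n : ℕ) :
    ζ ^ (n : ZMod p).val = ζ ^ n := by
  rw [ZMod.val_natCast, ← pow_eq_pow_mod _ hζ]

theorem d1f_mul_val (p : ℕ) [NeZero p] (ζ : ℂ) (hζ : ζ ^ p = 1) (a b : ZMod p) :
    ζ ^ (a * b).val = ζ ^ (a.val * b.val) := by
  rw [ZMod.val_mul, ← pow_eq_pow_mod _ hζ]

theorem d1f_natCast_mul (p : ℕ) [NeZero p] (ζ : ℂ) (hζ : ζ ^ p = 1) (n : ℕ) (l : ZMod p) :
    ζ ^ ((n : ZMod p) * l).val = ζ ^ (n * l.val) := by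
  rw [d1f_mul_val p ζ hζ, pow_mul, d1f_natCast p ζ hζ, ← pow_mul]

theorem d1f_sum (p : ℕ) [Fact p.Prime] (ζ : ℂ) (hζ : IsPrimitiveRoot ζ p) (j : ZMod p) :
    ∑ i : ZMod p, ζ ^ (i * j).val = if j = 0 then (p : ℂ) else 0 := by
  have hp : p.Prime := Fact.out
  by_cases hj : j = 0
  · subst hj
    simp [ZMod.card]
  · rw [if_neg hj]
    have h1 : ∑ i : ZMod p, ζ ^ (i * j).val = ∑ i : ZMod p, ζ ^ i.val :=
      Fintype.sum_equiv (Equiv.mulRight₀ j hj) _ _ (fun i => rfl)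
    rw [h1, Helper29.d1_zmod_sum_val p (fun m => ζ ^ m)]
    exact hζ.geom_sum_eq_zero hp.one_lt

/-- Fourier inversion on `ZMod p`. -/
theorem d1f_inv (p : ℕ) [Fact p.Prime] (ζ : ℂ) (hζ : IsPrimitiveRoot ζ p) (A : ZMod p → ℂ)
    (m : ZMod p) :
    ∑ i : ZMod p, (∑ l : ZMod p, A l * ζ ^ (i * l).val) * ζ ^ (-(i * m)).val
      = (p : ℂ) * A m := by
  have hζp := hζ.pow_eq_one
  calc ∑ i : ZMod p, (∑ l : ZMod p, A l * ζ ^ (i * l).val) * ζ ^ (-(i * m)).val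
      = ∑ i : ZMod p, ∑ l : ZMod p, A l * ζ ^ (i * (l - m)).val := by
        refine Finset.sum_congr rfl (fun i _ => ?_)
        rw [Finset.sum_mul]
        refine Finset.sum_congr rfl (fun l _ => ?_)
        rw [mul_assoc, ← d1f_add p ζ hζp]
        congr 3
        ring
    _ = ∑ l : ZMod p, A l * ∑ i : ZMod p, ζ ^ (i * (l - m)).val := by
        rw [Finset.sum_comm]
        exact Finset.sum_congr rfl (fun l _ => (Finset.mul_sum _ _ _).symm)
    _ = (p : ℂ) * A m := by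
        rw [Finset.sum_eq_single m]
        · rw [d1f_sum p ζ hζ, if_pos (sub_self m), mul_comm]
        · intro l _ hl
          rw [d1f_sum p ζ hζ, if_neg (sub_ne_zero.mpr hl), mul_zero]
        · intro h0
          exact absurd (Finset.mem_univ _) h0

/-- A function on `ZMod p` whose Fourier transform vanishes off `0` is constant. -/
theorem d1f_const (p : ℕ) [Fact p.Prime] (ζ : ℂ) (hζ : IsPrimitiveRoot ζ p) (A : ZMod p → ℂ)
    (h : ∀ i : ZMod p, i ≠ 0 → ∑ l : ZMod p, A l * ζ ^ (i * l).val = 0) (l l' : ZMod p) :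
    A l = A l' := by
  have key : ∀ m : ZMod p, (p : ℂ) * A m = ∑ l : ZMod p, A l := by
    intro m
    rw [← d1f_inv p ζ hζ A m, Finset.sum_eq_single (0 : ZMod p)]
    · simp
    · intro i _ hi
      rw [h i hi, zero_mul]
    · intro h0
      exact absurd (Finset.mem_univ _) h0
  have hp0 : (p : ℂ) ≠ 0 := Nat.cast_ne_zero.mpr (Fact.out : p.Prime).ne_zero
  exact mul_left_cancel₀ hp0 ((key l).trans (key l').symm)

/-- The Fourier transform on `ZMod p` is injective. -/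
theorem d1f_inj (p : ℕ) [Fact p.Prime] (ζ : ℂ) (hζ : IsPrimitiveRoot ζ p) (A B : ZMod p → ℂ)
    (h : ∀ i : ZMod p, ∑ l : ZMod p, A l * ζ ^ (i * l).val = ∑ l : ZMod p, B l * ζ ^ (i * l).val)
    (m : ZMod p) : A m = B m := by
  have hp0 : (p : ℂ) ≠ 0 := Nat.cast_ne_zero.mpr (Fact.out : p.Prime).ne_zero
  apply mul_left_cancel₀ hp0
  rw [← d1f_inv p ζ hζ A m, ← d1f_inv p ζ hζ B m]
  exact Finset.sum_congr rfl (fun i _ => by rw [h i])

/-- Reindexing the Fourier transform by a unit. -/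
theorem d1f_reindex (p : ℕ) [Fact p.Prime] (ζ : ℂ) (A : ZMod p → ℂ) (s : (ZMod p)ˣ)
    (i : ZMod p) :
    ∑ l : ZMod p, A l * ζ ^ ((s : ZMod p) * i * l).val
      = ∑ l : ZMod p, A (((s⁻¹ : (ZMod p)ˣ) : ZMod p) * l) * ζ ^ (i * l).val := by
  refine Fintype.sum_equiv (Equiv.mulLeft₀ (s : ZMod p) s.ne_zero) _ _ (fun l => ?_)
  simp only [Equiv.mulLeft₀_apply]
  rw [← mul_assoc, Units.inv_mul, one_mul]
  congr 2
  ring

end Cfsg.Agent.Helper77
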