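import Mathlib
import Cfsg.Prelude.Def_Characters
import Cfsg.Prelude.Def_Blocks
import Cfsg.Agent.Helper77.D1Defs2
import Cfsg.Agent.Helper77.D1Fourier
import Cfsg.Agent.Helper29.D1ID
import Cfsg.Agent.Helper29.D1IE
import Cfsg.Agent.Helper29.D1IG
import Cfsg.Agent.Helper55.D1IC
import Cfsg.Agent.Helper55.D1IK
import Cfsg.Agent.Helper65.D1IF
import Cfsg.Agent.Helper65.D1II
import Cfsg.Agent.Helper74.D1IB
import Cfsg.Agent.Helper79.S4441Setup
import Cfsg.Agent.Helper81.CharBasic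

/-!
# The main theorem on blocks of defect one: the hypotheses of the abstract theorem (helper77)

`D1Coeff p x K θ a`: the integers `a χ l` are Fourier coefficients of `i ↦ dco K θ χ (x ^ i)`.
The lemmas `d1m_*` verify the hypotheses of the abstract combinatorial theorem (piece AC).
-/

set_option autoImplicit false
open Cfsg
open scoped ComplexConjugate

namespace Cfsg.Agent.Helper77

universe u

variable {G : Type u} [Group G] [Finite G]

/-- `a` gives the Fourier coefficients of the `θ`-coefficients on `⟨x⟩`. -/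
def D1Coeff (p : ℕ) [Fact p.Prime] (x : G) (K : Subgroup G) (θ : K → ℂ)
    (a : Cfsg.IrrCharacter G → ZMod p → ℤ) : Prop :=
  ∀ (χ : Cfsg.IrrCharacter G) (n : ℕ), dco K θ (χ : G → ℂ) (x ^ n)
    = ∑ l : ZMod p, (a χ l : ℂ) * d1zeta p ^ ((n : ZMod p) * l).val

omit [Finite G] in
theorem d1zeta_prim (p : ℕ) [Fact p.Prime] : IsPrimitiveRoot (d1zeta p) p :=
  Complex.isPrimitiveRoot_exp p (Fact.out : p.Prime).ne_zero

theorem d1m_exists_coeff (p : ℕ) [Fact p.Prime] (x : G) (K : Subgroup G) (h : D1Hyp p x K)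
    (θ : Cfsg.IrrCharacter K) :
    ∃ a : Cfsg.IrrCharacter G → ZMod p → ℤ, D1Coeff p x K (θ : K → ℂ) a := by
  obtain ⟨a, ha⟩ := Helper29.d1_dco_mult p x K h θ
  refine ⟨fun χ l => (a χ l : ℤ), fun χ n => ?_⟩
  rw [ha χ n]
  refine Finset.sum_congr rfl (fun l _ => ?_)
  rw [d1f_natCast_mul p _ (d1zeta_prim p).pow_eq_one]
  push_cast
  rfl

omit [Finite G] in
theorem D1Coeff.val {p : ℕ} [Fact p.Prime] {x : G} {K : Subgroup G} {θ : K → ℂ}
    {a : Cfsg.IrrCharacter G → ZMod p → ℤ} (ha : D1Coeff p x K θ a)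
    (χ : Cfsg.IrrCharacter G) (i : ZMod p) :
    dco K θ (χ : G → ℂ) (x ^ i.val) = ∑ l : ZMod p, (a χ l : ℂ) * d1zeta p ^ (i * l).val := by
  rw [ha χ i.val, ZMod.natCast_zmod_val]

omit [Finite G] in
theorem D1Coeff.one {p : ℕ} [Fact p.Prime] {x : G} {K : Subgroup G} {θ : K → ℂ}
    {a : Cfsg.IrrCharacter G → ZMod p → ℤ} (ha : D1Coeff p x K θ a)
    (χ : Cfsg.IrrCharacter G) :
    dco K θ (χ : G → ℂ) x = ∑ l : ZMod p, (a χ l : ℂ) * d1zeta p ^ l.val := by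
  have h1 := ha χ 1
  rw [pow_one, Nat.cast_one] at h1
  rw [h1]
  refine Finset.sum_congr rfl (fun l _ => ?_)
  rw [one_mul]

theorem d1m_mem_normalizer (x n : G) (j : ℕ) (hn : n * x * n⁻¹ = x ^ j) :
    n ∈ Subgroup.normalizer ((Subgroup.zpowers x : Subgroup G) : Set G) := by
  apply Subgroup.mem_normalizer_fintype
  intro g hg
  obtain ⟨z, rfl⟩ := Subgroup.mem_zpowers_iff.mp hg
  have h1 : n * x ^ z * n⁻¹ = (n * x * n⁻¹) ^ z := (conj_zpow).symm
  rw [h1, hn]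
  exact Subgroup.zpow_mem _ (Subgroup.npow_mem_zpowers x j) z

omit [Finite G] in
theorem d1m_conj_pow (x n : G) (j i : ℕ) (hn : n * x * n⁻¹ = x ^ j) :
    n * x ^ i * n⁻¹ = x ^ (j * i) := by
  rw [← conj_pow, hn, pow_mul]

omit [Finite G] in
theorem d1m_pow_eq {p : ℕ} [Fact p.Prime] {x : G} (hx : orderOf x = p) (m n : ℕ)
    (h : (m : ZMod p) = (n : ZMod p)) : x ^ m = x ^ n := by
  rw [pow_eq_pow_iff_modEq, hx]
  exact (ZMod.natCast_eq_natCast_iff m n p).mp h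

omit [Finite G] in
theorem d1m_not_dvd_val {p : ℕ} [Fact p.Prime] (i : ZMod p) (hi : i ≠ 0) : ¬ p ∣ i.val := by
  intro hd
  apply hi
  rw [← ZMod.natCast_zmod_val i]
  exact (ZMod.natCast_eq_zero_iff i.val p).mpr hd

/-- Invariance of the Fourier coefficients under the stabilizer units. -/
theorem d1m_hE (p : ℕ) [Fact p.Prime] (x : G) (K : Subgroup G) (h : D1Hyp p x K)
    (θ : Cfsg.IrrCharacter K) (a : Cfsg.IrrCharacter G → ZMod p → ℤ)
    (ha : D1Coeff p x K (θ : K → ℂ) a) (χ : Cfsg.IrrCharacter G) (s : (ZMod p)ˣ)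
    (hs : s ∈ stabUnits p x K (θ : K → ℂ)) (l : ZMod p) :
    a χ ((s : ZMod p) * l) = a χ l := by
  have hζ := d1zeta_prim p
  obtain ⟨n, hn, hθ⟩ := hs
  have hnN := d1m_mem_normalizer x n _ hn
  have key : ∀ i : ZMod p, ∑ l : ZMod p, (a χ l : ℂ) * d1zeta p ^ ((s : ZMod p) * i * l).val
      = ∑ l : ZMod p, (a χ l : ℂ) * d1zeta p ^ (i * l).val := by
    intro i
    have h1 := Helper29.d1_dco_conj p x K h (θ : K → ℂ) (θ : K → ℂ) n hnN hθ χ (x ^ i.val)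
    rw [d1m_conj_pow x n _ _ hn, ha χ, ha χ] at h1
    rw [Nat.cast_mul, ZMod.natCast_zmod_val, ZMod.natCast_zmod_val] at h1
    exact h1
  have h2 : ∀ i : ZMod p,
      ∑ l : ZMod p, (a χ (((s⁻¹ : (ZMod p)ˣ) : ZMod p) * l) : ℂ) * d1zeta p ^ (i * l).val
        = ∑ l : ZMod p, (a χ l : ℂ) * d1zeta p ^ (i * l).val := fun i =>
    (d1f_reindex p (d1zeta p) (fun l => (a χ l : ℂ)) s i).symm.trans (key i)
  have h3 := d1f_inj p (d1zeta p) hζ
    (fun l => (a χ (((s⁻¹ : (ZMod p)ˣ) : ZMod p) * l) : ℂ)) (fun l => (a χ l : ℂ)) h2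
    ((s : ZMod p) * l)
  beta_reduce at h3
  rw [← mul_assoc, Units.inv_mul, one_mul] at h3
  exact_mod_cast h3.symm

/-- The orthogonality relations, over a finset `T` containing `blkTheta`. -/
theorem d1m_horth (p : ℕ) [Fact p.Prime] (x : G) (K : Subgroup G) (h : D1Hyp p x K)
    (θ : Cfsg.IrrCharacter K) (a : Cfsg.IrrCharacter G → ZMod p → ℤ)
    (ha : D1Coeff p x K (θ : K → ℂ) a) (T : Finset (Cfsg.IrrCharacter G))
    (hT : ∀ χ, χ ∈ blkTheta K x (θ : K → ℂ) → χ ∈ T) (i i' : ZMod p) (hi : i ≠ 0)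
    (hi' : i' ≠ 0) :
    ((∃ s : (ZMod p)ˣ, s ∈ stabUnits p x K (θ : K → ℂ) ∧ i' = (s : ZMod p) * i) →
      ∑ χ ∈ T, (∑ l : ZMod p, (a χ l : ℂ) * d1zeta p ^ (i * l).val)
          * conj (∑ l : ZMod p, (a χ l : ℂ) * d1zeta p ^ (i' * l).val) = (p : ℂ)) ∧
    ((¬ ∃ s : (ZMod p)ˣ, s ∈ stabUnits p x K (θ : K → ℂ) ∧ i' = (s : ZMod p) * i) →
      ∑ χ ∈ T, (∑ l : ZMod p, (a χ l : ℂ) * d1zeta p ^ (i * l).val)
          * conj (∑ l : ZMod p, (a χ l : ℂ) * d1zeta p ^ (i' * l).val) = 0) := by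
  classical
  have hp : p.Prime := Fact.out
  haveI : Fintype (Cfsg.IrrCharacter G) := Fintype.ofFinite _
  have hiv := d1m_not_dvd_val i hi
  have hiv' := d1m_not_dvd_val i' hi'
  have hsum : ∑ᶠ χ : Cfsg.IrrCharacter G, dco K (θ : K → ℂ) (χ : G → ℂ) (x ^ i.val)
        * conj (dco K (θ : K → ℂ) (χ : G → ℂ) (x ^ i'.val))
      = ∑ χ ∈ T, (∑ l : ZMod p, (a χ l : ℂ) * d1zeta p ^ (i * l).val)
          * conj (∑ l : ZMod p, (a χ l : ℂ) * d1zeta p ^ (i' * l).val) := by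
    rw [finsum_eq_sum_of_fintype]
    rw [← Finset.sum_subset (Finset.subset_univ T)]
    · exact Finset.sum_congr rfl (fun χ _ => by rw [ha.val χ i, ha.val χ i'])
    · intro χ _ hχ
      have h0 : dco K (θ : K → ℂ) (χ : G → ℂ) (x ^ i.val) = 0 := by
        by_contra hne
        exact hχ (hT χ ((Helper55.d1_dco_ne_zero_iff p x K h θ χ i.val hiv).mp hne))
      rw [h0, zero_mul]
  have hiff : (∃ n : G, n * x ^ i.val * n⁻¹ = x ^ i'.val
        ∧ thetaConj K n (θ : K → ℂ) (θ : K → ℂ))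
      ↔ ∃ s : (ZMod p)ˣ, s ∈ stabUnits p x K (θ : K → ℂ) ∧ i' = (s : ZMod p) * i := by
    constructor
    · rintro ⟨n, hn, hθ⟩
      refine ⟨Units.mk0 (i' * i⁻¹) (mul_ne_zero hi' (inv_ne_zero hi)), ⟨n, ?_, hθ⟩, ?_⟩
      · have h1 : x ^ (i.val * (i⁻¹ : ZMod p).val) = x := by
          have := d1m_pow_eq h.hx (i.val * (i⁻¹ : ZMod p).val) 1 (by
            rw [Nat.cast_mul, ZMod.natCast_zmod_val, ZMod.natCast_zmod_val, Nat.cast_one,
              mul_inv_cancel₀ hi])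
          rwa [pow_one] at this
        have h2 : n * x * n⁻¹ = (n * x ^ i.val * n⁻¹) ^ (i⁻¹ : ZMod p).val := by
          rw [conj_pow, ← pow_mul, h1]
        rw [h2, hn, ← pow_mul]
        apply d1m_pow_eq h.hx
        rw [Nat.cast_mul, ZMod.natCast_zmod_val, ZMod.natCast_zmod_val, ZMod.natCast_zmod_val,
          Units.val_mk0]
      · rw [Units.val_mk0, mul_assoc, inv_mul_cancel₀ hi, mul_one]
    · rintro ⟨s, ⟨n, hn, hθ⟩, rfl⟩
      refine ⟨n, ?_, hθ⟩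
      rw [d1m_conj_pow x n _ _ hn]
      apply d1m_pow_eq h.hx
      rw [Nat.cast_mul, ZMod.natCast_zmod_val, ZMod.natCast_zmod_val, ZMod.natCast_zmod_val]
  have hIB := Helper74.d1_dco_orth p x K h θ θ i.val i'.val hiv hiv'
  rw [hsum, hiff] at hIB
  exact hIB

/-- Galois conjugation by an inertial automorphism: the block is preserved and the Fourier
coefficients are permuted. -/
theorem d1m_gal (p : ℕ) [Fact p.Prime] (x : G) (K : Subgroup G)
    (θ : Cfsg.IrrCharacter K) (a : Cfsg.IrrCharacter G → ZMod p → ℤ)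
    (ha : D1Coeff p x K (θ : K → ℂ) a) (τ : ℂ ≃+* ℂ) (u : (ZMod p)ˣ)
    (hτθ : ∀ k : K, τ ((θ : K → ℂ) k) = (θ : K → ℂ) k)
    (hτζ : τ (d1zeta p) = d1zeta p ^ (u : ZMod p).val) (χ : Cfsg.IrrCharacter G) :
    (∀ y : G, dco K (θ : K → ℂ) (Helper79.galIrr τ χ : G → ℂ) y
      = τ (dco K (θ : K → ℂ) (χ : G → ℂ) y)) ∧
    ∀ l : ZMod p, a (Helper79.galIrr τ χ) ((u : ZMod p) * l) = a χ l := by
  have hζ := d1zeta_prim p
  have hζp := hζ.pow_eq_one
  have h1 : ∀ y : G, dco K (θ : K → ℂ) (Helper79.galIrr τ χ : G → ℂ) y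
      = τ (dco K (θ : K → ℂ) (χ : G → ℂ) y) := fun y =>
    Helper29.d1_dco_gal K τ θ θ (fun k => (hτθ k).symm) χ (Helper79.galIrr τ χ) (fun g => rfl) y
  refine ⟨h1, fun l => ?_⟩
  have key : ∀ i : ZMod p,
      ∑ l : ZMod p, (a (Helper79.galIrr τ χ) l : ℂ) * d1zeta p ^ (i * l).val
        = ∑ l : ZMod p, (a χ (((u⁻¹ : (ZMod p)ˣ) : ZMod p) * l) : ℂ) * d1zeta p ^ (i * l).val := by
    intro i
    rw [← ha.val (Helper79.galIrr τ χ) i, h1, ha.val χ i, map_sum,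
      ← d1f_reindex p (d1zeta p) (fun l => (a χ l : ℂ)) u i]
    refine Finset.sum_congr rfl (fun l _ => ?_)
    rw [map_mul, map_intCast, map_pow, hτζ, ← pow_mul, mul_assoc,
      d1f_mul_val p _ hζp (u : ZMod p) (i * l)]
  have h3 := d1f_inj p (d1zeta p) hζ (fun l => (a (Helper79.galIrr τ χ) l : ℂ))
    (fun l => (a χ (((u⁻¹ : (ZMod p)ˣ) : ZMod p) * l) : ℂ)) key ((u : ZMod p) * l)
  beta_reduce at h3
  rw [← mul_assoc, Units.inv_mul, one_mul] at h3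
  exact_mod_cast h3

/-- The `galRel`-class of `χ` is the orbit of `χ` under the chosen inertial automorphisms. -/
theorem d1m_orbit (p : ℕ) [Fact p.Prime] (x : G) (K : Subgroup G) (h : D1Hyp p x K)
    (M₀ : ℕ) (hM₀ : ¬ p ∣ M₀) (hGM : Nat.card G ∣ p * M₀) (τ : (ZMod p)ˣ → ℂ ≃+* ℂ)
    (hτM : ∀ u, ∀ w : ℂ, w ^ M₀ = 1 → τ u w = w)
    (hτζ : ∀ u : (ZMod p)ˣ, τ u (d1zeta p) = d1zeta p ^ (u : ZMod p).val)
    (χ χ' : Cfsg.IrrCharacter G) :
    galRel M₀ (χ : G → ℂ) (χ' : G → ℂ) ↔ ∃ u : (ZMod p)ˣ, χ' = Helper79.galIrr (τ u) χ := by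
  obtain ⟨hin1, -, hin3⟩ := Helper65.d1_inertial p x K h M₀ hM₀ hGM
  constructor
  · rintro ⟨σ, hσ, hχ⟩
    obtain ⟨-, u, hu, -⟩ := hin1 σ hσ
    refine ⟨u, ?_⟩
    apply Subtype.ext
    funext g
    rw [hχ g, Helper79.galIrr_apply]
    have h1 := hin3 (σ.trans (τ u).symm) (fun w hw => by
      rw [RingEquiv.trans_apply, hσ w hw, RingEquiv.symm_apply_eq, hτM u w hw]) (by
      rw [RingEquiv.trans_apply, hu, RingEquiv.symm_apply_eq, hτζ u]) χ g
    rw [RingEquiv.trans_apply, RingEquiv.symm_apply_eq] at h1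
    exact h1
  · rintro ⟨u, rfl⟩
    exact ⟨τ u, hτM u, fun g => rfl⟩

/-- Orthogonality to the `p`-regular columns, for the Fourier coefficients. -/
theorem d1m_hW (p : ℕ) [Fact p.Prime] (x : G) (K : Subgroup G) (h : D1Hyp p x K)
    (θ : Cfsg.IrrCharacter K) (a : Cfsg.IrrCharacter G → ZMod p → ℤ)
    (ha : D1Coeff p x K (θ : K → ℂ) a) (T : Finset (Cfsg.IrrCharacter G))
    (hT : ∀ χ, χ ∈ blkTheta K x (θ : K → ℂ) → χ ∈ T) (g : G) (hg : ¬ p ∣ orderOf g)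
    (l l' : ZMod p) :
    ∑ χ ∈ T, ((a χ l : ℂ) - (a χ l' : ℂ)) * (χ : G → ℂ) g = 0 := by
  classical
  have hζ := d1zeta_prim p
  haveI : Fintype (Cfsg.IrrCharacter G) := Fintype.ofFinite _
  have hA : ∀ m m' : ZMod p, ∑ χ : Cfsg.IrrCharacter G, (a χ m : ℂ) * (χ : G → ℂ) g
      = ∑ χ : Cfsg.IrrCharacter G, (a χ m' : ℂ) * (χ : G → ℂ) g := by
    apply d1f_const p (d1zeta p) hζ
      (fun m => ∑ χ : Cfsg.IrrCharacter G, (a χ m : ℂ) * (χ : G → ℂ) g)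
    intro i hi
    have h1 := Helper55.d1_dco_preg p x K h θ i.val (d1m_not_dvd_val i hi) g hg
    rw [finsum_eq_sum_of_fintype] at h1
    rw [← h1]
    simp only [Finset.sum_mul]
    rw [Finset.sum_comm]
    refine Finset.sum_congr rfl (fun χ _ => ?_)
    rw [ha.val χ i, Finset.sum_mul]
    refine Finset.sum_congr rfl (fun m _ => ?_)
    ring
  rw [Finset.sum_subset (Finset.subset_univ T)]
  · simp only [sub_mul]
    rw [Finset.sum_sub_distrib, hA l l', sub_self]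
  · intro χ _ hχ
    have h1 : (a χ l : ℂ) = (a χ l' : ℂ) := by
      apply d1f_const p (d1zeta p) hζ (fun m => (a χ m : ℂ))
      intro i hi
      rw [← ha.val χ i]
      by_contra hne
      exact hχ (hT χ ((Helper55.d1_dco_ne_zero_iff p x K h θ χ i.val
        (d1m_not_dvd_val i hi)).mp hne))
    rw [h1, sub_self, zero_mul]

end Cfsg.Agent.Helper77
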