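import Mathlib
import Cfsg.Prelude.Def_Characters
import Cfsg.Prelude.Def_Blocks
import Cfsg.Agent.Helper77.D1Defs2
import Cfsg.Agent.Helper77.D1Fourier
import Cfsg.Agent.Helper77.D1MainA
import Cfsg.Agent.Helper29.D1IL
import Cfsg.Agent.Helper15.AlgIntMod
import Cfsg.Agent.Helper78.Counting
import Cfsg.Agent.Helper75.Eigen
import Cfsg.Agent.Helper91.D1AC
import Cfsg.Agent.Helper55.D1MD

/-!
# The main theorem on blocks of defect one (helper77)

`d1_main : FBoundStmt G p → D1CCStmt G p → D1InjStmt G p → D1MainStmt G p`, by instantiating the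
abstract combinatorial theorem (piece AC) with the Fourier coefficients of the `θ`-coefficients.
-/

set_option autoImplicit false
open Cfsg
open scoped ComplexConjugate

namespace Cfsg.Agent.Helper77

universe u

variable {G : Type u} [Group G] [Finite G]

/-- The value of an irreducible character at an element of order dividing `p` is an algebraic
integer congruent to the degree modulo a maximal ideal over `p`. -/
theorem d1m_char_mod (p : ℕ) [Fact p.Prime] (M : Ideal Cfsg.AlgInt) (hM : Cfsg.IsPModular p M)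
    (x : G) (hx : x ^ p = 1) (χ : Cfsg.IrrCharacter G) :
    ∃ b : Cfsg.AlgInt, (b : ℂ) = (χ : G → ℂ) x ∧
      Ideal.Quotient.mk M b = ((Cfsg.charDegree (χ : G → ℂ) : ℕ) : Cfsg.AlgInt ⧸ M) := by
  have hp : p.Prime := Fact.out
  obtain ⟨n, ρ, -, hρ⟩ := χ.2
  have hf : (ρ x) ^ p = 1 := by rw [← map_pow, hx, map_one]
  obtain ⟨s, hs1, hs2, hs3⟩ := Cfsg.Agent.Helper75.exists_eigen_multiset (ρ x) p hp.ne_zero hf
  have h1 := hs3 1
  simp only [pow_one, Multiset.map_id'] at h1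
  have hχx : (χ : G → ℂ) x = s.sum := by rw [← hρ]; exact h1
  have hχ1 : (χ : G → ℂ) 1 = (n : ℂ) := by
    rw [← hρ]
    simp [Representation.character]
  have hdeg : Cfsg.charDegree (χ : G → ℂ) = n := by
    unfold Cfsg.charDegree
    rw [hχ1]
    simp
  have hcard : Multiset.card s = n := by rw [hs2]; simp
  obtain ⟨a, ha1, ha2⟩ := Helper65.d1ii_sum_roots p M hM s hs1
  exact ⟨a, by rw [ha1, hχx], by rw [ha2, hcard, hdeg]⟩

omit [Finite G] in
theorem d1m_zeta (p : ℕ) [Fact p.Prime] (M : Ideal Cfsg.AlgInt) (hM : Cfsg.IsPModular p M) :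
    ∃ z : Cfsg.AlgInt, (z : ℂ) = d1zeta p ∧ Ideal.Quotient.mk M z = 1 := by
  obtain ⟨a, ha1, ha2⟩ := Helper65.d1ii_sum_roots p M hM {d1zeta p} (by
    intro μ hμ
    rw [Multiset.mem_singleton] at hμ
    rw [hμ]
    exact (d1zeta_prim p).pow_eq_one)
  exact ⟨a, by simpa using ha1, by simpa using ha2⟩

/-- If `e χ(x) = c ∑_{j ∈ S} ζ^(n j)` then `e χ(1) ≡ c |S|` modulo `p`. -/
theorem d1m_deg {ι : Type*} (p : ℕ) [Fact p.Prime] (x : G) (hx : orderOf x = p)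
    (χ : Cfsg.IrrCharacter G) (e : ℕ) (c : ℤ) (S : Finset ι) (n : ι → ℕ)
    (h : (e : ℂ) * (χ : G → ℂ) x = (c : ℂ) * ∑ j ∈ S, d1zeta p ^ n j) :
    (e : ℤ) * (Cfsg.charDegree (χ : G → ℂ) : ℤ) ≡ c * (S.card : ℤ) [ZMOD p] := by
  have hp : p.Prime := Fact.out
  obtain ⟨M, hM⟩ := Helper78.exists_isPModular p hp
  haveI : M.IsMaximal := hM.2.1
  haveI := Helper15.algInt_charP p M hM
  have hxp : x ^ p = 1 := by rw [← hx]; exact pow_orderOf_eq_one x
  obtain ⟨b, hb1, hb2⟩ := d1m_char_mod p M hM x hxp χ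
  obtain ⟨z, hz1, hz2⟩ := d1m_zeta p M hM
  have heq : (e : Cfsg.AlgInt) * b = (c : Cfsg.AlgInt) * ∑ j ∈ S, z ^ n j := by
    apply Subtype.ext
    push_cast
    rw [hb1, hz1]
    exact h
  have h2 := congrArg (Ideal.Quotient.mk M) heq
  rw [map_mul, map_mul, map_natCast, map_intCast, hb2, map_sum] at h2
  simp only [map_pow, hz2, one_pow, Finset.sum_const, nsmul_eq_mul, mul_one] at h2
  rw [Int.modEq_iff_dvd]
  apply (CharP.intCast_eq_zero_iff (Cfsg.AlgInt ⧸ M) p _).mp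
  push_cast
  rw [h2, sub_self]

omit [Finite G] in
theorem d1m_cancel (p : ℕ) [Fact p.Prime] (e : ℕ) (he : ¬ p ∣ e) (A B : ℤ)
    (h : (e : ℤ) * A ≡ (e : ℤ) * B [ZMOD p]) : A ≡ B [ZMOD p] := by
  have hp : p.Prime := Fact.out
  have hpZ : Prime (p : ℤ) := Nat.prime_iff_prime_int.mp hp
  rw [Int.modEq_iff_dvd] at h ⊢
  rw [← mul_sub] at h
  rcases hpZ.dvd_mul.mp h with h1 | h1
  · exact absurd (Int.natCast_dvd_natCast.mp h1) he
  · exact h1

set_option maxHeartbeats 1600000 in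
theorem d1_main (p : ℕ) [Fact p.Prime] (hF : FBoundStmt G p) (hcc : D1CCStmt G p)
    (hinj : D1InjStmt G p) : D1MainStmt G p := by
  classical
  intro x K M₀ h hM₀ hGM θ
  have hp : p.Prime := Fact.out
  haveI : Fintype (Cfsg.IrrCharacter G) := Fintype.ofFinite _
  have hζ := d1zeta_prim p
  obtain ⟨a, ha⟩ := d1m_exists_coeff p x K h θ
  obtain ⟨E, F, hE, hFn, hEF⟩ := Helper29.d1_units p x K h θ
  obtain ⟨hin1, hin2, hin3⟩ := Helper65.d1_inertial p x K h M₀ hM₀ hGM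
  choose τ hτM hτζ hτχ using hin2
  have hτθ : ∀ (u : (ZMod p)ˣ) (k : K), τ u ((θ : K → ℂ) k) = (θ : K → ℂ) k :=
    fun u k => (hin1 (τ u) (hτM u)).1 θ k
  obtain ⟨T, hT⟩ : ∃ T : Finset (Cfsg.IrrCharacter G),
      ∀ χ, χ ∈ T ↔ χ ∈ blkTheta K x (θ : K → ℂ) :=
    ⟨Finset.univ.filter (· ∈ blkTheta K x (θ : K → ℂ)), fun χ => by simp⟩
  have hmemE : ∀ s : (ZMod p)ˣ, s ∈ E ↔ s ∈ stabUnits p x K (θ : K → ℂ) :=
    fun s => by rw [← hE]; rfl
  have hmemF : ∀ s : (ZMod p)ˣ, s ∈ F ↔ s ∈ normUnits p x := fun s => by rw [← hFn]; rfl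
  obtain ⟨gal, hgaldef⟩ : ∃ gal : (ZMod p)ˣ → Cfsg.IrrCharacter G → Cfsg.IrrCharacter G,
      ∀ u χ, gal u χ = Helper79.galIrr (τ u) χ := ⟨fun u χ => Helper79.galIrr (τ u) χ, fun _ _ => rfl⟩
  have hgalT : ∀ u, ∀ χ ∈ T, gal u χ ∈ T := by
    intro u χ hχ
    rw [hT] at hχ ⊢
    show dco K _ _ x ≠ 0
    rw [hgaldef, (d1m_gal p x K θ a ha (τ u) u (hτθ u) (hτζ u) χ).1 x]
    exact (map_ne_zero_iff _ (τ u).injective).mpr hχ
  have hgal1 : ∀ χ ∈ T, gal 1 χ = χ := by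
    intro χ _
    rw [hgaldef]
    apply Subtype.ext
    funext g
    rw [Helper79.galIrr_apply]
    refine hin3 (τ 1) (hτM 1) ?_ χ g
    rw [hτζ 1, Units.val_one, ZMod.val_one, pow_one]
  have hgal : ∀ u, ∀ χ ∈ T, ∀ l : ZMod p, a (gal u χ) ((u : ZMod p) * l) = a χ l := by
    intro u χ _ l
    rw [hgaldef]
    exact (d1m_gal p x K θ a ha (τ u) u (hτθ u) (hτζ u) χ).2 l
  have horb : ∀ χ χ' : Cfsg.IrrCharacter G,
      galRel M₀ (χ : G → ℂ) (χ' : G → ℂ) ↔ ∃ u : (ZMod p)ˣ, χ' = gal u χ := by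
    intro χ χ'
    rw [d1m_orbit p x K h M₀ hM₀ hGM τ hτM hτζ χ χ']
    simp only [hgaldef]
  have hΩ : ∀ χ χ' : Cfsg.IrrCharacter G,
      χ' ∈ Finset.univ.image (fun u : (ZMod p)ˣ => gal u χ)
        ↔ galRel M₀ (χ : G → ℂ) (χ' : G → ℂ) := by
    intro χ χ'
    rw [horb χ χ']
    simp only [Finset.mem_image, Finset.mem_univ, true_and]
    exact ⟨fun ⟨u, hu⟩ => ⟨u, hu.symm⟩, fun ⟨u, hu⟩ => ⟨u, hu.symm⟩⟩
  have hFb : ∀ χ ∈ T, ‖∑ χ' ∈ Finset.univ.image (fun u : (ZMod p)ˣ => gal u χ),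
        ∑ l : ZMod p, (a χ' l : ℂ) * d1zeta p ^ l.val‖ ≤ 1 := by
    intro χ _
    have h1 := hF x K M₀ h hM₀ hGM θ χ (Finset.univ.image (fun u : (ZMod p)ˣ => gal u χ)) (hΩ χ)
    rw [Finset.sum_congr rfl (fun χ' _ => ha.one χ')] at h1
    exact h1
  obtain ⟨X, Y, c, ε, hXY, hdisj, hXcard, hYcard, hc, hε, hDX, hDY, hgX, hgY, hgYt, hWX⟩ :=
    Helper91.d1_act p T a E (d1zeta p) hζ
      (fun χ hχ => by rw [← ha.one χ]; exact (hT χ).mp hχ)
      (fun χ _ s hs l => d1m_hE p x K h θ a ha χ s ((hmemE s).mp hs) l)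
      (fun i i' hi hi' hex =>
        (d1m_horth p x K h θ a ha T (fun χ hχ => (hT χ).mpr hχ) i i' hi hi').1
          (by obtain ⟨s, hs, hs'⟩ := hex; exact ⟨s, (hmemE s).mp hs, hs'⟩))
      (fun i i' hi hi' hex =>
        (d1m_horth p x K h θ a ha T (fun χ hχ => (hT χ).mpr hχ) i i' hi hi').2
          (fun ⟨s, hs, hs'⟩ => hex ⟨s, (hmemE s).mpr hs, hs'⟩))
      gal hgalT hgal1 hgal hFb
      (fun χ => (Cfsg.charDegree (χ : G → ℂ) : ℤ))
      (fun χ _ => by exact_mod_cast Helper81.charDegree_pos χ)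
      {w | ∃ g : G, ¬ p ∣ orderOf g ∧ w = fun χ : Cfsg.IrrCharacter G => (χ : G → ℂ) g}
      ⟨1, by rw [orderOf_one]; exact hp.one_lt.ne' ∘ Nat.dvd_one.mp, by
        funext χ
        rw [Helper81.irr_one_eq_charDegree]
        push_cast
        rfl⟩
      (fun w hw l l' => by
        obtain ⟨g, hg, rfl⟩ := hw
        exact d1m_hW p x K h θ a ha T (fun χ hχ => (hT χ).mpr hχ) g hg l l')
  have hE1 : Nat.card (stabUnits p x K (θ : K → ℂ)) = Nat.card E := by rw [← hE]; rfl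
  have hF1 : Nat.card (normUnits p x) = Nat.card F := by rw [← hFn]; rfl
  have hEpos : 0 < Nat.card E := Nat.card_pos
  have hEdvd : Nat.card E ∣ p - 1 := by
    have h1 := Subgroup.card_subgroup_dvd_card E
    rwa [Nat.card_eq_fintype_card (α := (ZMod p)ˣ), ZMod.card_units p] at h1
  have hpE : ¬ p ∣ Nat.card E := by
    intro hd
    have h1 := Nat.le_of_dvd hEpos hd
    have h2 := Nat.le_of_dvd (by have := hp.two_le; omega) hEdvd
    have := hp.two_le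
    omega
  have hEF' : Nat.card E ∣ Nat.card F := Subgroup.card_dvd_of_le hEF
  -- the finsets of units
  obtain ⟨FS, hFS⟩ : ∃ FS : Finset (ZMod p)ˣ, (FS : Set (ZMod p)ˣ) = normUnits p x :=
    ⟨Finset.univ.filter (· ∈ normUnits p x), by ext s; simp⟩
  obtain ⟨ES, hES⟩ : ∃ ES : Finset (ZMod p)ˣ, (ES : Set (ZMod p)ˣ) = (E : Set (ZMod p)ˣ) :=
    ⟨Finset.univ.filter (· ∈ E), by ext s; simp⟩
  have hFScard : FS.card = Nat.card F := by
    rw [← hF1, Nat.card_coe_set_eq, ← hFS, Set.ncard_coe_finset]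
  have hEScard : ES.card = Nat.card E := by
    have h1 : Nat.card E = Nat.card ((E : Set (ZMod p)ˣ)) := rfl
    rw [h1, Nat.card_coe_set_eq, ← hES, Set.ncard_coe_finset]
  have hθ1 : (θ : K → ℂ) 1 = ((Cfsg.charDegree (θ : K → ℂ) : ℕ) : ℂ) :=
    Helper81.irr_one_eq_charDegree θ
  rw [hE1, hF1]
  refine ⟨hEdvd, (X : Set (Cfsg.IrrCharacter G)), (Y : Set (Cfsg.IrrCharacter G)), c, ε,
    ?_, ?_, ?_, ?_, fun χ hχ => hc χ (Finset.mem_coe.mp hχ), hε, ?_, ?_, ?_, ?_, ?_⟩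
  · ext χ
    rw [← Finset.coe_union, hXY, Finset.mem_coe, hT]
  · exact Finset.disjoint_coe.mpr hdisj
  · rw [Nat.card_coe_set_eq, Set.ncard_coe_finset, hXcard]
  · rw [Nat.card_coe_set_eq, Set.ncard_coe_finset]
    exact (Nat.div_eq_of_eq_mul_left hEpos hYcard.symm).symm
  · intro χ hχ χ' hrel
    obtain ⟨u, rfl⟩ := (horb χ χ').mp hrel
    exact hgX u χ (Finset.mem_coe.mp hχ)
  · intro ψ hψ ψ'
    rw [horb ψ ψ']
    constructor
    · rintro ⟨u, rfl⟩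
      exact Finset.mem_coe.mpr (hgY u ψ (Finset.mem_coe.mp hψ))
    · intro hψ'
      obtain ⟨u, hu⟩ := hgYt ψ (Finset.mem_coe.mp hψ) ψ' (Finset.mem_coe.mp hψ')
      exact ⟨u, hu.symm⟩
  · intro ψ hψ g hg
    rw [finsum_mem_coe_finset]
    exact hWX (fun χ : Cfsg.IrrCharacter G => (χ : G → ℂ) g) ⟨g, hg, rfl⟩ ψ (Finset.mem_coe.mp hψ)
  · -- degrees on X
    intro χ hχ
    have hχX : χ ∈ X := Finset.mem_coe.mp hχ
    have hχT : χ ∈ T := by rw [← hXY]; exact Finset.mem_union_left _ hχX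
    have hMD := Helper55.d1_value_at_x p hcc hinj x K h θ χ ((hT χ).mp hχT)
    rw [hE1, ← hFS, finsum_mem_coe_finset] at hMD
    have h1 : ∀ u ∈ FS, dco K (θ : K → ℂ) (χ : G → ℂ) (x ^ (u : ZMod p).val)
        = (c χ : ℂ) * d1zeta p ^ 0 := by
      intro u _
      rw [ha.val χ (u : ZMod p), hDX χ hχX (u : ZMod p) u.ne_zero, pow_zero, mul_one]
    rw [Finset.sum_congr rfl h1, ← Finset.mul_sum, ← mul_assoc, hθ1] at hMD
    have h2 := d1m_deg p x h.hx χ (Nat.card E) ((Cfsg.charDegree (θ : K → ℂ) : ℤ) * c χ) FS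
      (fun _ => 0) (by rw [hMD]; push_cast; rfl)
    obtain ⟨q, hq⟩ := hEF'
    apply d1m_cancel p (Nat.card E) hpE
    refine h2.trans ?_
    rw [hFScard, hq, Nat.mul_div_cancel_left q hEpos]
    push_cast
    ring_nf
    rfl
  · -- degrees on Y
    intro ψ hψ
    have hψY : ψ ∈ Y := Finset.mem_coe.mp hψ
    have hψT : ψ ∈ T := by rw [← hXY]; exact Finset.mem_union_right _ hψY
    obtain ⟨l₀, -, hψD⟩ := hDY ψ hψY
    have hMD := Helper55.d1_value_at_x p hcc hinj x K h θ ψ ((hT ψ).mp hψT)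
    rw [hE1, ← hFS, finsum_mem_coe_finset] at hMD
    have h1 : ∀ u ∈ FS, dco K (θ : K → ℂ) (ψ : G → ℂ) (x ^ (u : ZMod p).val)
        = (ε : ℂ) * ∑ s ∈ ES, d1zeta p ^ ((u : ZMod p) * (s : ZMod p) * l₀).val := by
      intro u _
      rw [ha.val ψ (u : ZMod p), hψD (u : ZMod p) u.ne_zero, ← hES, finsum_mem_coe_finset]
    rw [Finset.sum_congr rfl h1, ← Finset.mul_sum, ← mul_assoc, hθ1,
      ← Finset.sum_product'] at hMD
    have h2 := d1m_deg p x h.hx ψ (Nat.card E) ((Cfsg.charDegree (θ : K → ℂ) : ℤ) * ε)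
      (FS ×ˢ ES) (fun us => ((us.1 : ZMod p) * (us.2 : ZMod p) * l₀).val)
      (by rw [hMD]; push_cast; rfl)
    apply d1m_cancel p (Nat.card E) hpE
    refine h2.trans ?_
    rw [Finset.card_product, hFScard, hEScard]
    push_cast
    ring_nf
    rfl

end Cfsg.Agent.Helper77
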