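import Mathlib
import Cfsg.Prelude.Def_Characters
import Cfsg.Prelude.Def_Blocks
import Cfsg.Agent.Helper77.D1Defs2
import Cfsg.Agent.Helper77.D1Bound
import Cfsg.Agent.Helper77.D1Main
import Cfsg.Agent.Helper75.D1CA
import Cfsg.Agent.Helper74.D1CB
import Cfsg.Agent.Helper15.D1FB

/-!
# The main theorem on blocks of defect one, unconditionally (helper77)

`d1_main_all : D1MainStmt G p`: the lattice bound `theta_lattice_bound`, the bound (F)
(`d1_fbound`, helper15), (CC) (`d1_cc`, helper75), (INJ) (`d1_inj`, helper74) and `d1_main`.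
-/

set_option autoImplicit false
open Cfsg

namespace Cfsg.Agent.Helper77

universe u

theorem d1_main_all {G : Type u} [Group G] [Finite G] (p : ℕ) [Fact p.Prime] : D1MainStmt G p :=
  d1_main p
    (Helper15.d1_fbound p (fun _ => theta_lattice_bound p) (Helper75.d1_cc p) (Helper74.d1_inj p))
    (Helper75.d1_cc p) (Helper74.d1_inj p)

end Cfsg.Agent.Helper77
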