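import Cfsg.Agent.Helper75.PrincipalTransport
import Cfsg.Agent.Helper77.BlockCount

/-!
# The action of `N_G(K)` on the irreducible characters and on the blocks of `K`

* `conjIrr K g χ`: the conjugate character `k ↦ χ (g⁻¹ k g)`; `irrAction K`: the corresponding
  `MulAction` of `N_G(K)` on `Cfsg.IrrCharacter K` (a `def`, to be used with `letI`).
* `stabilizesBlock_iff`: `Cfsg.StabilizesBlock K f g ↔ ∀ χ ∈ f, conjIrr K g χ ∈ f`.
* `isPBlock_image_conjIrr`: conjugates of blocks are blocks.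
* `blockCoeff_image_conjIrr`, `subgroupBlockCoeff_image_conjIrr`: the idempotent of the conjugate.
-/

set_option autoImplicit false
set_option linter.style.haveILetI false
open Cfsg

namespace Cfsg.Agent.Helper77

universe u

variable {G : Type u} [Group G]

/-- The conjugate of an irreducible character `χ` of `K` by `g ∈ N_G(K)`:
`(conjIrr K g χ) k = χ (g⁻¹ k g)`. -/
noncomputable def conjIrr (K : Subgroup G) (g : Subgroup.normalizer (K : Set G))
    (χ : Cfsg.IrrCharacter K) : Cfsg.IrrCharacter K :=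
  Helper75.irrComp (Helper75.conjEquivOfNormalizer K (g : G) g.2) χ

theorem conjIrr_apply (K : Subgroup G) (g : Subgroup.normalizer (K : Set G))
    (χ : Cfsg.IrrCharacter K) (k k' : K) (h : (k' : G) = (g : G) * (k : G) * (g : G)⁻¹) :
    (conjIrr K g χ : K → ℂ) k' = (χ : K → ℂ) k := by
  show (χ : K → ℂ) (Helper75.conjEquivOfNormalizer K (g : G) g.2 k') = _
  refine congrArg _ (Subtype.ext ?_)
  rw [Helper75.conjEquivOfNormalizer_apply, h]
  group

theorem isConjCharOf_conjIrr (K : Subgroup G) (g : Subgroup.normalizer (K : Set G))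
    (χ : Cfsg.IrrCharacter K) :
    Cfsg.IsConjCharOf K (g : G) (χ : K → ℂ) (conjIrr K g χ : K → ℂ) :=
  fun k k' h => conjIrr_apply K g χ k k' h

theorem eq_conjIrr_of_isConjCharOf (K : Subgroup G) (g : Subgroup.normalizer (K : Set G))
    {χ χ' : Cfsg.IrrCharacter K}
    (h : Cfsg.IsConjCharOf K (g : G) (χ : K → ℂ) (χ' : K → ℂ)) : χ' = conjIrr K g χ := by
  apply Subtype.ext
  funext k'
  have hk : (k' : G) = (g : G) *
      ((Helper75.conjEquivOfNormalizer K (g : G) g.2 k' : K) : G) * (g : G)⁻¹ := by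
    rw [Helper75.conjEquivOfNormalizer_apply]
    group
  rw [h _ k' hk]
  exact (conjIrr_apply K g χ _ k' hk).symm

/-- The action of `N_G(K)` on the irreducible characters of `K` by conjugation. -/
@[reducible] noncomputable def irrAction (K : Subgroup G) :
    MulAction (Subgroup.normalizer (K : Set G)) (Cfsg.IrrCharacter K) where
  smul g χ := conjIrr K g χ
  one_smul χ := by
    symm
    apply eq_conjIrr_of_isConjCharOf
    intro k k' h
    refine congrArg _ (Subtype.ext ?_)
    rw [h]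
    simp
  mul_smul g h χ := by
    symm
    apply eq_conjIrr_of_isConjCharOf
    intro k k'' hk
    have hk' : (((Helper75.conjEquivOfNormalizer K (h : G) h.2).symm k : K) : G)
        = (h : G) * (k : G) * (h : G)⁻¹ := rfl
    show (conjIrr K g (conjIrr K h χ) : K → ℂ) k'' = (χ : K → ℂ) k
    rw [conjIrr_apply K g (conjIrr K h χ) ((Helper75.conjEquivOfNormalizer K (h : G) h.2).symm k)
      k'' (by rw [hk, hk']; push_cast; group), conjIrr_apply K h χ k _ hk']

theorem irrAction_smul (K : Subgroup G) (g : Subgroup.normalizer (K : Set G))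
    (χ : Cfsg.IrrCharacter K) :
    @HSMul.hSMul _ _ _ (@instHSMul _ _ (irrAction K).toSMul) g χ = conjIrr K g χ := rfl

theorem conjIrr_one (K : Subgroup G) (χ : Cfsg.IrrCharacter K) : conjIrr K 1 χ = χ :=
  @one_smul _ _ _ (irrAction K) χ

theorem conjIrr_mul (K : Subgroup G) (g h : Subgroup.normalizer (K : Set G))
    (χ : Cfsg.IrrCharacter K) : conjIrr K (g * h) χ = conjIrr K g (conjIrr K h χ) :=
  (irrAction K).mul_smul g h χ

theorem conjIrr_inv_conjIrr (K : Subgroup G) (g : Subgroup.normalizer (K : Set G))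
    (χ : Cfsg.IrrCharacter K) : conjIrr K g⁻¹ (conjIrr K g χ) = χ := by
  rw [← conjIrr_mul, inv_mul_cancel, conjIrr_one]

theorem conjIrr_conjIrr_inv (K : Subgroup G) (g : Subgroup.normalizer (K : Set G))
    (χ : Cfsg.IrrCharacter K) : conjIrr K g (conjIrr K g⁻¹ χ) = χ := by
  rw [← conjIrr_mul, mul_inv_cancel, conjIrr_one]

theorem conjIrr_injective (K : Subgroup G) (g : Subgroup.normalizer (K : Set G)) :
    Function.Injective (conjIrr K g) := by
  intro χ ψ h
  rw [← conjIrr_inv_conjIrr K g χ, h, conjIrr_inv_conjIrr]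

/-- `g` stabilizes `f` iff conjugation by `g` maps `f` into itself. -/
theorem stabilizesBlock_iff (K : Subgroup G) (f : Set (Cfsg.IrrCharacter K))
    (g : Subgroup.normalizer (K : Set G)) :
    Cfsg.StabilizesBlock K f (g : G) ↔ ∀ χ ∈ f, conjIrr K g χ ∈ f := by
  constructor
  · rintro ⟨-, h⟩ χ hχ
    obtain ⟨χ', hχ', hc⟩ := h χ hχ
    rwa [← eq_conjIrr_of_isConjCharOf K g hc]
  · intro h
    exact ⟨g.2, fun χ hχ => ⟨conjIrr K g χ, h χ hχ, isConjCharOf_conjIrr K g χ⟩⟩

/-- If conjugation by `g` maps the finite set `f` into itself, it maps `f` onto itself. -/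
theorem image_conjIrr_eq_of_stabilizes (K : Subgroup G) [Finite K]
    (f : Set (Cfsg.IrrCharacter K)) (g : Subgroup.normalizer (K : Set G))
    (h : ∀ χ ∈ f, conjIrr K g χ ∈ f) : conjIrr K g '' f = f := by
  have hfin : f.Finite := Set.toFinite f
  apply Set.eq_of_subset_of_ncard_le
  · rintro _ ⟨χ, hχ, rfl⟩
    exact h χ hχ
  · rw [Set.ncard_image_of_injective _ (conjIrr_injective K g)]
  · exact hfin

theorem image_conjIrr_eq_iff (K : Subgroup G) [Finite K]
    (f : Set (Cfsg.IrrCharacter K)) (g : Subgroup.normalizer (K : Set G)) :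
    conjIrr K g '' f = f ↔ Cfsg.StabilizesBlock K f (g : G) := by
  rw [stabilizesBlock_iff]
  constructor
  · intro h χ hχ
    rw [← h]
    exact ⟨χ, hχ, rfl⟩
  · exact image_conjIrr_eq_of_stabilizes K f g

theorem sameBlock_conjIrr {M : Ideal Cfsg.AlgInt} (K : Subgroup G)
    (g : Subgroup.normalizer (K : Set G)) {χ ψ : Cfsg.IrrCharacter K}
    (h : Cfsg.SameBlock M (χ : K → ℂ) (ψ : K → ℂ)) :
    Cfsg.SameBlock M (conjIrr K g χ : K → ℂ) (conjIrr K g ψ : K → ℂ) :=
  Helper75.sameBlock_comp_mulEquiv (Helper75.conjEquivOfNormalizer K (g : G) g.2) h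

/-- The conjugate of the block of `χ` is the block of the conjugate of `χ`. -/
theorem image_conjIrr_blockOf {M : Ideal Cfsg.AlgInt} (K : Subgroup G)
    (g : Subgroup.normalizer (K : Set G)) (χ : Cfsg.IrrCharacter K) :
    conjIrr K g '' Cfsg.blockOf M (χ : K → ℂ) = Cfsg.blockOf M (conjIrr K g χ : K → ℂ) := by
  ext ψ'
  constructor
  · rintro ⟨ψ, hψ, rfl⟩
    exact sameBlock_conjIrr K g hψ
  · intro hψ'
    refine ⟨conjIrr K g⁻¹ ψ', ?_, conjIrr_conjIrr_inv K g ψ'⟩
    have := sameBlock_conjIrr (M := M) K g⁻¹ hψ'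
    rw [conjIrr_inv_conjIrr] at this
    exact this

/-- Conjugates of blocks are blocks. -/
theorem isPBlock_image_conjIrr {M : Ideal Cfsg.AlgInt} (K : Subgroup G)
    (g : Subgroup.normalizer (K : Set G)) {f : Set (Cfsg.IrrCharacter K)}
    (hf : Cfsg.IsPBlock M f) : Cfsg.IsPBlock M (conjIrr K g '' f) := by
  obtain ⟨χ, rfl⟩ := hf
  exact ⟨conjIrr K g χ, image_conjIrr_blockOf K g χ⟩

/-- The idempotent of the conjugate block. -/
theorem blockCoeff_image_conjIrr (K : Subgroup G) (g : Subgroup.normalizer (K : Set G))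
    (f : Set (Cfsg.IrrCharacter K)) (k k' : K) (h : (k' : G) = (g : G) * (k : G) * (g : G)⁻¹) :
    Cfsg.blockCoeff (conjIrr K g '' f) k' = Cfsg.blockCoeff f k := by
  show (Nat.card K : ℂ)⁻¹ * ∑ᶠ χ ∈ conjIrr K g '' f,
      (χ : K → ℂ) 1 * (starRingEnd ℂ) ((χ : K → ℂ) k')
    = (Nat.card K : ℂ)⁻¹ * ∑ᶠ χ ∈ f, (χ : K → ℂ) 1 * (starRingEnd ℂ) ((χ : K → ℂ) k)
  rw [finsum_mem_image (fun _ _ _ _ hxy => conjIrr_injective K g hxy)]
  congr 1
  refine finsum_congr fun χ => finsum_congr fun _ => ?_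
  rw [conjIrr_apply K g χ k k' h, conjIrr_apply K g χ 1 1 (by simp)]

theorem sbc_of_mem (K : Subgroup G) (f : Set (Cfsg.IrrCharacter K)) {x : G} (hx : x ∈ K) :
    Cfsg.subgroupBlockCoeff K f x = Cfsg.blockCoeff f ⟨x, hx⟩ := by
  classical
  exact dif_pos hx

theorem sbc_of_not_mem (K : Subgroup G) (f : Set (Cfsg.IrrCharacter K)) {x : G} (hx : x ∉ K) :
    Cfsg.subgroupBlockCoeff K f x = 0 := by
  classical
  exact dif_neg hx

/-- The idempotent of the conjugate block, as a function on `G`. -/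
theorem subgroupBlockCoeff_image_conjIrr (K : Subgroup G) (g : Subgroup.normalizer (K : Set G))
    (f : Set (Cfsg.IrrCharacter K)) (x : G) :
    Cfsg.subgroupBlockCoeff K (conjIrr K g '' f) ((g : G) * x * (g : G)⁻¹)
      = Cfsg.subgroupBlockCoeff K f x := by
  classical
  have hmem : (g : G) * x * (g : G)⁻¹ ∈ K ↔ x ∈ K :=
    (Subgroup.mem_normalizer_iff.mp g.2 x).symm
  by_cases hx : x ∈ K
  · rw [sbc_of_mem K _ hx, sbc_of_mem K _ (hmem.mpr hx)]
    exact blockCoeff_image_conjIrr K g f ⟨x, hx⟩ ⟨_, hmem.mpr hx⟩ rfl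
  · rw [sbc_of_not_mem K _ hx, sbc_of_not_mem K _ (fun h => hx (hmem.mp h))]

/-- A stabilized set of characters has a conjugation invariant idempotent. -/
theorem subgroupBlockCoeff_conj_of_stabilizes (K : Subgroup G) [Finite K]
    (f : Set (Cfsg.IrrCharacter K)) {g : G} (hg : Cfsg.StabilizesBlock K f g) (x : G) :
    Cfsg.subgroupBlockCoeff K f (g * x * g⁻¹) = Cfsg.subgroupBlockCoeff K f x := by
  have h1 := subgroupBlockCoeff_image_conjIrr K ⟨g, hg.1⟩ f x
  rw [(image_conjIrr_eq_iff K f ⟨g, hg.1⟩).mpr hg] at h1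
  exact h1

end Cfsg.Agent.Helper77
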