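import Cfsg.Agent.Helper55.N9Defs

set_option autoImplicit false

namespace Cfsg.Agent.Helper77.N9

open Subgroup Cfsg.Agent.Helper55.N9

variable {G : Type*} [Group G] [Finite G]

theorem n9_case_triv (X K : Subgroup G) (c : Core X K) (h : X ≤ centralizer (K : Set G)) :
    ∀ a ∈ X, ∀ b ∈ X, a * b = b * a := by
  have hK1 : ∀ k ∈ K, k = 1 := by
    intro k hk
    apply c.faith k hk
    intro x hx
    have h1 := h hx
    rw [Subgroup.mem_centralizer_iff] at h1
    exact h1 k hk
  have hKbot : K = ⊥ := by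
    rw [Subgroup.eq_bot_iff_forall]; exact hK1
  obtain ⟨A, hAX, hA1, hA2, hA3⟩ := not_not.mp c.a8
  have hAeq : A = X := by
    by_contra hne
    have hKA : K ≤ normalizer (A : Set G) := by rw [hKbot]; exact bot_le
    exact c.hyp A hAX hne hKA ⟨A, le_refl A, hA1, hA2, hA3⟩
  subst hAeq
  intro a ha b hb
  have h2 := (isMulCommutative_iff.mp hA1) ⟨a, ha⟩ ⟨b, hb⟩
  exact congrArg Subtype.val h2

end Cfsg.Agent.Helper77.N9
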