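import Mathlib
import Cfsg.Agent.Helper16.NGDefs

set_option autoImplicit false

namespace Cfsg.Agent.Helper77.NGINIT

open Cfsg.Agent.Helper16.NG

variable {S : Type*} [Group S]

theorem ng_init [Finite S] (M : Subgroup S) [M.Normal]
    (hM : Cfsg.IsElementaryAbelian 2 M) (Q : Subgroup S) (hQc : IsCyclic ↥Q) (hQ3 : IsPGroup 3 ↥Q)
    (hQ1 : ∀ x ∈ Q, x ^ 3 ∈ Subgroup.centralizer (M : Set S)) (hQM : Nat.card ↥⁅Q, M⁆ = 4) :
    ∃ x ∈ Q, Cfg M ⁅Q, M⁆ x := by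
  classical
  obtain ⟨⟨x, hxQ⟩, hgen⟩ := hQc.exists_generator
  have hcomm : ∀ a ∈ M, ∀ b ∈ M, a * b = b * a := by
    intro a ha b hb
    have h1 := (isMulCommutative_iff.mp hM.1) ⟨a, ha⟩ ⟨b, hb⟩
    exact congrArg Subtype.val h1
  have hsq : ∀ a ∈ M, a ^ 2 = 1 := hM.2
  have hnorm : ∀ (g : S), ∀ m ∈ M, g * m * g⁻¹ ∈ M := fun g m hm =>
    (inferInstance : M.Normal).conj_mem m hm g
  have hpow : ∀ q ∈ Q, ∃ n : ℕ, q = x ^ n := by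
    intro q hq
    have h1 := hgen ⟨q, hq⟩
    rw [Subgroup.mem_zpowers_iff] at h1
    obtain ⟨k, hk⟩ := h1
    have hk' : x ^ k = q := by
      have h2 := congrArg Subtype.val hk
      simpa using h2
    have h3 : q ∈ Subgroup.zpowers x := ⟨k, hk'⟩
    rw [← mem_powers_iff_mem_zpowers] at h3
    obtain ⟨n, hn⟩ := h3
    exact ⟨n, hn.symm⟩
  let Φ : Subgroup S :=
    { carrier := {v | ∃ m ∈ M, v = x * m * x⁻¹ * m⁻¹}
      one_mem' := ⟨1, M.one_mem, by simp⟩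
      mul_mem' := by
        rintro a b ⟨m, hm, rfl⟩ ⟨m', hm', rfl⟩
        refine ⟨m * m', M.mul_mem hm hm', ?_⟩
        have h1 : m⁻¹ * (x * m' * x⁻¹) = (x * m' * x⁻¹) * m⁻¹ :=
          hcomm _ (M.inv_mem hm) _ (hnorm x m' hm')
        have h2 : m⁻¹ * m'⁻¹ = m'⁻¹ * m⁻¹ := hcomm _ (M.inv_mem hm) _ (M.inv_mem hm')
        calc x * m * x⁻¹ * m⁻¹ * (x * m' * x⁻¹ * m'⁻¹)
            = x * m * x⁻¹ * (m⁻¹ * (x * m' * x⁻¹)) * m'⁻¹ := by group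
          _ = x * m * x⁻¹ * ((x * m' * x⁻¹) * m⁻¹) * m'⁻¹ := by rw [h1]
          _ = x * (m * m') * x⁻¹ * (m⁻¹ * m'⁻¹) := by group
          _ = x * (m * m') * x⁻¹ * (m'⁻¹ * m⁻¹) := by rw [h2]
          _ = x * (m * m') * x⁻¹ * (m * m')⁻¹ := by group
      inv_mem' := by
        rintro a ⟨m, hm, rfl⟩
        refine ⟨m⁻¹, M.inv_mem hm, ?_⟩
        have h1 : m * (x * m⁻¹ * x⁻¹) = (x * m⁻¹ * x⁻¹) * m :=
          hcomm _ hm _ (hnorm x _ (M.inv_mem hm))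
        calc (x * m * x⁻¹ * m⁻¹)⁻¹ = m * (x * m⁻¹ * x⁻¹) := by group
          _ = (x * m⁻¹ * x⁻¹) * m := h1
          _ = x * m⁻¹ * x⁻¹ * m⁻¹⁻¹ := by group }
  have hΦmem : ∀ v, v ∈ Φ ↔ ∃ m ∈ M, v = x * m * x⁻¹ * m⁻¹ := fun v => Iff.rfl
  have hpowΦ : ∀ n : ℕ, ∀ m ∈ M, x ^ n * m * (x ^ n)⁻¹ * m⁻¹ ∈ Φ := by
    intro n
    induction n with
    | zero =>
      intro m hm
      have h1 : x ^ 0 * m * (x ^ 0)⁻¹ * m⁻¹ = 1 := by group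
      rw [h1]; exact Φ.one_mem
    | succ n ih =>
      intro m hm
      have hm' : x ^ n * m * (x ^ n)⁻¹ ∈ M := hnorm _ m hm
      have h1 : x ^ (n + 1) * m * (x ^ (n + 1))⁻¹ * m⁻¹
          = (x * (x ^ n * m * (x ^ n)⁻¹) * x⁻¹ * (x ^ n * m * (x ^ n)⁻¹)⁻¹)
            * (x ^ n * m * (x ^ n)⁻¹ * m⁻¹) := by
        rw [pow_succ']; group
      rw [h1]
      exact Φ.mul_mem ⟨_, hm', rfl⟩ (ih m hm)
  have hVΦ : (⁅Q, M⁆ : Subgroup S) = Φ := by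
    apply le_antisymm
    · rw [Subgroup.commutator_le]
      intro q hq m hm
      obtain ⟨n, rfl⟩ := hpow q hq
      rw [commutatorElement_def]
      exact hpowΦ n m hm
    · rintro v ⟨m, hm, rfl⟩
      have h1 := Subgroup.commutator_mem_commutator hxQ hm
      rwa [commutatorElement_def] at h1
  refine ⟨x, hxQ, ?_⟩
  refine ⟨inferInstance, hcomm, hsq, ?_, ?_, ?_, hQM⟩
  · intro m hm
    have h1 := hQ1 x hxQ
    rw [Subgroup.mem_centralizer_iff] at h1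
    have h2 := h1 m hm
    calc x ^ 3 * m * (x ^ 3)⁻¹ = (x ^ 3 * m) * (x ^ 3)⁻¹ := by group
      _ = (m * x ^ 3) * (x ^ 3)⁻¹ := by rw [h2]
      _ = m := by group
  · obtain ⟨k, hk⟩ := hQ3 ⟨x, hxQ⟩
    have hk' : x ^ 3 ^ k = 1 := by simpa using congrArg Subtype.val hk
    obtain ⟨j, -, hj⟩ := (Nat.dvd_prime_pow Nat.prime_three).mp (orderOf_dvd_of_pow_eq_one hk')
    exact ⟨j, hj⟩
  · intro v
    rw [hVΦ]
    exact hΦmem v

end Cfsg.Agent.Helper77.NGINIT
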