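import Cfsg.Agent.Helper62.PKDefs

set_option autoImplicit false

namespace Cfsg.Agent.Helper77

open Cfsg Subgroup Cfsg.Agent.Helper62

universe u

variable {G : Type u} [Group G] [Finite G]

theorem pk_over_Zeq {M K H T K₁ : Subgroup G} (hK₁c : IsCyclic K₁)
    (hle : pkS M K ≤ K₁) (hTK : T ≤ K) (hT : (Nat.card T).Prime)
    (hK₁Z : K₁ ≤ pkZ M K) (hTS₁ : T ≤ pkS H K₁) (hKZ₁ : K ≤ pkZ H K₁)
    (hcomm : ∀ a ∈ pkS H K₁, ∀ b ∈ pkS H K₁, a * b = b * a) (hS₁M : pkS H K₁ ≤ M)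
    (hcent : ∀ k ∈ K, k ≠ 1 → M ⊓ centralizer ({k} : Set G) = pkZ M K) :
    pkZ H K₁ = pkZ M K ∧ ∀ a ∈ pkZ M K, ∀ b ∈ pkZ M K, a * b = b * a := by
  have hTne : T ≠ ⊥ := by
    rintro rfl
    rw [Subgroup.card_bot] at hT
    exact Nat.not_prime_one hT
  obtain ⟨⟨t, htT⟩, ht1⟩ := Subgroup.ne_bot_iff_exists_ne_one.mp hTne
  have ht1' : t ≠ 1 := fun h => ht1 (Subtype.ext h)
  have hZeq : pkZ H K₁ = pkZ M K := by
    apply le_antisymm
    · apply sup_le hK₁Z
      intro b hb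
      have hbM : b ∈ M := hS₁M hb
      have htS : t ∈ pkS H K₁ := hTS₁ htT
      have hbc : b ∈ centralizer ({t} : Set G) := by
        rw [Subgroup.mem_centralizer_iff]
        intro h hh
        rw [Set.mem_singleton_iff] at hh
        subst hh
        exact hcomm _ htS _ hb
      have hb' : b ∈ M ⊓ centralizer ({t} : Set G) := ⟨hbM, hbc⟩
      rw [hcent t (hTK htT) ht1'] at hb'
      exact hb'
    · exact sup_le hKZ₁ (hle.trans le_sup_left)
  refine ⟨hZeq, ?_⟩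
  have hK₁comm : K₁ ≤ centralizer (K₁ : Set G) := by
    rw [Subgroup.le_centralizer_iff_isMulCommutative]
    exact @IsCyclic.isMulCommutative _ _ hK₁c
  have hS₁comm : pkS H K₁ ≤ centralizer ((pkS H K₁ : Subgroup G) : Set G) := by
    intro a ha
    rw [Subgroup.mem_centralizer_iff]
    intro b hb
    exact hcomm b hb a ha
  have hS₁K₁ : pkS H K₁ ≤ centralizer (K₁ : Set G) := inf_le_right
  have hK₁S₁ : K₁ ≤ centralizer ((pkS H K₁ : Subgroup G) : Set G) :=
    Subgroup.le_centralizer_iff.mp hS₁K₁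
  have hZ₁comm : pkZ H K₁ ≤ centralizer ((pkZ H K₁ : Subgroup G) : Set G) := by
    apply sup_le
    · rw [Subgroup.le_centralizer_iff]
      exact sup_le hK₁comm hS₁K₁
    · rw [Subgroup.le_centralizer_iff]
      exact sup_le hK₁S₁ hS₁comm
  intro a ha b hb
  rw [← hZeq] at ha hb
  have h := hZ₁comm hb
  rw [Subgroup.mem_centralizer_iff] at h
  exact h a ha

end Cfsg.Agent.Helper77
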