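import Mathlib

/-!
# S3875, piece AR1: the degree arithmetic (helper77)
-/

set_option autoImplicit false

namespace Cfsg.Agent.Helper77

set_option maxHeartbeats 1600000 in
theorem s3875_arith_deg (p A k f : ℕ) (c : ℤ) (hp : p.Prime) (hp2 : p ≠ 2) (hA : 1 ≤ A)
    (hk : 1 ≤ k) (hM : 2 * (A * (1 + k * p)) < p ^ 2 - 1) (hf1 : 1 < f)
    (hfd : f ∣ p * (A * (1 + k * p))) (hc : c = 1 ∨ c = -1) (hfm : (f : ℤ) ≡ c [ZMOD p]) :
    c = 1 ∧ f = 1 + k * p := by
  have hp3 : 3 ≤ p := by have := hp.two_le; omega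
  have hnd : ¬ p ∣ f := by
    intro h
    have h1 : (p : ℤ) ∣ (f : ℤ) := by exact_mod_cast h
    have h2 : (p : ℤ) ∣ c := by
      have h3 := hfm.dvd
      have h4 : c = (c - f) + f := by ring
      rw [h4]; exact dvd_add h3 h1
    have h5 : (p : ℤ) ∣ 1 := by
      rcases hc with h | h
      · rw [h] at h2; exact h2
      · rw [h] at h2; exact (dvd_neg.mp h2)
    have h6 := Int.le_of_dvd one_pos h5
    omega
  have hcop : Nat.Coprime f p := ((Nat.Prime.coprime_iff_not_dvd hp).mpr hnd).symm
  have hfM : f ∣ A * (1 + k * p) := hcop.dvd_of_dvd_mul_left hfd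
  obtain ⟨w, hw⟩ := hfM
  have hMz : 2 * ((A : ℤ) * (1 + k * p)) + 1 < (p : ℤ) ^ 2 := by
    have h1 : 1 ≤ p ^ 2 := Nat.one_le_pow _ _ hp.pos
    have h2 : 2 * (A * (1 + k * p)) + 1 < p ^ 2 := by omega
    exact_mod_cast h2
  have hwz : (A : ℤ) * (1 + k * p) = f * w := by exact_mod_cast hw
  have hA' : (1 : ℤ) ≤ A := by exact_mod_cast hA
  have hk' : (1 : ℤ) ≤ k := by exact_mod_cast hk
  have hp' : (3 : ℤ) ≤ p := by exact_mod_cast hp3
  have hf' : (2 : ℤ) ≤ f := by exact_mod_cast hf1
  have hw0 : (1 : ℤ) ≤ w := by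
    rcases Nat.eq_zero_or_pos w with h | h
    · rw [h, mul_zero] at hw
      have : 0 < A * (1 + k * p) := Nat.mul_pos hA (by omega)
      omega
    · exact_mod_cast h
  have hAkp : (0 : ℤ) ≤ (A : ℤ) * k := by positivity
  have hAk : 2 * ((A : ℤ) * k) < p := by
    by_contra hcon
    push Not at hcon
    have h1 := mul_le_mul_of_nonneg_right hcon (by linarith : (0 : ℤ) ≤ p)
    nlinarith
  have hA2 : 2 * (A : ℤ) < p := by
    have h1 : (A : ℤ) * 1 ≤ A * k := mul_le_mul_of_nonneg_left hk' (by linarith)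
    linarith
  obtain ⟨d, hd⟩ := hfm.symm.dvd
  rcases hc with hc1 | hc1
  · -- `c = 1`
    refine ⟨hc1, ?_⟩
    rw [hc1] at hd
    have hd1 : 1 ≤ d := by
      by_contra hcon
      push Not at hcon
      have : (p : ℤ) * d ≤ 0 := by nlinarith
      linarith
    -- `b := A k - d w`, `w = A + p b`
    have hb : (w : ℤ) = A + p * ((A : ℤ) * k - d * w) := by
      have hf2 : (f : ℤ) = 1 + p * d := by linarith
      rw [hf2] at hwz
      linear_combination (-1 : ℤ) * hwz
    have hb0 : 0 ≤ (A : ℤ) * k - d * w := by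
      by_contra hcon
      push Not at hcon
      have : (p : ℤ) * ((A : ℤ) * k - d * w) ≤ -p := by nlinarith
      linarith
    have hbz : (A : ℤ) * k - d * w = 0 := by
      by_contra hcon
      have hb1 : 1 ≤ (A : ℤ) * k - d * w := by
        rcases hb0.lt_or_eq with h | h
        · linarith
        · exact absurd h.symm hcon
      -- w ≥ A + p, so d w ≥ A + p, so A k ≥ 1 + A + p
      have h1 : (A : ℤ) + p ≤ w := by nlinarith
      have h2 : (A : ℤ) + p ≤ d * w := by nlinarith
      linarith
    have hwA : (w : ℤ) = A := by rw [hb, hbz]; ring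
    have hdk : d = k := by
      rw [hwA] at hbz
      have h1 : (A : ℤ) * (k - d) = 0 := by linear_combination hbz
      rcases mul_eq_zero.mp h1 with h | h
      · linarith
      · linarith
    have hf2 : (f : ℤ) = ((1 + k * p : ℕ) : ℤ) := by
      push_cast
      rw [← hdk]
      linarith
    exact_mod_cast hf2
  · -- `c = -1`: impossible
    exfalso
    rw [hc1] at hd
    have hf2 : (f : ℤ) = p * d - 1 := by linarith
    have hd1 : 1 ≤ d := by
      by_contra hcon
      push Not at hcon
      have : (p : ℤ) * d ≤ 0 := by nlinarith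
      linarith
    -- `b := d w - A k`, `w + A = p b`
    have hb : (w : ℤ) + A = p * (d * w - (A : ℤ) * k) := by
      rw [hf2] at hwz
      linear_combination hwz
    have hb1 : 1 ≤ d * w - (A : ℤ) * k := by
      by_contra hcon
      push Not at hcon
      have : (p : ℤ) * (d * w - (A : ℤ) * k) ≤ 0 := by nlinarith
      linarith
    set b : ℤ := d * w - (A : ℤ) * k with hbdef
    have hwb : (w : ℤ) = p * b - A := by linarith
    -- `d p b = b + d A + A k`
    have hrel : d * p * b = b + d * A + (A : ℤ) * k := by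
      have h1 : b = d * (p * b - A) - (A : ℤ) * k := by rw [← hwb]
      linear_combination (-1 : ℤ) * h1
    have hdA : 2 * (d * (A : ℤ)) < d * p := by nlinarith
    by_cases hb2 : 2 ≤ b
    · have h1 : 2 * (d * p * b) < 2 * b + d * p + p := by linarith
      have h3 : (0 : ℤ) ≤ (d - 1) * (2 * b - 1) :=
        mul_nonneg (by linarith) (by linarith)
      have h4 : (0 : ℤ) ≤ (p : ℤ) * ((d - 1) * (2 * b - 1)) :=
        mul_nonneg (by linarith) h3
      have h2 : (p : ℤ) * (2 * b - 2) ≤ 2 * (d * p * b) - d * p - p := by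
        have h6 : (p : ℤ) * ((d - 1) * (2 * b - 1))
            = 2 * (d * p * b) - d * p - p - (p : ℤ) * (2 * b - 2) := by ring
        linarith
      have h5 : 3 * (2 * b - 2) ≤ (p : ℤ) * (2 * b - 2) :=
        mul_le_mul_of_nonneg_right hp' (by linarith)
      linarith
    · have hb1' : b = 1 := by omega
      rw [hb1'] at hrel
      have hd1' : d = 1 := by
        by_contra hcon
        have hd2 : 2 ≤ d := by omega
        have h1 : 2 * (d * p) < 2 + d * p + p := by linarith
        have h2 : 2 * (p : ℤ) ≤ d * p := mul_le_mul_of_nonneg_right hd2 (by linarith)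
        linarith
      rw [hd1'] at hrel
      have hpe : (p : ℤ) = 1 + A + A * k := by linear_combination hrel
      have hid : 2 * ((A : ℤ) * (1 + k * p)) - ((p : ℤ) ^ 2 - 1) = A * (k - 1) * (p - 1) := by
        linear_combination (-(p : ℤ) - 1) * hpe
      have hnn : (0 : ℤ) ≤ A * (k - 1) * (p - 1) := by
        have h1 : (0 : ℤ) ≤ (k : ℤ) - 1 := by linarith
        have h2 : (0 : ℤ) ≤ (p : ℤ) - 1 := by linarith
        positivity
      linarith

end Cfsg.Agent.Helper77
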