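import Mathlib

/-!
# S3875, piece AR2: the sum-of-squares arithmetic (helper77)
-/

set_option autoImplicit false

namespace Cfsg.Agent.Helper77

set_option maxHeartbeats 1600000 in
theorem s3875_arith_sq (p A k e t x : ℕ) (hp : p.Prime) (hp2 : p ≠ 2) (hA : 1 ≤ A) (hk : 1 ≤ k)
    (hM : 2 * (A * (1 + k * p)) < p ^ 2 - 1) (he : 2 ≤ e) (het : e * t = p - 1)
    (hx : x = 1 + (e - 1) * (1 + k * p)) (hsq : t * x ^ 2 ≤ p * (A * (1 + k * p))) : False := by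
  have hp3 : 3 ≤ p := by have := hp.two_le; omega
  have hMz : 2 * ((A : ℤ) * (1 + k * p)) + 2 ≤ (p : ℤ) ^ 2 := by
    have h1 : 1 ≤ p ^ 2 := Nat.one_le_pow _ _ hp.pos
    have h2 : 2 * (A * (1 + k * p)) + 2 ≤ p ^ 2 := by omega
    exact_mod_cast h2
  have hp' : (3 : ℤ) ≤ p := by exact_mod_cast hp3
  have hk' : (1 : ℤ) ≤ k := by exact_mod_cast hk
  have he' : (2 : ℤ) ≤ e := by exact_mod_cast he
  have hetz : (e : ℤ) * t = p - 1 := by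
    have h1 : e * t + 1 = p := by omega
    have h2 : (e : ℤ) * t + 1 = p := by exact_mod_cast h1
    linarith
  have hxz : (x : ℤ) = 1 + ((e : ℤ) - 1) * (1 + k * p) := by
    obtain ⟨e', rfl⟩ : ∃ e', e = e' + 1 := ⟨e - 1, by omega⟩
    rw [hx]
    push_cast
    simp
  have hsqz : (t : ℤ) * (x : ℤ) ^ 2 ≤ p * ((A : ℤ) * (1 + k * p)) := by exact_mod_cast hsq
  -- x ≥ e + (e - 1) p
  have hx1 : (e : ℤ) + (e - 1) * p ≤ x := by
    rw [hxz]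
    have h1 : ((e : ℤ) - 1) * (1 * p) ≤ ((e : ℤ) - 1) * (k * p) :=
      mul_le_mul_of_nonneg_left (mul_le_mul_of_nonneg_right hk' (by linarith)) (by linarith)
    linarith
  have hx0 : (0 : ℤ) ≤ (e : ℤ) + (e - 1) * p := by
    have : (0 : ℤ) ≤ ((e : ℤ) - 1) * p := mul_nonneg (by linarith) (by linarith)
    linarith
  have hx2 : ((e : ℤ) + (e - 1) * p) ^ 2 ≤ (x : ℤ) ^ 2 := pow_le_pow_left₀ hx0 hx1 2
  -- 2 (p - 1) x² ≤ 2 e p M < e p (p² - 1)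
  have h1 : 2 * ((p : ℤ) - 1) * (x : ℤ) ^ 2 ≤ 2 * e * (p * ((A : ℤ) * (1 + k * p))) := by
    have h2 := mul_le_mul_of_nonneg_left hsqz (by linarith : (0 : ℤ) ≤ 2 * e)
    have h3 : 2 * (e : ℤ) * (t * (x : ℤ) ^ 2) = 2 * ((p : ℤ) - 1) * (x : ℤ) ^ 2 := by
      rw [← hetz]; ring
    linarith
  have h4 : 2 * (e : ℤ) * (p * ((A : ℤ) * (1 + k * p))) ≤ e * p * ((p : ℤ) ^ 2 - 2) := by
    have h5 := mul_le_mul_of_nonneg_left hMz (mul_nonneg (by linarith : (0 : ℤ) ≤ e)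
      (by linarith : (0 : ℤ) ≤ p))
    linarith
  -- so 2 (p - 1) x² < e p (p - 1)(p + 1), 2 x² < e p (p + 1)
  have h6 : 2 * ((p : ℤ) - 1) * ((e : ℤ) + (e - 1) * p) ^ 2 ≤ e * p * ((p : ℤ) ^ 2 - 2) := by
    have h7 := mul_le_mul_of_nonneg_left hx2 (by linarith : (0 : ℤ) ≤ 2 * ((p : ℤ) - 1))
    linarith
  -- but 2 (e + (e-1) p)² ≥ e p² + e p + 1 ... contradiction
  have h8 : (e : ℤ) * p * (p + 1) ≤ 2 * ((e : ℤ) + (e - 1) * p) ^ 2 := by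
    have h9 : (0 : ℤ) ≤ (2 * (e : ℤ) - 1) * (e - 2) := mul_nonneg (by linarith) (by linarith)
    have h10 : (0 : ℤ) ≤ (2 * (e : ℤ) - 1) * (e - 2) * (p : ℤ) ^ 2 :=
      mul_nonneg h9 (by positivity)
    have h11 : (0 : ℤ) ≤ (e : ℤ) * (4 * (e - 1) - 1) * p :=
      mul_nonneg (mul_nonneg (by linarith) (by linarith)) (by linarith)
    have h12 : 2 * ((e : ℤ) + (e - 1) * p) ^ 2 - (e : ℤ) * p * (p + 1)
        = (2 * (e : ℤ) - 1) * (e - 2) * (p : ℤ) ^ 2 + (e : ℤ) * (4 * (e - 1) - 1) * p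
          + 2 * (e : ℤ) ^ 2 := by ring
    have h13 : (0 : ℤ) ≤ 2 * (e : ℤ) ^ 2 := by positivity
    linarith
  have h14 := mul_le_mul_of_nonneg_left h8 (by linarith : (0 : ℤ) ≤ (p : ℤ) - 1)
  have h15 : ((p : ℤ) - 1) * ((e : ℤ) * p * (p + 1)) = e * p * ((p : ℤ) ^ 2 - 1) := by ring
  have h16 : (0 : ℤ) < (e : ℤ) * p := mul_pos (by linarith) (by linarith)
  linarith

end Cfsg.Agent.Helper77
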