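import Mathlib
import Cfsg.Prelude.Def_Characters
import Cfsg.Prelude.Def_Blocks
import Cfsg.Agent.Helper77.D1Final
import Cfsg.Agent.Helper29.D1SE
import Cfsg.Agent.Helper81.Blocks

/-!
# S3875: the principal `p`-block of a group with a Sylow `p`-subgroup of order `p` (helper77)

`s3875_d1_data`: from the main theorem on blocks of defect one (`d1_main_all`) applied to the
trivial character of the `p`-complement `K` of `C_G(x)`: the block of the trivial character is
`X ⊔ Y` with `|X| · |Y| = p - 1`, signs `c χ = ±1` with `χ(1) ≡ c χ (mod p)` on `X`, and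
`∑_{χ ∈ X} c χ χ(1) = ε ψ(1)` for every `ψ ∈ Y`.
-/

set_option autoImplicit false
open Cfsg
open scoped ComplexConjugate

namespace Cfsg.Agent.Helper77

universe u

theorem s3875_d1_data {G : Type u} [Group G] [Finite G] (p : ℕ) [Fact p.Prime] (hp2 : p ≠ 2)
    (hdiv : p ∣ Nat.card G) (hsq : ¬ p ^ 2 ∣ Nat.card G) :
    ∃ (X Y : Finset (Cfsg.IrrCharacter G)) (c : Cfsg.IrrCharacter G → ℤ) (ε : ℤ),
      Disjoint X Y ∧ (Helper81.trivIrr G ∈ X ∨ Helper81.trivIrr G ∈ Y) ∧
      X.card * Y.card = p - 1 ∧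
      (∀ χ ∈ X, c χ = 1 ∨ c χ = -1) ∧ (ε = 1 ∨ ε = -1) ∧
      (∀ χ ∈ X, (Cfsg.charDegree (χ : G → ℂ) : ℤ) ≡ c χ [ZMOD p]) ∧
      (∀ ψ ∈ Y, ∑ χ ∈ X, c χ * (Cfsg.charDegree (χ : G → ℂ) : ℤ)
        = ε * (Cfsg.charDegree (ψ : G → ℂ) : ℤ)) := by
  classical
  have hp : p.Prime := Fact.out
  obtain ⟨x, K, hD⟩ := Helper29.d1_setup p hdiv hsq
  obtain ⟨M₀, hM₀⟩ := hdiv
  have hpM : ¬ p ∣ M₀ := by
    intro h; apply hsq; rw [hM₀, sq]; exact Nat.mul_dvd_mul_left p h
  obtain ⟨hdvd, X, Y, c, ε, hB, hdisj, hX, hY, hc, hε, -, -, hsum, hdX, -⟩ :=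
    d1_main_all (G := G) p x K M₀ hD hpM (by rw [hM₀]) (Helper81.trivIrr K)
  have hstab : stabUnits p x K (Helper81.trivIrr K : K → ℂ) = normUnits p x := by
    ext u
    simp only [stabUnits, normUnits, thetaConj, Set.mem_ofPred_eq, Helper81.trivIrr_apply]
    constructor
    · rintro ⟨n, hn, -⟩; exact ⟨n, hn⟩
    · rintro ⟨n, hn⟩; exact ⟨n, hn, fun _ _ _ => trivial⟩
  rw [hstab] at hdvd hX hY hdX
  set e := Nat.card (normUnits p x) with he
  have hp1 : 0 < p - 1 := by have := hp.two_le; omega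
  have he0 : 0 < e := Nat.pos_of_dvd_of_pos hdvd hp1
  have hdegK : Cfsg.charDegree (Helper81.trivIrr K : K → ℂ) = 1 := by
    have h1 := Helper81.irr_one_eq_charDegree (Helper81.trivIrr K)
    rw [Helper81.trivIrr_apply] at h1
    exact_mod_cast h1.symm
  have hXf : X.Finite := Set.toFinite X
  have hYf : Y.Finite := Set.toFinite Y
  refine ⟨hXf.toFinset, hYf.toFinset, c, ε, ?_, ?_, ?_, ?_, hε, ?_, ?_⟩
  · rw [Set.Finite.disjoint_toFinset]; exact hdisj
  · have hmem : Helper81.trivIrr G ∈ blkTheta K x (Helper81.trivIrr K : K → ℂ) := by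
      show dco K (Helper81.trivIrr K : K → ℂ) (Helper81.trivIrr G : G → ℂ) x ≠ 0
      unfold dco
      have hK0 : (Nat.card K : ℂ) ≠ 0 := by
        exact_mod_cast (Nat.card_pos (α := K)).ne'
      have h1 : ∑ᶠ k : K, (Helper81.trivIrr G : G → ℂ) (x * (k : G))
          * conj ((Helper81.trivIrr K : K → ℂ) k) = (Nat.card K : ℂ) := by
        simp only [Helper81.trivIrr_apply, map_one, mul_one]
        haveI : Fintype K := Fintype.ofFinite K
        rw [finsum_eq_sum_of_fintype]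
        simp [Nat.card_eq_fintype_card]
      rw [h1, inv_mul_cancel₀ hK0]
      exact one_ne_zero
    rw [hB] at hmem
    rcases hmem with h | h
    · left; exact (Set.Finite.mem_toFinset hXf).mpr h
    · right; exact (Set.Finite.mem_toFinset hYf).mpr h
  · have h1 : hXf.toFinset.card = e := by
      rw [← hX, ← Set.ncard_eq_toFinset_card X hXf, Nat.card_coe_set_eq]
    have h2 : hYf.toFinset.card = (p - 1) / e := by
      rw [← hY, ← Set.ncard_eq_toFinset_card Y hYf, Nat.card_coe_set_eq]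
    rw [h1, h2]
    exact Nat.mul_div_cancel' hdvd
  · intro χ hχ
    exact hc χ ((Set.Finite.mem_toFinset hXf).mp hχ)
  · intro χ hχ
    have h1 := hdX χ ((Set.Finite.mem_toFinset hXf).mp hχ)
    rw [Nat.div_self he0, hdegK] at h1
    simpa using h1
  · intro ψ hψ
    have h1 := hsum ψ ((Set.Finite.mem_toFinset hYf).mp hψ) 1
      (by rw [orderOf_one]; exact hp.one_lt.ne' ∘ Nat.dvd_one.mp)
    rw [finsum_mem_eq_finite_toFinset_sum _ hXf] at h1
    have h2 : ∑ χ ∈ hXf.toFinset, (c χ : ℂ) * (χ : G → ℂ) 1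
        = ((∑ χ ∈ hXf.toFinset, c χ * (Cfsg.charDegree (χ : G → ℂ) : ℤ) : ℤ) : ℂ) := by
      push_cast
      exact Finset.sum_congr rfl (fun χ _ => by rw [Helper81.irr_one_eq_charDegree])
    rw [h2, Helper81.irr_one_eq_charDegree] at h1
    exact_mod_cast h1

end Cfsg.Agent.Helper77
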