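import Mathlib
import Cfsg.Prelude.Def_LocalStructure
import Cfsg.Agent.Helper5.SLCard

/-!
# S3875, piece EXL: `PSL₂(p)` has order `p (p² - 1) / 2` and is not `p`-closed (helper77)
-/

set_option autoImplicit false

namespace Cfsg.Agent.Helper77

open Matrix

/-- the upper unitriangular matrix. -/
def s3875U (p : ℕ) : SpecialLinearGroup (Fin 2) (ZMod p) :=
  ⟨!![1, 1; 0, 1], by simp [Matrix.det_fin_two]⟩

/-- the lower unitriangular matrix. -/
def s3875L (p : ℕ) : SpecialLinearGroup (Fin 2) (ZMod p) :=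
  ⟨!![1, 0; 1, 1], by simp [Matrix.det_fin_two]⟩

theorem s3875U_pow (p n : ℕ) :
    (s3875U p ^ n).1 = !![1, (n : ZMod p); 0, 1] := by
  induction n with
  | zero =>
    ext i j
    fin_cases i <;> fin_cases j <;> simp
  | succ n ih =>
    rw [pow_succ]
    show (s3875U p ^ n).1 * (s3875U p).1 = _
    rw [ih]
    ext i j
    fin_cases i <;> fin_cases j <;> simp [s3875U, Matrix.mul_apply, Fin.sum_univ_two] <;> ring

theorem s3875L_pow (p n : ℕ) :
    (s3875L p ^ n).1 = !![1, 0; (n : ZMod p), 1] := by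
  induction n with
  | zero =>
    ext i j
    fin_cases i <;> fin_cases j <;> simp
  | succ n ih =>
    rw [pow_succ]
    show (s3875L p ^ n).1 * (s3875L p).1 = _
    rw [ih]
    ext i j
    fin_cases i <;> fin_cases j <;> simp [s3875L, Matrix.mul_apply, Fin.sum_univ_two]

theorem s3875U_pow_p (p : ℕ) : s3875U p ^ p = 1 := by
  apply Subtype.ext
  rw [s3875U_pow]
  ext i j
  fin_cases i <;> fin_cases j <;> simp

theorem s3875L_pow_p (p : ℕ) : s3875L p ^ p = 1 := by
  apply Subtype.ext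
  rw [s3875L_pow]
  ext i j
  fin_cases i <;> fin_cases j <;> simp

/-- an element with `g ^ p = 1` lies in a Sylow `p`-subgroup. -/
theorem s3875_exists_sylow_mem {H : Type*} [Group H] [Finite H] (p : ℕ) [Fact p.Prime] (g : H)
    (hg : g ^ p = 1) : ∃ S : Sylow p H, g ∈ (S : Subgroup H) := by
  have hpg : IsPGroup p (Subgroup.zpowers g) := by
    rintro ⟨x, hx⟩
    obtain ⟨j, rfl⟩ := Subgroup.mem_zpowers_iff.mp hx
    refine ⟨1, Subtype.ext ?_⟩
    simp only [pow_one, Subgroup.coe_pow, Subgroup.coe_one]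
    rw [← zpow_natCast, ← _root_.zpow_mul, mul_comm, _root_.zpow_mul, zpow_natCast, hg, _root_.one_zpow]
  obtain ⟨S, hS⟩ := hpg.exists_le_sylow
  exact ⟨S, hS (Subgroup.mem_zpowers g)⟩

theorem s3875_exists_psl (p : ℕ) [Fact p.Prime] (hp2 : p ≠ 2) :
    ∃ (H : Type) (_ : Group H) (_ : Finite H),
      Nat.card H = p * (p ^ 2 - 1) / 2 ∧ ¬ Cfsg.IsPClosed p H := by
  classical
  have hp : p.Prime := Fact.out
  have hp3 : 3 ≤ p := by have := hp.two_le; omega
  haveI : NeZero p := ⟨hp.ne_zero⟩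
  have h2ne : (2 : ZMod p) ≠ 0 := by
    intro h
    have h1 : ((2 : ℕ) : ZMod p) = 0 := by exact_mod_cast h
    rw [ZMod.natCast_eq_zero_iff] at h1
    have := Nat.le_of_dvd (by norm_num) h1
    omega
  have hcard2 : 2 * Nat.card (ProjectiveSpecialLinearGroup (Fin 2) (ZMod p)) = p * (p ^ 2 - 1) := by
    have h1 := Helper5.card_PSL2_mul (F := ZMod p)
    rw [Helper5.card_center_SL2 h2ne, ZMod.card] at h1
    rw [mul_comm]; exact h1
  have hcard : Nat.card (ProjectiveSpecialLinearGroup (Fin 2) (ZMod p)) = p * (p ^ 2 - 1) / 2 := by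
    rw [← hcard2, Nat.mul_div_cancel_left _ (by norm_num : 0 < 2)]
  refine ⟨ProjectiveSpecialLinearGroup (Fin 2) (ZMod p), inferInstance, inferInstance, hcard, ?_⟩
  intro hcl
  set H := ProjectiveSpecialLinearGroup (Fin 2) (ZMod p) with hH
  -- the images of `u` and `l`
  let u' : H := QuotientGroup.mk (s3875U p)
  let l' : H := QuotientGroup.mk (s3875L p)
  have hu' : u' ^ p = 1 := by
    show (QuotientGroup.mk (s3875U p) : H) ^ p = 1
    rw [← QuotientGroup.mk_pow, s3875U_pow_p]; rfl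
  have hl' : l' ^ p = 1 := by
    show (QuotientGroup.mk (s3875L p) : H) ^ p = 1
    rw [← QuotientGroup.mk_pow, s3875L_pow_p]; rfl
  obtain ⟨S, hS⟩ := s3875_exists_sylow_mem p u' hu'
  obtain ⟨S', hS'⟩ := s3875_exists_sylow_mem p l' hl'
  haveI hSn : (S : Subgroup H).Normal := hcl S
  have hSS' : S' = S := by
    obtain ⟨g, hg⟩ := MulAction.exists_smul_eq H S S'
    rw [← hg]
    exact Sylow.smul_eq_of_normal
  rw [hSS'] at hS'
  -- `|S| = p`
  have hH0 : Nat.card H ≠ 0 := Nat.card_pos.ne'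
  have hpdvd : p ∣ Nat.card H := by
    have h1 : p ∣ 2 * Nat.card H := by rw [hcard2]; exact dvd_mul_right _ _
    rcases (Nat.Prime.dvd_mul hp).mp h1 with h | h
    · have := Nat.le_of_dvd (by norm_num) h
      omega
    · exact h
  have hnsq : ¬ p ^ 2 ∣ Nat.card H := by
    intro h
    have h1 : p ^ 2 ∣ p * (p ^ 2 - 1) := by rw [← hcard2]; exact Dvd.dvd.mul_left h 2
    rw [sq] at h1
    have h2 : p ∣ p * p - 1 := Nat.dvd_of_mul_dvd_mul_left hp.pos h1
    have h3 : p ∣ p * p := dvd_mul_right _ _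
    have h4 : 1 ≤ p * p := Nat.mul_pos hp.pos hp.pos
    have h5 : p ∣ 1 := by
      have := (Nat.dvd_sub h3 h2)
      rwa [Nat.sub_sub_self h4] at this
    have := Nat.le_of_dvd one_pos h5
    omega
  have hScard : Nat.card (S : Subgroup H) = p := by
    rw [Sylow.card_eq_multiplicity]
    have h1 : 1 ≤ (Nat.card H).factorization p := by
      rw [← hp.pow_dvd_iff_le_factorization hH0, pow_one]; exact hpdvd
    have h2 : ¬ 2 ≤ (Nat.card H).factorization p := by
      rw [← hp.pow_dvd_iff_le_factorization hH0]; exact hnsq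
    have h3 : (Nat.card H).factorization p = 1 := by omega
    rw [h3, pow_one]
  -- so `u'` and `l'` commute
  have hcommS : u' * l' = l' * u' := by
    haveI : Fact (Nat.card (S : Subgroup H)).Prime := ⟨by rw [hScard]; exact hp⟩
    haveI : IsCyclic (S : Subgroup H) := isCyclic_of_prime_card rfl
    have hcm : IsMulCommutative (S : Subgroup H) := inferInstance
    have h1 := hcm.is_comm.comm ⟨u', hS⟩ ⟨l', hS'⟩
    exact congrArg Subtype.val h1
  -- lift to `SL₂`
  have hmem : (s3875U p * s3875L p)⁻¹ * (s3875L p * s3875U p)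
      ∈ Subgroup.center (SpecialLinearGroup (Fin 2) (ZMod p)) := by
    have h1 : (QuotientGroup.mk (s3875U p * s3875L p) : H)
        = QuotientGroup.mk (s3875L p * s3875U p) := hcommS
    exact QuotientGroup.eq.mp h1
  set c := (s3875U p * s3875L p)⁻¹ * (s3875L p * s3875U p) with hc
  have hrel : s3875L p * s3875U p = s3875U p * s3875L p * c := by rw [hc]; group
  have hcu : s3875U p * c = c * s3875U p := Subgroup.mem_center_iff.mp hmem (s3875U p)
  have hcl' : s3875L p * c = c * s3875L p := Subgroup.mem_center_iff.mp hmem (s3875L p)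
  have hcu' : (s3875U p).1 * c.1 = c.1 * (s3875U p).1 := congrArg Subtype.val hcu
  have hcl'' : (s3875L p).1 * c.1 = c.1 * (s3875L p).1 := congrArg Subtype.val hcl'
  have hrel' : (s3875L p).1 * (s3875U p).1 = (s3875U p).1 * (s3875L p).1 * c.1 :=
    congrArg Subtype.val hrel
  have e1 := congrFun (congrFun hcu' 0) 0
  have e2 := congrFun (congrFun hcu' 0) 1
  have e3 := congrFun (congrFun hcl'' 0) 0
  have e4 := congrFun (congrFun hrel' 0) 0
  have e5 := congrFun (congrFun hrel' 0) 1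
  simp [s3875U, s3875L, Matrix.mul_apply, Fin.sum_univ_two] at e1 e2 e3 e4 e5
  rw [e3] at e2 e5
  rw [e1] at e4
  have h0 : (1 : ZMod p) = 0 := by linear_combination (-1 : ZMod p) * e4 + 2 * e5 + 2 * e2
  exact one_ne_zero h0

end Cfsg.Agent.Helper77
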