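import Mathlib
import Cfsg.Prelude.Def_LocalStructure

/-!
# S3875, piece NS1: `P N = G` in a minimal counterexample (helper77)
-/

set_option autoImplicit false

namespace Cfsg.Agent.Helper77

universe u

theorem s3875_ns_sup {G : Type u} [Group G] [Finite G] (p : ℕ) [Fact p.Prime]
    (P : Sylow p G) (hPn : ¬ (P : Subgroup G).Normal)
    (hsub : ∀ K : Subgroup G, K ≠ ⊤ → Cfsg.IsPClosed p K)
    (N : Subgroup G) [N.Normal] (hquo : Cfsg.IsPClosed p (G ⧸ N)) :
    (P : Subgroup G) ⊔ N = ⊤ := by
  by_contra hne
  set L : Subgroup G := (P : Subgroup G) ⊔ N with hL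
  have hLn : L.Normal := by
    have h1 : (Subgroup.map (QuotientGroup.mk' N) (P : Subgroup G)).Normal := by
      have := hquo (P.mapSurjective (QuotientGroup.mk'_surjective N))
      simpa using this
    have h2 : L = Subgroup.comap (QuotientGroup.mk' N)
        (Subgroup.map (QuotientGroup.mk' N) (P : Subgroup G)) := by
      rw [Subgroup.comap_map_eq, QuotientGroup.ker_mk']
    rw [h2]
    exact Subgroup.Normal.comap h1 _
  have hLc := hsub L hne
  have hPL : (P : Subgroup G) ≤ L := le_sup_left
  have hQn : ((P.subtype hPL : Sylow p L) : Subgroup L).Normal := hLc (P.subtype hPL)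
  haveI hQc : ((P.subtype hPL : Sylow p L) : Subgroup L).Characteristic :=
    Sylow.characteristic_of_normal (P.subtype hPL) hQn
  apply hPn
  have h3 : (P : Subgroup G) = ((P.subtype hPL : Sylow p L) : Subgroup L).map L.subtype := by
    rw [Sylow.coe_subtype, Subgroup.map_subgroupOf_eq_of_le hPL]
  rw [h3]
  exact ConjAct.normal_of_characteristic_of_normal

end Cfsg.Agent.Helper77
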