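import Mathlib

/-!
# S3875, piece NS2: the normal subgroup `N` is a `p'`-group of index `p` (helper77)
-/

set_option autoImplicit false

namespace Cfsg.Agent.Helper77

universe u

theorem s3875_ns_coprime {G : Type u} [Group G] [Finite G] (p : ℕ) [Fact p.Prime]
    (P : Sylow p G) (hP : Nat.card P = p) (N : Subgroup G) [N.Normal] (hN : N ≠ ⊤)
    (hsup : (P : Subgroup G) ⊔ N = ⊤) : ¬ p ∣ Nat.card N ∧ Nat.card G = p * Nat.card N := by
  have hp : p.Prime := Fact.out
  have hinf : (P : Subgroup G) ⊓ N = ⊥ := by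
    have h1 : Nat.card ((P : Subgroup G) ⊓ N : Subgroup G) ∣ p := by
      have h0 := Subgroup.card_dvd_of_le (inf_le_left : (P : Subgroup G) ⊓ N ≤ P)
      rwa [hP] at h0
    rcases (Nat.dvd_prime hp).mp h1 with h | h
    · exact Subgroup.card_eq_one.mp h
    · exfalso
      have h2 : (P : Subgroup G) ⊓ N = P :=
        Subgroup.eq_of_le_of_card_ge inf_le_left (by rw [h]; exact hP.le)
      have h3 : (P : Subgroup G) ≤ N := by rw [← h2]; exact inf_le_right
      rw [sup_eq_right.mpr h3] at hsup
      exact hN hsup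
  have hidx : N.index = p := by
    have h1 : N.relIndex ((P : Subgroup G) ⊔ N) = N.relIndex (P : Subgroup G) :=
      Subgroup.relIndex_sup_right _ _
    rw [hsup, Subgroup.relIndex_top_right] at h1
    rw [h1, ← Subgroup.inf_relIndex_right, inf_comm, hinf, Subgroup.relIndex_bot_left]
    exact hP
  have hcard : Nat.card G = p * Nat.card N := by
    rw [← Subgroup.card_mul_index N, hidx, mul_comm]
  refine ⟨?_, hcard⟩
  intro hdvd
  have h1 : p ^ 2 ∣ Nat.card G := by rw [hcard, sq]; exact Nat.mul_dvd_mul_left p hdvd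
  have h2 := Sylow.pow_dvd_card_of_pow_dvd_card P h1
  rw [hP] at h2
  have h3 := Nat.le_of_dvd hp.pos h2
  nlinarith [hp.two_le]

end Cfsg.Agent.Helper77
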