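import Mathlib
import Cfsg.Prelude.Def_LocalStructure
import Cfsg.Agent.Helper35.CoprimeSylow
import Cfsg.Agent.Helper51.Replace

/-!
# S3875, piece NS3: the normal `p`-complement `N` is a `q`-group (helper77)
-/

set_option autoImplicit false

namespace Cfsg.Agent.Helper77

universe u

theorem s3875_ns_qgroup {G : Type u} [Group G] [Finite G] (p : ℕ) [Fact p.Prime]
    (P : Sylow p G) (hP : Nat.card P = p) (hPn : ¬ (P : Subgroup G).Normal)
    (hsub : ∀ K : Subgroup G, K ≠ ⊤ → Cfsg.IsPClosed p K)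
    (N : Subgroup G) [N.Normal] (hN1 : N ≠ ⊥) (hcop : ¬ p ∣ Nat.card N)
    (hsup : (P : Subgroup G) ⊔ N = ⊤) :
    ∃ q : ℕ, q.Prime ∧ IsPGroup q N := by
  classical
  have hp : p.Prime := Fact.out
  by_contra hno
  push Not at hno
  have hPN : (P : Subgroup G) ⊓ N = ⊥ := by
    have h1 := Subgroup.card_dvd_of_le (inf_le_left : (P : Subgroup G) ⊓ N ≤ P)
    have h2 := Subgroup.card_dvd_of_le (inf_le_right : (P : Subgroup G) ⊓ N ≤ N)
    rw [hP] at h1
    rcases (Nat.dvd_prime hp).mp h1 with h | h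
    · exact Subgroup.card_eq_one.mp h
    · rw [h] at h2; exact absurd h2 hcop
  have hNn : (P : Subgroup G) ≤ Subgroup.normalizer (N : Set G) := by
    rw [Subgroup.normalizer_eq_top]; exact le_top
  have hcardG : Nat.card G = p * Nat.card N := by
    have h1 := Helper51.card_sup_mul_card_inf_of_le_normalizer (P : Subgroup G) N hNn
    rw [hsup, hPN, Subgroup.card_bot, mul_one, Subgroup.card_top, hP] at h1
    exact h1
  have hsolv : Group.IsSolvable (P : Subgroup G) := by
    haveI := P.isPGroup'.isNilpotent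
    infer_instance
  have hcopr : (Nat.card (P : Subgroup G)).Coprime (Nat.card N) := by
    rw [hP]; exact (Nat.Prime.coprime_iff_not_dvd hp).mpr hcop
  have hkey : ∀ q : ℕ, q.Prime → ∀ Q ∈ Helper35.sylowSet q N,
      (P : Subgroup G) ≤ Subgroup.normalizer (Q : Set G) →
      Q ≤ Subgroup.normalizer ((P : Subgroup G) : Set G) := by
    intro q hq Q hQ hPQ
    have hPQbot : (P : Subgroup G) ⊓ Q = ⊥ := by
      rw [eq_bot_iff, ← hPN]; exact inf_le_inf_left _ hQ.1
    have h1 := Helper51.card_sup_mul_card_inf_of_le_normalizer (P : Subgroup G) Q hPQ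
    rw [hPQbot, Subgroup.card_bot, mul_one, hP] at h1
    have hK : (P : Subgroup G) ⊔ Q ≠ ⊤ := by
      intro h
      rw [h, Subgroup.card_top, hcardG] at h1
      have h2 : Nat.card N = Nat.card Q := Nat.eq_of_mul_eq_mul_left hp.pos h1
      have h3 : Q = N := Subgroup.eq_of_le_of_card_ge hQ.1 h2.le
      apply hno q hq
      haveI : Fact q.Prime := ⟨hq⟩
      have h4 := hQ.2
      rw [h3] at h4
      exact IsPGroup.of_card h4
    have hKc := hsub _ hK
    have hPK : (P : Subgroup G) ≤ (P : Subgroup G) ⊔ Q := le_sup_left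
    have hn := hKc (P.subtype hPK)
    rw [Sylow.coe_subtype] at hn
    have h5 := (Subgroup.normal_subgroupOf_iff_le_normalizer hPK).mp hn
    exact le_sup_right.trans h5
  have hdvd : Nat.card N ∣
      Nat.card (N ⊓ Subgroup.normalizer ((P : Subgroup G) : Set G) : Subgroup G) := by
    have hN0 : Nat.card N ≠ 0 := Nat.card_pos.ne'
    have hN10 : Nat.card (N ⊓ Subgroup.normalizer ((P : Subgroup G) : Set G) : Subgroup G) ≠ 0 :=
      Nat.card_pos.ne'
    rw [← Nat.factorization_prime_le_iff_dvd hN0 hN10]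
    intro q hq
    haveI : Fact q.Prime := ⟨hq⟩
    obtain ⟨Q, hQ, hPQ⟩ := Helper35.exists_invariant_sylow hNn hcopr (Or.inl hsolv) q
    have h1 : Q ≤ N ⊓ Subgroup.normalizer ((P : Subgroup G) : Set G) :=
      le_inf hQ.1 (hkey q hq Q hQ hPQ)
    have h2 := Subgroup.card_dvd_of_le h1
    rw [hQ.2] at h2
    exact (hq.pow_dvd_iff_le_factorization hN10).mp h2
  have hle : N ≤ Subgroup.normalizer ((P : Subgroup G) : Set G) := by
    have h1 : N ⊓ Subgroup.normalizer ((P : Subgroup G) : Set G) = N :=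
      Subgroup.eq_of_le_of_card_ge inf_le_left (Nat.le_of_dvd Nat.card_pos hdvd)
    rw [← h1]; exact inf_le_right
  apply hPn
  have h2 : Subgroup.normalizer ((P : Subgroup G) : Set G) = ⊤ := by
    rw [eq_top_iff, ← hsup]; exact sup_le Subgroup.le_normalizer hle
  exact Subgroup.normalizer_eq_top_iff.mp h2

end Cfsg.Agent.Helper77
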