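import Mathlib

/-!
# S3875, piece NS4: `|N| ≡ 1 (mod p)` for the minimal normal `q`-subgroup `N` (helper77)
-/

set_option autoImplicit false

namespace Cfsg.Agent.Helper77

universe u

theorem s3875_ns_mod {G : Type u} [Group G] [Finite G] (p q : ℕ) [Fact p.Prime] (hq : q.Prime)
    (P : Sylow p G) (hP : Nat.card P = p) (hPn : ¬ (P : Subgroup G).Normal)
    (N : Subgroup G) [N.Normal] (hN1 : N ≠ ⊥) (hNq : IsPGroup q N)
    (hmin : ∀ N' : Subgroup G, N'.Normal → N' ≤ N → N' = ⊥ ∨ N' = N)
    (hsup : (P : Subgroup G) ⊔ N = ⊤) : Nat.card N % p = 1 := by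
  classical
  have hp : p.Prime := Fact.out
  haveI : Fact q.Prime := ⟨hq⟩
  -- (a) `N` is commutative
  have hcomm : ∀ a ∈ N, ∀ b ∈ N, a * b = b * a := by
    haveI : Nontrivial N := (Subgroup.nontrivial_iff_ne_bot N).mpr hN1
    have hZnt : Nontrivial (Subgroup.center N) := hNq.center_nontrivial
    have hZn : ((Subgroup.center N).map N.subtype).Normal :=
      ConjAct.normal_of_characteristic_of_normal
    have hZle : (Subgroup.center N).map N.subtype ≤ N := Subgroup.map_subtype_le _
    have hZ : (Subgroup.center N).map N.subtype = N := by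
      rcases hmin _ hZn hZle with h | h
      · exfalso
        have h0 : Subgroup.center N = ⊥ := by
          rwa [Subgroup.map_eq_bot_iff_of_injective _ (Subgroup.subtype_injective N)] at h
        exact (Subgroup.nontrivial_iff_ne_bot _).mp hZnt h0
      · exact h
    intro a ha b hb
    have ha' : a ∈ (Subgroup.center N).map N.subtype := by rw [hZ]; exact ha
    obtain ⟨z, hz, rfl⟩ := ha'
    have h1 := Subgroup.mem_center_iff.mp hz ⟨b, hb⟩
    have h2 := congrArg Subtype.val h1
    simpa using h2.symm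
  -- (b) `C_N(P) = 1`
  have hdecomp : ∀ g : G, ∃ y ∈ (P : Subgroup G), ∃ z ∈ N, y * z = g := by
    intro g
    have h1 : g ∈ (P : Subgroup G) ⊔ N := by rw [hsup]; trivial
    exact Subgroup.mem_sup_of_normal_right.mp h1
  have hCcent : ∀ c ∈ N ⊓ Subgroup.centralizer ((P : Subgroup G) : Set G), ∀ g : G,
      g * c * g⁻¹ = c := by
    intro c hc g
    obtain ⟨y, hy, z, hz, rfl⟩ := hdecomp g
    have h1 : z * c = c * z := hcomm z hz c hc.1
    have h2 : y * c = c * y := Subgroup.mem_centralizer_iff.mp hc.2 y hy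
    calc y * z * c * (y * z)⁻¹ = y * (z * c) * z⁻¹ * y⁻¹ := by group
      _ = y * (c * z) * z⁻¹ * y⁻¹ := by rw [h1]
      _ = (y * c) * y⁻¹ := by group
      _ = c := by rw [h2]; group
  have hCn : (N ⊓ Subgroup.centralizer ((P : Subgroup G) : Set G)).Normal :=
    ⟨fun c hc g => by rw [hCcent c hc g]; exact hc⟩
  have hCbot : N ⊓ Subgroup.centralizer ((P : Subgroup G) : Set G) = ⊥ := by
    rcases hmin _ hCn inf_le_left with h | h
    · exact h
    · exfalso
      apply hPn
      refine ⟨fun x hx g => ?_⟩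
      obtain ⟨y, hy, z, hz, rfl⟩ := hdecomp g
      have hz' : z ∈ N ⊓ Subgroup.centralizer ((P : Subgroup G) : Set G) := by rw [h]; exact hz
      have h1 : x * z = z * x := Subgroup.mem_centralizer_iff.mp hz'.2 x hx
      have h2 : y * z * x * (y * z)⁻¹ = y * x * y⁻¹ := by
        calc y * z * x * (y * z)⁻¹ = y * (z * x) * z⁻¹ * y⁻¹ := by group
          _ = y * (x * z) * z⁻¹ * y⁻¹ := by rw [h1]
          _ = y * x * y⁻¹ := by group
      rw [h2]
      exact mul_mem (mul_mem hy hx) (inv_mem hy)
  -- (c) the conjugation action of `P` on `N`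
  let f : (P : Subgroup G) →* ConjAct G :=
    (ConjAct.toConjAct (G := G)).toMonoidHom.comp (P : Subgroup G).subtype
  letI : MulAction (P : Subgroup G) N := MulAction.compHom N f
  have hsmul : ∀ (y : (P : Subgroup G)) (n : N),
      ((y • n : N) : G) = (y : G) * n * (y : G)⁻¹ := by
    intro y n
    rfl
  have hfix : MulAction.fixedPoints (P : Subgroup G) N = {1} := by
    ext n
    simp only [MulAction.mem_fixedPoints, Set.mem_singleton_iff]
    constructor
    · intro h
      have hn : (n : G) ∈ N ⊓ Subgroup.centralizer ((P : Subgroup G) : Set G) := by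
        refine Subgroup.mem_inf.mpr ⟨n.2, Subgroup.mem_centralizer_iff.mpr ?_⟩
        intro y hy
        have h1 := congrArg Subtype.val (h ⟨y, hy⟩)
        rw [hsmul] at h1
        have h2 : y * (n : G) * y⁻¹ = n := h1
        calc y * (n : G) = y * (n : G) * y⁻¹ * y := by group
          _ = (n : G) * y := by rw [h2]
      rw [hCbot] at hn
      exact Subtype.ext (Subgroup.mem_bot.mp hn)
    · rintro rfl y
      apply Subtype.ext
      rw [hsmul]
      simp
  have hmod := (P.isPGroup').card_modEq_card_fixedPoints N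
  rw [hfix] at hmod
  have h1 : Nat.card (({1} : Set N)) = 1 := by simp
  rw [h1] at hmod
  have h2 := hmod
  rw [Nat.ModEq, Nat.mod_eq_of_lt hp.one_lt] at h2
  exact h2

end Cfsg.Agent.Helper77
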