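import Mathlib

/-!
# S3875, piece ORD: the order of a group with a non-normal Sylow `p`-subgroup (helper77)
-/

set_option autoImplicit false

namespace Cfsg.Agent.Helper77

universe u

theorem s3875_order {G : Type u} [Group G] [Finite G] (p : ℕ) [Fact p.Prime] (P : Sylow p G)
    (hPn : ¬ (P : Subgroup G).Normal) :
    ∃ A k : ℕ, 1 ≤ A ∧ 1 ≤ k ∧ Nat.card G = Nat.card P * (A * (1 + k * p)) := by
  have hp : p.Prime := Fact.out
  have h1 : Nat.card (Sylow p G) ≡ 1 [MOD p] := card_sylow_modEq_one p G
  have h2 := Sylow.card_eq_index_normalizer P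
  have h3 : (P : Subgroup G) ≤ Subgroup.normalizer ((P : Subgroup G) : Set G) :=
    Subgroup.le_normalizer
  obtain ⟨A, hA⟩ := Subgroup.card_dvd_of_le h3
  have h4 := Subgroup.card_mul_index (Subgroup.normalizer ((P : Subgroup G) : Set G))
  have h5 : (Subgroup.normalizer ((P : Subgroup G) : Set G)).index ≠ 1 := by
    intro h
    rw [Subgroup.index_eq_one] at h
    exact hPn (Subgroup.normalizer_eq_top_iff.mp h)
  rw [h2] at h1
  set n := (Subgroup.normalizer ((P : Subgroup G) : Set G)).index with hn
  have h6 : n % p = 1 := by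
    have := h1
    rw [Nat.ModEq, Nat.mod_eq_of_lt hp.one_lt] at this
    exact this
  have h7 : n = 1 + (n / p) * p := by
    have := Nat.div_add_mod n p
    rw [h6] at this
    rw [mul_comm] at this
    omega
  have h8 : 1 ≤ n / p := by
    rcases Nat.eq_zero_or_pos (n / p) with h | h
    · rw [h, zero_mul] at h7; exact absurd h7 h5
    · exact h
  have h9 : 1 ≤ A := by
    rcases Nat.eq_zero_or_pos A with h | h
    · rw [h, mul_zero] at hA
      have : 0 < Nat.card (Subgroup.normalizer ((P : Subgroup G) : Set G)) := Nat.card_pos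
      omega
    · exact h
  refine ⟨A, n / p, h9, h8, ?_⟩
  rw [← h4, hA, ← h7, mul_assoc]

end Cfsg.Agent.Helper77
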