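import Mathlib
import Cfsg.Prelude.Def_Characters
import Cfsg.Prelude.Def_Blocks
import Cfsg.Prelude.Def_LocalStructure
import Cfsg.Agent.Helper77.S3875D1
import Cfsg.Agent.Helper9.BrauerP
import Cfsg.Agent.Helper78.Counting
import Cfsg.Agent.Helper77.S3875AR1
import Cfsg.Agent.Helper77.S3875AR2
import Cfsg.Agent.Helper77.S3875ORD
import Cfsg.Agent.Helper77.S3875NS1
import Cfsg.Agent.Helper77.S3875NS2
import Cfsg.Agent.Helper77.S3875NS3
import Cfsg.Agent.Helper77.S3875NS4
import Cfsg.Agent.Helper77.S3875EXF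
import Cfsg.Agent.Helper77.S3875EXL

/-!
# S3875: the least order of a group with non-normal Sylow `p`-subgroups — assembly (helper77)

* `s3875_simple`: a simple group with a non-normal Sylow `p`-subgroup of order `p` (`p` odd) has
  order at least `p (p² - 1) / 2` (principal block data `s3875_d1_data` from the defect-one theory,
  arithmetic `s3875_arith_deg`, `s3875_arith_sq`).
* `s3875_nonsimple`: a non-simple minimal counterexample has order `p m'` with `m'` a prime power
  congruent to `1` modulo `p`.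
* `s3875_lower`: the lower bound by strong induction on the order.
-/

set_option autoImplicit false
open Cfsg

namespace Cfsg.Agent.Helper77

universe u

/-- The simple case: a simple group with a non-normal Sylow `p`-subgroup of order `p` (`p` odd)
has order at least `p (p² - 1) / 2`. -/
theorem s3875_simple {G : Type u} [Group G] [Finite G] [IsSimpleGroup G] (p : ℕ) [Fact p.Prime]
    (hp2 : p ≠ 2) (P : Sylow p G) (hP : Nat.card P = p) (hPn : ¬ (P : Subgroup G).Normal) :
    p * (p ^ 2 - 1) ≤ 2 * Nat.card G := by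
  classical
  have hp : p.Prime := Fact.out
  have hp3 : 3 ≤ p := by have := hp.two_le; omega
  haveI : Fintype G := Fintype.ofFinite G
  haveI : Fintype (IrrCharacter G) := Fintype.ofFinite _
  have hPtop : (P : Subgroup G) ≠ ⊤ := fun h => hPn (by rw [h]; infer_instance)
  have hlt : Nat.card (P : Subgroup G) < Nat.card G := by
    have h1 := Subgroup.card_le_card_group (P : Subgroup G)
    rcases h1.lt_or_eq with h | h
    · exact h
    · exact absurd ((Subgroup.card_eq_iff_eq_top _).mp h) hPtop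
  have hna := Helper9.BrauerP.exists_not_comm P (by rw [hP]; exact hp.one_lt) hlt
  obtain ⟨A, k, hA, hk, hG⟩ := s3875_order p P hPn
  rw [hP] at hG
  by_contra hcon
  push Not at hcon
  have hM : 2 * (A * (1 + k * p)) < p ^ 2 - 1 := by
    rw [hG] at hcon
    have h1 : p * (2 * (A * (1 + k * p))) < p * (p ^ 2 - 1) := by
      calc p * (2 * (A * (1 + k * p))) = 2 * (p * (A * (1 + k * p))) := by ring
        _ < p * (p ^ 2 - 1) := hcon
    exact lt_of_mul_lt_mul_left h1 (Nat.zero_le _)
  have hdiv : p ∣ Nat.card G := ⟨_, hG⟩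
  have hsq : ¬ p ^ 2 ∣ Nat.card G := by
    intro h
    have h1 := Sylow.pow_dvd_card_of_pow_dvd_card P h
    rw [hP] at h1
    have h2 := Nat.le_of_dvd hp.pos h1
    nlinarith
  obtain ⟨X, Y, c, ε, hdisj, htriv, hXY, hc, hε, hcong, hsum⟩ := s3875_d1_data p hp2 hdiv hsq
  have hdegtriv : Cfsg.charDegree (Helper81.trivIrr G : G → ℂ) = 1 := by
    have h1 := Helper81.irr_one_eq_charDegree (Helper81.trivIrr G)
    rw [Helper81.trivIrr_apply] at h1
    exact_mod_cast h1.symm
  have hkey : ∀ χ ∈ X, χ ≠ Helper81.trivIrr G →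
      c χ = 1 ∧ Cfsg.charDegree (χ : G → ℂ) = 1 + k * p := by
    intro χ hχ hne
    have h2 := Helper9.BrauerP.two_le_charDegree hna χ hne
    have hd := Helper78.charDegree_dvd_card χ
    rw [hG] at hd
    exact s3875_arith_deg p A k _ (c χ) hp hp2 hA hk hM (by omega) hd (hc χ hχ) (hcong χ hχ)
  have hsumsq : ∑ χ : IrrCharacter G, charDegree (χ : G → ℂ) ^ 2 = Nat.card G := by
    have h1 := Helper81.sum_irr_one_mul (1 : G)
    rw [if_pos rfl] at h1
    have h2 : ((∑ χ : IrrCharacter G, charDegree (χ : G → ℂ) ^ 2 : ℕ) : ℂ) = (Nat.card G : ℂ) := by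
      rw [← h1]
      push_cast
      exact Finset.sum_congr rfl (fun χ _ => by rw [Helper81.irr_one_eq_charDegree, sq])
    exact_mod_cast h2
  have hp1 : 2 ≤ p - 1 := by omega
  have hX0 : 1 ≤ X.card := by
    rcases Nat.eq_zero_or_pos X.card with h | h
    · rw [h, zero_mul] at hXY; omega
    · exact h
  have hY0 : 1 ≤ Y.card := by
    rcases Nat.eq_zero_or_pos Y.card with h | h
    · rw [h, mul_zero] at hXY; omega
    · exact h
  have hkp : p + 1 ≤ 1 + k * p := by nlinarith
  rcases htriv with ht | ht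
  · -- the trivial character is in `X`
    have hctriv : c (Helper81.trivIrr G) = 1 := by
      have h1 := hcong _ ht
      rw [hdegtriv] at h1
      rcases hc _ ht with h | h
      · exact h
      · rw [h] at h1
        have h2 : (p : ℤ) ∣ 2 := by
          have := h1.symm.dvd
          simpa using this
        have h3 : p ∣ 2 := by exact_mod_cast h2
        have := Nat.le_of_dvd (by norm_num) h3
        omega
    have hSX : ∑ χ ∈ X, c χ * (Cfsg.charDegree (χ : G → ℂ) : ℤ)
        = 1 + ((X.card - 1 : ℕ) : ℤ) * ((1 + k * p : ℕ) : ℤ) := by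
      rw [← Finset.add_sum_erase X _ ht, hctriv, hdegtriv]
      have h1 : ∑ χ ∈ X.erase (Helper81.trivIrr G), c χ * (Cfsg.charDegree (χ : G → ℂ) : ℤ)
          = ∑ χ ∈ X.erase (Helper81.trivIrr G), ((1 + k * p : ℕ) : ℤ) := by
        refine Finset.sum_congr rfl (fun χ hχ => ?_)
        obtain ⟨h1, h2⟩ := hkey χ (Finset.mem_of_mem_erase hχ) (Finset.ne_of_mem_erase hχ)
        rw [h1, h2, one_mul]
      rw [h1, Finset.sum_const, Finset.card_erase_of_mem ht]
      simp
    obtain ⟨ψ₀, hψ₀⟩ : ∃ ψ, ψ ∈ Y := Finset.card_pos.mp hY0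
    have hdegY : ∀ ψ ∈ Y, Cfsg.charDegree (ψ : G → ℂ) = 1 + (X.card - 1) * (1 + k * p) := by
      intro ψ hψ
      have h1 := hsum ψ hψ
      rw [hSX] at h1
      have hpos : (0 : ℤ) ≤ ((X.card - 1 : ℕ) : ℤ) * ((1 + k * p : ℕ) : ℤ) := by positivity
      rcases hε with h | h
      · rw [h, one_mul] at h1
        have : ((1 + (X.card - 1) * (1 + k * p) : ℕ) : ℤ) = (Cfsg.charDegree (ψ : G → ℂ) : ℤ) := by
          push_cast; push_cast at h1; exact h1
        exact_mod_cast this.symm
      · rw [h] at h1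
        have h2 : (0 : ℤ) ≤ (Cfsg.charDegree (ψ : G → ℂ) : ℤ) := by positivity
        linarith
    by_cases he : X.card = 1
    · have h1 := hdegY ψ₀ hψ₀
      rw [he] at h1
      have hne : ψ₀ ≠ Helper81.trivIrr G := by
        intro h
        rw [h] at hψ₀
        exact (Finset.disjoint_left.mp hdisj ht) hψ₀
      have h2 := Helper9.BrauerP.two_le_charDegree hna ψ₀ hne
      omega
    · have he2 : 2 ≤ X.card := by omega
      have h1 : ∑ ψ ∈ Y, charDegree (ψ : G → ℂ) ^ 2 ≤ Nat.card G := by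
        rw [← hsumsq]
        exact Finset.sum_le_sum_of_subset (Finset.subset_univ Y)
      have h2 : ∑ ψ ∈ Y, charDegree (ψ : G → ℂ) ^ 2
          = Y.card * (1 + (X.card - 1) * (1 + k * p)) ^ 2 := by
        rw [Finset.sum_congr rfl (fun ψ hψ => by rw [hdegY ψ hψ]), Finset.sum_const, smul_eq_mul]
      rw [h2, hG] at h1
      exact s3875_arith_sq p A k X.card Y.card _ hp hp2 hA hk hM he2 hXY rfl h1
  · -- the trivial character is in `Y`
    have h1 := hsum _ ht
    rw [hdegtriv] at h1
    have h2 : ∑ χ ∈ X, c χ * (Cfsg.charDegree (χ : G → ℂ) : ℤ)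
        = ∑ χ ∈ X, ((1 + k * p : ℕ) : ℤ) := by
      refine Finset.sum_congr rfl (fun χ hχ => ?_)
      have hne : χ ≠ Helper81.trivIrr G := by
        intro h
        rw [h] at hχ
        exact (Finset.disjoint_left.mp hdisj hχ) ht
      obtain ⟨h1, h2⟩ := hkey χ hχ hne
      rw [h1, h2, one_mul]
    rw [h2, Finset.sum_const] at h1
    have h3 : ε ≤ 1 := by rcases hε with h | h <;> rw [h] <;> norm_num
    have h4 : ((p + 1 : ℕ) : ℤ) ≤ X.card • ((1 + k * p : ℕ) : ℤ) := by
      rw [nsmul_eq_mul]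
      have h5 : ((p + 1 : ℕ) : ℤ) ≤ ((1 + k * p : ℕ) : ℤ) := by exact_mod_cast hkp
      have h6 : (1 : ℤ) ≤ (X.card : ℤ) := by exact_mod_cast hX0
      have h7 : (0 : ℤ) ≤ ((1 + k * p : ℕ) : ℤ) := by positivity
      nlinarith
    have h5 : ((p + 1 : ℕ) : ℤ) ≤ 1 := by
      calc ((p + 1 : ℕ) : ℤ) ≤ X.card • ((1 + k * p : ℕ) : ℤ) := h4
        _ = ε * ((1 : ℕ) : ℤ) := h1
        _ ≤ 1 := by simpa using h3
    have h6 : p + 1 ≤ 1 := by exact_mod_cast h5
    omega

/-- The non-simple case of a minimal counterexample. -/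
theorem s3875_nonsimple {G : Type u} [Group G] [Finite G] (p : ℕ) [Fact p.Prime]
    (P : Sylow p G) (hP : Nat.card P = p) (hPn : ¬ (P : Subgroup G).Normal)
    (hsub : ∀ K : Subgroup G, K ≠ ⊤ → Cfsg.IsPClosed p K)
    (hquo : ∀ (N : Subgroup G) [N.Normal], N ≠ ⊥ → Cfsg.IsPClosed p (G ⧸ N))
    (hns : ¬ IsSimpleGroup G) :
    ∃ m' : ℕ, IsPrimePow m' ∧ m' % p = 1 ∧ Nat.card G = p * m' := by
  classical
  have hp : p.Prime := Fact.out
  haveI : Nontrivial G := by
    by_contra h
    rw [not_nontrivial_iff_subsingleton] at h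
    apply hPn
    have : (P : Subgroup G) = ⊤ := Subsingleton.elim _ _
    rw [this]; infer_instance
  have hex : ∃ n : ℕ, ∃ N : Subgroup G, N.Normal ∧ N ≠ ⊥ ∧ N ≠ ⊤ ∧ Nat.card N = n := by
    by_contra h
    push Not at h
    apply hns
    refine ⟨fun N hN => ?_⟩
    by_cases h1 : N = ⊥
    · left; exact h1
    · right
      by_contra h2
      exact h _ N hN h1 h2 rfl
  obtain ⟨N, hNn, hN1, hN2, hNc⟩ := Nat.find_spec hex
  have hmin : ∀ N' : Subgroup G, N'.Normal → N' ≤ N → N' = ⊥ ∨ N' = N := by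
    intro N' hN' hle
    by_cases h1 : N' = ⊥
    · left; exact h1
    · right
      have h2 : N' ≠ ⊤ := by
        intro h
        rw [h] at hle
        exact hN2 (top_le_iff.mp hle)
      have h3 : Nat.find hex ≤ Nat.card N' := Nat.find_min' hex ⟨N', hN', h1, h2, rfl⟩
      rw [← hNc] at h3
      exact Subgroup.eq_of_le_of_card_ge hle h3
  haveI := hNn
  have hsup := s3875_ns_sup p P hPn hsub N (hquo N hN1)
  obtain ⟨hcop, hcard⟩ := s3875_ns_coprime p P hP N hN2 hsup
  obtain ⟨q, hq, hNq⟩ := s3875_ns_qgroup p P hP hPn hsub N hN1 hcop hsup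
  have hmod := s3875_ns_mod p q hq P hP hPn N hN1 hNq hmin hsup
  haveI : Fact q.Prime := ⟨hq⟩
  obtain ⟨a, ha⟩ := IsPGroup.iff_card.mp hNq
  have ha0 : a ≠ 0 := by
    intro h
    rw [h, pow_zero] at ha
    exact hN1 ((Subgroup.card_eq_one).mp ha)
  refine ⟨Nat.card N, ?_, hmod, hcard⟩
  rw [ha]
  exact hq.isPrimePow.pow ha0

/-- The lower bound of S3875. -/
theorem s3875_lower (p : ℕ) [Fact p.Prime] (hp2 : p ≠ 2) (m : ℕ)
    (hleast : ∀ k : ℕ, IsPrimePow k → k % p = 1 → m ≤ k) :
    ∀ (n : ℕ) (H : Type) [Group H] [Finite H], Nat.card H = n → ¬ Cfsg.IsPClosed p H →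
      min (p * m) (p * (p ^ 2 - 1) / 2) ≤ n := by
  have hp : p.Prime := Fact.out
  have hp3 : 3 ≤ p := by have := hp.two_le; omega
  intro n
  induction n using Nat.strong_induction_on with
  | _ n ih =>
    intro H _ _ hn hnc
    by_cases h1 : ∃ K : Subgroup H, K ≠ ⊤ ∧ ¬ Cfsg.IsPClosed p K
    · obtain ⟨K, hK, hKc⟩ := h1
      have hlt : Nat.card K < n := by
        rw [← hn]
        have h1 := Subgroup.card_le_card_group K
        rcases h1.lt_or_eq with h | h
        · exact h
        · exact absurd ((Subgroup.card_eq_iff_eq_top _).mp h) hK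
      exact (ih _ hlt K rfl hKc).trans hlt.le
    by_cases h2 : ∃ N : Subgroup H, ∃ _ : N.Normal, N ≠ ⊥ ∧ ¬ Cfsg.IsPClosed p (H ⧸ N)
    · obtain ⟨N, hNn, hN, hNc⟩ := h2
      have hlt : Nat.card (H ⧸ N) < n := by
        rw [← hn, ← Subgroup.card_mul_index N]
        have h3 : 1 < Nat.card N := by
          rcases Nat.lt_or_ge 1 (Nat.card N) with h | h
          · exact h
          · have h4 : Nat.card N = 1 := le_antisymm h Nat.card_pos
            exact absurd (Subgroup.card_eq_one.mp h4) hN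
        have h4 : 0 < N.index := Nat.pos_of_ne_zero (Subgroup.index_ne_zero_of_finite)
        show N.index < Nat.card N * N.index
        nlinarith
      exact (ih _ hlt (H ⧸ N) rfl hNc).trans hlt.le
    push Not at h1 h2
    obtain ⟨P, hPn⟩ : ∃ P : Sylow p H, ¬ (P : Subgroup H).Normal := by
      unfold Cfsg.IsPClosed at hnc
      push Not at hnc
      exact hnc
    obtain ⟨A, k, hA, hk, hG⟩ := s3875_order p P hPn
    have hkp : p + 1 ≤ 1 + k * p := by nlinarith
    have hAk : p + 1 ≤ A * (1 + k * p) := by nlinarith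
    by_cases hP : Nat.card P = p
    · by_cases hs : IsSimpleGroup H
      · have h3 := s3875_simple p hp2 P hP hPn
        rw [hn] at h3
        have h4 : p * (p ^ 2 - 1) / 2 ≤ n := by
          apply Nat.div_le_of_le_mul
          exact h3
        exact (min_le_right _ _).trans h4
      · obtain ⟨m', hm', hm'1, hcard⟩ := s3875_nonsimple p P hP hPn (fun K hK => h1 K hK)
          (fun N _ hN => h2 N ‹_› hN) hs
        have h3 := hleast m' hm' hm'1
        rw [hn] at hcard
        rw [hcard]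
        exact (min_le_left _ _).trans (Nat.mul_le_mul_left p h3)
    · obtain ⟨j, hj⟩ := IsPGroup.iff_card.mp P.isPGroup'
      have hj1 : j ≠ 1 := by
        intro h; rw [h, pow_one] at hj; exact hP hj
      have hj0 : j ≠ 0 := by
        intro h
        rw [h, pow_zero] at hj
        apply hPn
        have : (P : Subgroup H) = ⊥ := Subgroup.card_eq_one.mp hj
        rw [this]; infer_instance
      have hj2 : p ^ 2 ≤ Nat.card P := by
        rw [hj]
        exact Nat.pow_le_pow_right hp.pos (by omega)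
      have h3 : p ^ 2 * (p + 1) ≤ n := by
        rw [← hn, hG]
        exact Nat.mul_le_mul hj2 hAk
      have h4 : p * (p ^ 2 - 1) / 2 ≤ p ^ 2 * (p + 1) := by
        apply Nat.div_le_of_le_mul
        have h5 : p ^ 2 - 1 ≤ p ^ 2 := Nat.sub_le _ _
        nlinarith
      exact (min_le_right _ _).trans (h4.trans h3)

end Cfsg.Agent.Helper77
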