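import Mathlib
import Cfsg.Prelude.Def_LocalStructure
import Cfsg.Agent.Helper77.S3875EXL

/-!
# S3875, piece EXF: the Frobenius group `F_m ⋊ C_p` of order `p m` is not `p`-closed (helper77)
-/

set_option autoImplicit false

namespace Cfsg.Agent.Helper77

/-- multiplication by the units of a subgroup `C ≤ Fˣ` as automorphisms of the additive group. -/
def s3875Phi (F : Type) [Field F] (C : Subgroup Fˣ) : C →* MulAut (Multiplicative F) where
  toFun c :=
    { toFun := fun x => Multiplicative.ofAdd (((c : Fˣ) : F) * Multiplicative.toAdd x)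
      invFun := fun x => Multiplicative.ofAdd ((((c : Fˣ)⁻¹ : Fˣ) : F) * Multiplicative.toAdd x)
      left_inv := fun x => by simp
      right_inv := fun x => by simp
      map_mul' := fun x y => by simp [mul_add] }
  map_one' := by ext x; simp
  map_mul' := fun c d => by ext x; simp [mul_assoc]

theorem s3875Phi_apply (F : Type) [Field F] (C : Subgroup Fˣ) (c : C) (x : Multiplicative F) :
    s3875Phi F C c x = Multiplicative.ofAdd (((c : Fˣ) : F) * Multiplicative.toAdd x) := rfl

theorem s3875_exists_frob (p m : ℕ) [Fact p.Prime] (hm : IsPrimePow m) (hm1 : m % p = 1) :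
    ∃ (H : Type) (_ : Group H) (_ : Finite H), Nat.card H = p * m ∧ ¬ Cfsg.IsPClosed p H := by
  classical
  have hp : p.Prime := Fact.out
  obtain ⟨q, a, hq, ha, rfl⟩ := (isPrimePow_nat_iff m).mp hm
  haveI : Fact q.Prime := ⟨hq⟩
  have hFcard : Nat.card (GaloisField q a) = q ^ a := GaloisField.card q a ha.ne'
  have hpm : ¬ p ∣ q ^ a := by
    intro h
    have := Nat.mod_eq_zero_of_dvd h
    omega
  have hunits : Nat.card (GaloisField q a)ˣ = q ^ a - 1 := by
    rw [Nat.card_units, hFcard]
  have hdvd : p ∣ Nat.card (GaloisField q a)ˣ := by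
    rw [hunits]
    have h1 := Nat.div_add_mod (q ^ a) p
    rw [hm1] at h1
    exact ⟨q ^ a / p, by omega⟩
  obtain ⟨u, hu⟩ := exists_prime_orderOf_dvd_card' p hdvd
  set C : Subgroup (GaloisField q a)ˣ := Subgroup.zpowers u with hC
  have hCcard : Nat.card C = p := by rw [hC, Nat.card_zpowers, hu]
  have hNcard : Nat.card (Multiplicative (GaloisField q a)) = q ^ a := hFcard
  haveI : Finite (Multiplicative (GaloisField q a)) := inferInstanceAs (Finite (GaloisField q a))
  have hcard : Nat.card (Multiplicative (GaloisField q a) ⋊[s3875Phi (GaloisField q a) C] C)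
      = p * q ^ a := by
    rw [SemidirectProduct.card, hNcard, hCcard, mul_comm]
  haveI : Finite (Multiplicative (GaloisField q a) ⋊[s3875Phi (GaloisField q a) C] C) :=
    Nat.finite_of_card_ne_zero (by rw [hcard]; exact (Nat.mul_pos hp.pos (Nat.pos_of_ne_zero (by
      intro h; rw [h] at hpm; exact hpm (dvd_zero p)))).ne')
  refine ⟨Multiplicative (GaloisField q a) ⋊[s3875Phi (GaloisField q a) C] C, inferInstance,
    inferInstance, hcard, ?_⟩
  intro hcl
  set φ := s3875Phi (GaloisField q a) C with hφ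
  set c : C := ⟨u, Subgroup.mem_zpowers u⟩ with hc
  have hcp : c ^ p = 1 := by
    apply Subtype.ext
    rw [Subgroup.coe_pow, Subgroup.coe_one]
    show u ^ p = 1
    rw [← hu]; exact pow_orderOf_eq_one u
  set n : Multiplicative (GaloisField q a) := Multiplicative.ofAdd 1 with hn
  set x : Multiplicative (GaloisField q a) ⋊[φ] C := SemidirectProduct.inr c with hx
  have hxp : x ^ p = 1 := by rw [hx, ← map_pow, hcp, map_one]
  obtain ⟨S, hxS⟩ := s3875_exists_sylow_mem p x hxp
  haveI hSn : (S : Subgroup (Multiplicative (GaloisField q a) ⋊[φ] C)).Normal := hcl S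
  have hyS : SemidirectProduct.inl n * x * (SemidirectProduct.inl n)⁻¹
      ∈ (S : Subgroup (Multiplicative (GaloisField q a) ⋊[φ] C)) := hSn.conj_mem x hxS _
  have hzS : x⁻¹ * (SemidirectProduct.inl n * x * (SemidirectProduct.inl n)⁻¹)
      ∈ (S : Subgroup (Multiplicative (GaloisField q a) ⋊[φ] C)) :=
    mul_mem (inv_mem hxS) hyS
  have hz : x⁻¹ * (SemidirectProduct.inl n * x * (SemidirectProduct.inl n)⁻¹)
      = SemidirectProduct.inl (φ c⁻¹ n * n⁻¹) := by
    rw [map_mul, SemidirectProduct.inl_aut, hx]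
    simp only [map_inv, inv_inv]
    group
  rw [hz] at hzS
  set w := φ c⁻¹ n * n⁻¹ with hw
  obtain ⟨k, hk⟩ := S.isPGroup' ⟨SemidirectProduct.inl w, hzS⟩
  have hk' : (SemidirectProduct.inl w : Multiplicative (GaloisField q a) ⋊[φ] C) ^ p ^ k = 1 := by
    have := congrArg Subtype.val hk
    simpa using this
  have hwk : w ^ p ^ k = 1 := by
    apply SemidirectProduct.inl_injective (φ := φ)
    rw [map_pow, hk', map_one]
  have hwm : w ^ q ^ a = 1 := by
    rw [← hNcard]; exact pow_card_eq_one'
  have hw1 : w = 1 := by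
    have h1 : orderOf w ∣ p ^ k := orderOf_dvd_of_pow_eq_one hwk
    have h2 : orderOf w ∣ q ^ a := orderOf_dvd_of_pow_eq_one hwm
    have h3 : Nat.Coprime (p ^ k) (q ^ a) :=
      Nat.Coprime.pow_left k ((Nat.Prime.coprime_iff_not_dvd hp).mpr hpm)
    have h4 : orderOf w ∣ 1 := by
      have := Nat.dvd_gcd h1 h2
      rwa [h3] at this
    exact orderOf_eq_one_iff.mp (Nat.dvd_one.mp h4)
  have h5 : φ c⁻¹ n = n := by
    rw [hw] at hw1
    exact mul_inv_eq_one.mp hw1
  rw [hφ, s3875Phi_apply, hn] at h5
  have h6 : (((c⁻¹ : C) : (GaloisField q a)ˣ) : GaloisField q a) * 1 = 1 := by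
    have := congrArg Multiplicative.toAdd h5
    simpa using this
  have h7 : (c⁻¹ : C) = 1 := by
    apply Subtype.ext
    apply Units.ext
    simpa using h6
  have h8 : u = 1 := by
    have h9 : c = 1 := inv_eq_one.mp h7
    have := congrArg Subtype.val h9
    simpa [hc] using this
  rw [h8, orderOf_one] at hu
  have := hp.two_le
  omega

end Cfsg.Agent.Helper77
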