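/-
helper77: sub-CALL S74T2 (helper65, row S5974), piece SIEGJ (double), pure Mathlib.
-/
import Mathlib

set_option autoImplicit false
set_option linter.unusedSectionVars false
set_option linter.unusedVariables false

namespace Cfsg.Agent.Helper77.S74T2

section sieg

variable {F : Type*} [Field F]

/-- SIEGJ [S]: for `d` even there is `T` with `T - Tᵀ` injective (`T i j = 1` iff `i` even and
`j = i + 1`). -/
theorem t2_siegJ (d : ℕ) (hde : Even d) :
    ∃ T : Matrix (Fin d) (Fin d) F, ∀ b : Fin d → F, (T - T.transpose).mulVec b = 0 → b = 0 := by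
  classical
  obtain ⟨k, hk⟩ := hde
  obtain ⟨T, hT⟩ : ∃ T : Matrix (Fin d) (Fin d) F, ∀ i j : Fin d,
      T i j = if i.val % 2 = 0 ∧ j.val = i.val + 1 then (1 : F) else 0 :=
    ⟨Matrix.of fun i j : Fin d => if i.val % 2 = 0 ∧ j.val = i.val + 1 then (1 : F) else 0,
      fun _ _ => rfl⟩
  refine ⟨T, ?_⟩
  intro b hb
  funext j
  rw [Pi.zero_apply]
  by_cases hj : j.val % 2 = 0
  · have hi : j.val + 1 < d := by have := j.isLt; omega
    have h1 := congrFun hb ⟨j.val + 1, hi⟩
    rw [Matrix.mulVec, dotProduct, Finset.sum_eq_single j] at h1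
    · rw [Matrix.sub_apply, Matrix.transpose_apply, hT, hT, Pi.zero_apply] at h1
      have h2 : ¬ ((j.val + 1) % 2 = 0 ∧ j.val = j.val + 1 + 1) := by omega
      have h3 : (j.val % 2 = 0 ∧ j.val + 1 = j.val + 1) := ⟨hj, rfl⟩
      rw [if_neg h2, if_pos h3, zero_sub, neg_mul, one_mul, neg_eq_zero] at h1
      exact h1
    · intro l _ hl
      rw [Matrix.sub_apply, Matrix.transpose_apply, hT, hT]
      have h2 : ¬ ((j.val + 1) % 2 = 0 ∧ l.val = j.val + 1 + 1) := by omega
      have h3 : ¬ (l.val % 2 = 0 ∧ j.val + 1 = l.val + 1) := by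
        rintro ⟨_, h⟩
        exact hl (Fin.ext (by omega))
      rw [if_neg h2, if_neg h3, sub_zero, zero_mul]
    · intro h
      exact absurd (Finset.mem_univ _) h
  · have hi : j.val - 1 < d := by have := j.isLt; omega
    have h1 := congrFun hb ⟨j.val - 1, hi⟩
    rw [Matrix.mulVec, dotProduct, Finset.sum_eq_single j] at h1
    · rw [Matrix.sub_apply, Matrix.transpose_apply, hT, hT, Pi.zero_apply] at h1
      have h2 : ((j.val - 1) % 2 = 0 ∧ j.val = j.val - 1 + 1) := by omega
      have h3 : ¬ (j.val % 2 = 0 ∧ j.val - 1 = j.val + 1) := by omega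
      rw [if_pos h2, if_neg h3, sub_zero, one_mul] at h1
      exact h1
    · intro l _ hl
      rw [Matrix.sub_apply, Matrix.transpose_apply, hT, hT]
      have h2 : ¬ ((j.val - 1) % 2 = 0 ∧ l.val = j.val - 1 + 1) := by
        rintro ⟨_, h⟩
        exact hl (Fin.ext (by omega))
      have h3 : ¬ (l.val % 2 = 0 ∧ j.val - 1 = l.val + 1) := by omega
      rw [if_neg h2, if_neg h3, sub_zero, zero_mul]
    · intro h
      exact absurd (Finset.mem_univ _) h

end sieg

end Cfsg.Agent.Helper77.S74T2
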