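import Mathlib

/-!
CALL SL2L (helper2), piece G5 (double by helper77): a line `L` (order `p²`, containing the central
subgroup `Z` of order `p`) is `⟨d⟩ Z` for any `d ∈ L ∖ Z`.
-/

set_option autoImplicit false

namespace Cfsg.Agent.Helper77

open Subgroup

universe u

variable {Γ : Type u} [Group Γ] [Finite Γ]

/-- PIECE G5 (a line is `⟨d⟩ Z`): `⟨d⟩ ⊔ Z ≤ L` has order `> p` dividing `p²`, so equals `L`; its
elements are `d ^ i * z`. -/
theorem sl2l_line_gen {p : ℕ} (hp : p.Prime) {Z L : Subgroup Γ} (hZL : Z ≤ L)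
    (hZc : Nat.card Z = p) (hLc : Nat.card L = p ^ 2)
    (hZcen : ∀ z ∈ Z, ∀ a ∈ L, z * a = a * z) {d : Γ} (hd : d ∈ L) (hdZ : d ∉ Z) {b : Γ}
    (hb : b ∈ L) : ∃ (i : ℕ) (z : Γ), z ∈ Z ∧ b = d ^ i * z := by
  classical
  have hcomm : ∀ z ∈ Z, ∀ j : ℕ, z * d ^ j = d ^ j * z := by
    intro z hz j
    exact hZcen z hz (d ^ j) (L.pow_mem hd j)
  let M : Subgroup Γ :=
    { carrier := {x | ∃ (i : ℕ) (z : Γ), z ∈ Z ∧ x = d ^ i * z}
      one_mem' := ⟨0, 1, Z.one_mem, by simp⟩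
      mul_mem' := by
        rintro x y ⟨i, z, hz, rfl⟩ ⟨j, z', hz', rfl⟩
        refine ⟨i + j, z * z', Z.mul_mem hz hz', ?_⟩
        have h := hcomm z hz j
        calc d ^ i * z * (d ^ j * z') = d ^ i * (z * d ^ j) * z' := by group
          _ = d ^ i * (d ^ j * z) * z' := by rw [h]
          _ = d ^ (i + j) * (z * z') := by rw [pow_add]; group
      inv_mem' := by
        rintro x ⟨i, z, hz, rfl⟩
        refine ⟨(orderOf d - 1) * i, z⁻¹, Z.inv_mem hz, ?_⟩
        have h1 : d⁻¹ = d ^ (orderOf d - 1) := by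
          have hpos : 0 < orderOf d := orderOf_pos d
          have h0 : d * d ^ (orderOf d - 1) = 1 := by
            rw [← pow_succ', Nat.sub_add_cancel hpos, pow_orderOf_eq_one]
          exact inv_eq_of_mul_eq_one_right h0
        have h2 : (d ^ i)⁻¹ = d ^ ((orderOf d - 1) * i) := by
          rw [pow_mul, ← h1, inv_pow]
        have h3 := hcomm z⁻¹ (Z.inv_mem hz) ((orderOf d - 1) * i)
        rw [mul_inv_rev, h2, h3] }
  have hZM : Z ≤ M := fun z hz => ⟨0, z, hz, by simp⟩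
  have hdM : d ∈ M := ⟨1, 1, Z.one_mem, by simp⟩
  have hML : M ≤ L := by
    rintro x ⟨i, z, hz, rfl⟩
    exact L.mul_mem (L.pow_mem hd i) (hZL hz)
  have hMdvd : Nat.card M ∣ p ^ 2 := hLc ▸ Subgroup.card_dvd_of_le hML
  obtain ⟨k, hk, hMk⟩ := (Nat.dvd_prime_pow hp).mp hMdvd
  have hZMc : Nat.card Z ≤ Nat.card M :=
    Nat.le_of_dvd Nat.card_pos (Subgroup.card_dvd_of_le hZM)
  have hMne : Nat.card M ≠ Nat.card Z := by
    intro h
    have hZMeq : Z = M := Subgroup.eq_of_le_of_card_ge hZM h.le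
    exact hdZ (hZMeq ▸ hdM)
  have hk2 : k = 2 := by
    interval_cases k
    · exfalso
      rw [hMk, hZc, pow_zero] at hZMc
      exact absurd hZMc (not_le.mpr hp.one_lt)
    · exfalso
      apply hMne
      rw [hMk, hZc, pow_one]
    · rfl
  have hMLeq : M = L := Subgroup.eq_of_le_of_card_ge hML (by rw [hLc, hMk, hk2])
  have hbM : b ∈ M := hMLeq ▸ hb
  exact hbM

end Cfsg.Agent.Helper77
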