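import Cfsg.Prelude.Def_BrauerPairs
import Cfsg.Agent.Helper77.IrrAction
import Cfsg.Agent.Helper77.BrauerPair
import Cfsg.Agent.Helper16.BrauerMap

/-!
# The Brauer map on functions that are only stable under the `p`-subgroup

For a `p`-subgroup `P` of `G`, `Cfsg.brauerOmega P a ξ` is `Ω_ξ` of the restriction of `a` to
`C_G(P)`.

* `InvUnder L a`, `SuppIn K a`: invariance under conjugation by `L`, support inside `K`.
* `brauerOmega_conv_sub_memLocalIdeal`: `a ↦ brauerOmega P a ξ` is multiplicative modulo the local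
  ideal on functions with local values that are invariant under `P` and `C_G(P)`.
* `brauerOmega_sub_omega_memLocalIdeal` (lifting): if `g` is a `P`-stable block of `K ⊇ C_G(P)`
  with `brauerOmega P (idempotent of g) ξ ≡ 1`, then `brauerOmega P a ξ ≡ Ω_η (a|K)` for every
  `η ∈ g` and every `P`-stable `K`-class function `a` supported on `K` with local values.
* `conv_sbc`: products of the idempotents `Cfsg.subgroupBlockCoeff K f`.
-/

set_option autoImplicit false
set_option linter.style.haveILetI false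
open Cfsg

namespace Cfsg.Agent.Helper77

universe u

variable {G : Type u} [Group G]

/-- Invariance of a function on `G` under conjugation by the elements of the subgroup `L`. -/
def InvUnder (L : Subgroup G) (a : G → ℂ) : Prop := ∀ d ∈ L, ∀ x, a (d * x * d⁻¹) = a x

/-- The function `a` on `G` vanishes outside the subgroup `K`. -/
def SuppIn (K : Subgroup G) (a : G → ℂ) : Prop := ∀ x, x ∉ K → a x = 0

theorem invUnder_of_isClassFunction {a : G → ℂ} (ha : Cfsg.IsClassFunction G a)
    (L : Subgroup G) : InvUnder L a := fun d _ x => ha x d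

theorem InvUnder.mono {L L' : Subgroup G} {a : G → ℂ} (ha : InvUnder L a) (h : L' ≤ L) :
    InvUnder L' a := fun d hd x => ha d (h hd) x

theorem invUnder_sub {L : Subgroup G} {a b : G → ℂ} (ha : InvUnder L a) (hb : InvUnder L b) :
    InvUnder L (a - b) := fun d hd x => by
  show a (d * x * d⁻¹) - b (d * x * d⁻¹) = a x - b x
  rw [ha d hd x, hb d hd x]

theorem invUnder_deltaOne (L : Subgroup G) (c : ℂ) : InvUnder L (Helper81.deltaOne c) :=
  fun d _ x => Helper81.deltaOne_isClassFunction c x d

theorem invUnder_conv [Fintype G] {L : Subgroup G} {a b : G → ℂ} (ha : InvUnder L a)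
    (hb : InvUnder L b) : InvUnder L (Helper81.conv a b) := by
  intro d hd g
  show ∑ x : G, a x * b (x⁻¹ * (d * g * d⁻¹)) = ∑ x : G, a x * b (x⁻¹ * g)
  refine (Fintype.sum_bijective (fun x => d * x * d⁻¹) (MulAut.conj d).bijective _ _ ?_).symm
  intro x
  rw [ha d hd x]
  congr 1
  rw [← hb d hd (x⁻¹ * g)]
  congr 1
  group

theorem suppIn_sub {K : Subgroup G} {a b : G → ℂ} (ha : SuppIn K a) (hb : SuppIn K b) :
    SuppIn K (a - b) := fun x hx => by
  show a x - b x = 0
  rw [ha x hx, hb x hx, sub_zero]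

theorem suppIn_deltaOne (K : Subgroup G) (c : ℂ) : SuppIn K (Helper81.deltaOne c) := by
  classical
  intro x hx
  show (if x = 1 then c else 0) = 0
  rw [if_neg]
  rintro rfl
  exact hx (Subgroup.one_mem _)

theorem suppIn_conv [Fintype G] {K : Subgroup G} {a b : G → ℂ} (ha : SuppIn K a)
    (hb : SuppIn K b) : SuppIn K (Helper81.conv a b) := by
  intro g hg
  show ∑ x : G, a x * b (x⁻¹ * g) = 0
  refine Finset.sum_eq_zero fun x _ => ?_
  by_cases hx : x ∈ K
  · rw [hb _ (fun h => hg (by simpa using Subgroup.mul_mem _ hx h)), mul_zero]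
  · rw [ha x hx, zero_mul]

theorem isClassFunction_restrict {K : Subgroup G} {a : G → ℂ} (ha : InvUnder K a) :
    Cfsg.IsClassFunction K (fun k : K => a k) := by
  intro g h
  show a ((h * g * h⁻¹ : K) : G) = a g
  push_cast
  exact ha h h.2 g

/-- A sum over `G` of a function vanishing outside `K` is the sum over `K`. -/
theorem sum_eq_sum_subgroup_of_suppIn [Fintype G] (K : Subgroup G) [Fintype K] (F : G → ℂ)
    (hF : ∀ x, x ∉ K → F x = 0) : ∑ x : G, F x = ∑ x : K, F x := by
  classical
  have h1 : ∑ x ∈ Finset.univ.filter (fun x : G => x ∈ K), F x = ∑ x : G, F x :=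
    Finset.sum_subset (Finset.subset_univ _) (fun x _ hx => hF x (by simpa using hx))
  rw [← h1]
  exact Finset.sum_subtype (Finset.univ.filter (fun x : G => x ∈ K)) (by simp) F

/-- For functions supported on `K`, convolution in `G` restricts to convolution in `K`. -/
theorem conv_restrict [Fintype G] (K : Subgroup G) [Fintype K] {a : G → ℂ} (ha : SuppIn K a)
    (b : G → ℂ) (k : K) :
    Helper81.conv a b (k : G) = Helper81.conv (fun k : K => a k) (fun k : K => b k) k := by
  show ∑ x : G, a x * b (x⁻¹ * (k : G)) = ∑ x : K, a x * b ((x⁻¹ * k : K) : G)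
  rw [sum_eq_sum_subgroup_of_suppIn K (fun x => a x * b (x⁻¹ * (k : G)))
    (fun x hx => by rw [ha x hx, zero_mul])]
  refine Finset.sum_congr rfl fun x _ => ?_
  push_cast
  rfl

theorem deltaOne_restrict (K : Subgroup G) (c : ℂ) :
    (fun k : K => Helper81.deltaOne c (k : G)) = Helper81.deltaOne c := by
  funext k
  delta Helper81.deltaOne
  by_cases hk : k = 1
  · rw [if_pos hk, if_pos (by rw [hk]; rfl)]
  · have hk' : ¬ ((k : G) = 1) := fun h => hk (Subtype.ext h)
    rw [if_neg hk, if_neg hk']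

/-- `brauerOmega` is `Ω_ξ` of the restriction to `C_G(P)`. -/
theorem brauerOmega_eq_restrict (P : Subgroup G) [Fintype (Subgroup.centralizer (P : Set G))]
    (β : G → ℂ) (ξ : Subgroup.centralizer (P : Set G) → ℂ) :
    Cfsg.brauerOmega P β ξ
      = Helper81.omega ξ (fun c : Subgroup.centralizer (P : Set G) => β c) := by
  rw [brauerOmega_eq_omega]
  congr 1
  funext c
  exact Helper16.brRes_apply_of_mem _ c.2

theorem brauerOmega_sub (P : Subgroup G) (a b : G → ℂ)
    (ξ : Subgroup.centralizer (P : Set G) → ℂ) [Finite G] :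
    Cfsg.brauerOmega P (a - b) ξ = Cfsg.brauerOmega P a ξ - Cfsg.brauerOmega P b ξ := by
  classical
  letI : Fintype (Subgroup.centralizer (P : Set G)) := Fintype.ofFinite _
  rw [brauerOmega_eq_restrict, brauerOmega_eq_restrict, brauerOmega_eq_restrict,
    ← Helper81.omega_sub]
  rfl

theorem brauerOmega_zero (P : Subgroup G) (ξ : Subgroup.centralizer (P : Set G) → ℂ)
    [Finite G] : Cfsg.brauerOmega P 0 ξ = 0 := by
  classical
  letI : Fintype (Subgroup.centralizer (P : Set G)) := Fintype.ofFinite _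
  rw [brauerOmega_eq_restrict]
  exact Helper16.omega_zero ξ

theorem brauerOmega_deltaOne (P : Subgroup G) [Finite G]
    (ξ : Cfsg.IrrCharacter (Subgroup.centralizer (P : Set G))) (c : ℂ) :
    Cfsg.brauerOmega P (Helper81.deltaOne c) (ξ : _ → ℂ) = c := by
  classical
  letI : Fintype (Subgroup.centralizer (P : Set G)) := Fintype.ofFinite _
  rw [brauerOmega_eq_restrict, deltaOne_restrict, Helper81.omega_deltaOne]

/-- `brauerOmega` only depends on the values on `C_G(P)`. -/
theorem brauerOmega_congr (P : Subgroup G) [Finite G] {a b : G → ℂ}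
    (ξ : Subgroup.centralizer (P : Set G) → ℂ)
    (h : ∀ c ∈ Subgroup.centralizer (P : Set G), a c = b c) :
    Cfsg.brauerOmega P a ξ = Cfsg.brauerOmega P b ξ := by
  classical
  letI : Fintype (Subgroup.centralizer (P : Set G)) := Fintype.ofFinite _
  rw [brauerOmega_eq_restrict, brauerOmega_eq_restrict]
  congr 1
  funext c
  exact h c c.2

theorem brauerOmega_memLocalRing [Finite G] {M : Ideal Cfsg.AlgInt} (hM : M.IsMaximal)
    (P : Subgroup G) (ξ : Cfsg.IrrCharacter (Subgroup.centralizer (P : Set G))) {a : G → ℂ}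
    (ha : InvUnder (Subgroup.centralizer (P : Set G)) a) (haS : ∀ g, Cfsg.MemLocalRing M (a g)) :
    Cfsg.MemLocalRing M (Cfsg.brauerOmega P a (ξ : _ → ℂ)) := by
  classical
  letI : Fintype (Subgroup.centralizer (P : Set G)) := Fintype.ofFinite _
  rw [brauerOmega_eq_restrict]
  exact Helper16.omega_memLocalRing hM ξ (isClassFunction_restrict ha) (fun c => haS c)

/-- Characters in the same block of `C_G(P)` give congruent values of `brauerOmega`. -/
theorem brauerOmega_sub_memLocalIdeal_of_sameBlock [Finite G] {M : Ideal Cfsg.AlgInt}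
    (hM : M.IsMaximal) (P : Subgroup G)
    (ξ ξ' : Cfsg.IrrCharacter (Subgroup.centralizer (P : Set G)))
    (h : Cfsg.SameBlock M (ξ : Subgroup.centralizer (P : Set G) → ℂ)
      (ξ' : Subgroup.centralizer (P : Set G) → ℂ)) {a : G → ℂ}
    (ha : InvUnder (Subgroup.centralizer (P : Set G)) a) (haS : ∀ g, Cfsg.MemLocalRing M (a g)) :
    Cfsg.MemLocalIdeal M
      (Cfsg.brauerOmega P a (ξ : _ → ℂ) - Cfsg.brauerOmega P a (ξ' : _ → ℂ)) := by
  classical
  letI : Fintype (Subgroup.centralizer (P : Set G)) := Fintype.ofFinite _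
  rw [brauerOmega_eq_restrict, brauerOmega_eq_restrict]
  exact Helper16.omega_sub_memLocalIdeal hM ξ ξ' h (isClassFunction_restrict ha) (fun c => haS c)

variable [Fintype G]

/-- **The Brauer map is multiplicative modulo the local ideal on `P`-stable functions.** -/
theorem brauerOmega_conv_sub_memLocalIdeal {p : ℕ} [Fact p.Prime] {M : Ideal Cfsg.AlgInt}
    (hM : Cfsg.IsPModular p M) (P : Subgroup G) (hP : IsPGroup p P)
    (ξ : Cfsg.IrrCharacter (Subgroup.centralizer (P : Set G))) {a b : G → ℂ}
    (ha : InvUnder P a) (ha' : InvUnder (Subgroup.centralizer (P : Set G)) a)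
    (haS : ∀ g, Cfsg.MemLocalRing M (a g))
    (hb : InvUnder P b) (hb' : InvUnder (Subgroup.centralizer (P : Set G)) b)
    (hbS : ∀ g, Cfsg.MemLocalRing M (b g)) :
    Cfsg.MemLocalIdeal M (Cfsg.brauerOmega P (Helper81.conv a b) (ξ : _ → ℂ)
      - Cfsg.brauerOmega P a (ξ : _ → ℂ) * Cfsg.brauerOmega P b (ξ : _ → ℂ)) := by
  classical
  have hMm := hM.2.1
  letI : Fintype (Subgroup.centralizer (P : Set G)) := Fintype.ofFinite _
  rw [brauerOmega_eq_restrict, brauerOmega_eq_restrict, brauerOmega_eq_restrict,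
    ← Helper81.omega_conv ξ (isClassFunction_restrict ha') (isClassFunction_restrict hb'),
    ← Helper81.omega_sub]
  apply Helper16.omega_memLocalIdeal hMm ξ
  · exact Helper81.isClassFunction_sub (isClassFunction_restrict (invUnder_conv ha' hb'))
      (Helper81.conv_isClassFunction (isClassFunction_restrict ha')
        (isClassFunction_restrict hb'))
  · intro c
    have h1 : Helper81.conv (fun c : Subgroup.centralizer (P : Set G) => a c)
          (fun c : Subgroup.centralizer (P : Set G) => b c) c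
        = ∑ x ∈ Finset.univ.filter (fun x : G => x ∈ Subgroup.centralizer (P : Set G)),
            a x * b (x⁻¹ * (c : G)) := by
      rw [Finset.sum_subtype (p := fun x : G => x ∈ Subgroup.centralizer (P : Set G))
        (Finset.univ.filter (fun x : G => x ∈ Subgroup.centralizer (P : Set G))) (by simp)
        (fun x => a x * b (x⁻¹ * (c : G)))]
      refine Finset.sum_congr rfl fun x _ => ?_
      show a x * b ((x⁻¹ * c : Subgroup.centralizer (P : Set G)) : G) = _
      push_cast
      rfl
    show Cfsg.MemLocalIdeal M (Helper81.conv a b (c : G)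
      - Helper81.conv (fun c : Subgroup.centralizer (P : Set G) => a c)
          (fun c : Subgroup.centralizer (P : Set G) => b c) c)
    rw [h1]
    apply Helper16.sum_sub_sum_centralizer_memLocalIdeal hM P hP
      (fun x => a x * b (x⁻¹ * (c : G)))
      (fun x => memLocalRing_mul hMm (haS x) (hbS _))
    intro d hd x
    have e1 : (d * x * d⁻¹)⁻¹ * (c : G) = d * (x⁻¹ * (c : G)) * d⁻¹ := by
      have h2 : d⁻¹ * (c : G) = (c : G) * d⁻¹ := by
        have := Subgroup.mem_centralizer_iff.mp c.2 d hd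
        calc d⁻¹ * (c : G) = d⁻¹ * ((c : G) * d) * d⁻¹ := by group
          _ = d⁻¹ * (d * (c : G)) * d⁻¹ := by rw [this]
          _ = (c : G) * d⁻¹ := by group
      calc (d * x * d⁻¹)⁻¹ * (c : G) = d * x⁻¹ * (d⁻¹ * (c : G)) := by group
        _ = d * x⁻¹ * ((c : G) * d⁻¹) := by rw [h2]
        _ = d * (x⁻¹ * (c : G)) * d⁻¹ := by group
    show a (d * x * d⁻¹) * b ((d * x * d⁻¹)⁻¹ * (c : G)) = a x * b (x⁻¹ * (c : G))
    rw [e1, ha d hd x, hb d hd (x⁻¹ * (c : G))]

/-! ### The idempotents `subgroupBlockCoeff K f` -/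

omit [Fintype G] in
theorem suppIn_sbc (K : Subgroup G) (f : Set (Cfsg.IrrCharacter K)) :
    SuppIn K (Cfsg.subgroupBlockCoeff K f) := fun _ hx => sbc_of_not_mem K f hx

omit [Fintype G] in
theorem sbc_restrict (K : Subgroup G) (f : Set (Cfsg.IrrCharacter K)) :
    (fun k : K => Cfsg.subgroupBlockCoeff K f (k : G)) = Cfsg.blockCoeff f := by
  funext k
  exact sbc_of_mem K f k.2

omit [Fintype G] in
theorem invUnder_sbc_self (K : Subgroup G) (f : Set (Cfsg.IrrCharacter K)) :
    InvUnder K (Cfsg.subgroupBlockCoeff K f) := by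
  intro d hd x
  by_cases hx : x ∈ K
  · rw [sbc_of_mem K f hx, sbc_of_mem K f (K.mul_mem (K.mul_mem hd hx) (K.inv_mem hd))]
    exact blockCoeff_isClassFunction f ⟨x, hx⟩ ⟨d, hd⟩
  · rw [sbc_of_not_mem K f hx, sbc_of_not_mem K f]
    intro h
    apply hx
    have := K.mul_mem (K.mul_mem (K.inv_mem hd) h) hd
    have e : d⁻¹ * (d * x * d⁻¹) * d = x := by group
    rwa [e] at this

omit [Fintype G] in
theorem invUnder_sbc_of_stabilizes (K : Subgroup G) [Finite K] (f : Set (Cfsg.IrrCharacter K))
    {L : Subgroup G} (h : ∀ x ∈ L, Cfsg.StabilizesBlock K f x) :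
    InvUnder L (Cfsg.subgroupBlockCoeff K f) :=
  fun d hd x => subgroupBlockCoeff_conj_of_stabilizes K f (h d hd) x

omit [Fintype G] in
theorem sbc_memLocalRing {M : Ideal Cfsg.AlgInt} (hM : M.IsMaximal) (K : Subgroup G) [Finite K]
    {f : Set (Cfsg.IrrCharacter K)} (hf : Cfsg.IsPBlock M f) (x : G) :
    Cfsg.MemLocalRing M (Cfsg.subgroupBlockCoeff K f x) := by
  classical
  letI : Fintype K := Fintype.ofFinite K
  by_cases hx : x ∈ K
  · rw [sbc_of_mem K f hx]
    exact blockCoeff_memLocalRing hM hf _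
  · rw [sbc_of_not_mem K f hx]
    exact memLocalRing_zero hM

/-- Products of block coefficient functions. -/
theorem conv_blockCoeff_inter (f f' : Set (Cfsg.IrrCharacter G)) :
    Helper81.conv (Cfsg.blockCoeff f) (Cfsg.blockCoeff f') = Cfsg.blockCoeff (f ∩ f') := by
  classical
  apply eq_of_omega_eq
    (Helper81.conv_isClassFunction (blockCoeff_isClassFunction f) (blockCoeff_isClassFunction f'))
    (blockCoeff_isClassFunction _)
  intro ψ
  rw [Helper81.omega_conv ψ (blockCoeff_isClassFunction f) (blockCoeff_isClassFunction f'),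
    omega_blockCoeff, omega_blockCoeff, omega_blockCoeff]
  by_cases h1 : ψ ∈ f <;> by_cases h2 : ψ ∈ f' <;> simp [h1, h2]

omit [Fintype G] in
theorem blockCoeff_empty (g : G) : Cfsg.blockCoeff (∅ : Set (Cfsg.IrrCharacter G)) g = 0 := by
  show (Nat.card G : ℂ)⁻¹ * ∑ᶠ χ ∈ (∅ : Set (Cfsg.IrrCharacter G)),
    (χ : G → ℂ) 1 * (starRingEnd ℂ) ((χ : G → ℂ) g) = 0
  rw [finsum_mem_empty, mul_zero]

/-- Products of the idempotents `subgroupBlockCoeff K f`. -/
theorem conv_sbc (K : Subgroup G) (f f' : Set (Cfsg.IrrCharacter K)) :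
    Helper81.conv (Cfsg.subgroupBlockCoeff K f) (Cfsg.subgroupBlockCoeff K f')
      = Cfsg.subgroupBlockCoeff K (f ∩ f') := by
  classical
  letI : Fintype K := Fintype.ofFinite K
  funext x
  by_cases hx : x ∈ K
  · have h1 := conv_restrict K (suppIn_sbc K f) (Cfsg.subgroupBlockCoeff K f') ⟨x, hx⟩
    rw [sbc_restrict, sbc_restrict, conv_blockCoeff_inter] at h1
    rw [sbc_of_mem K _ hx]
    exact h1
  · rw [sbc_of_not_mem K _ hx]
    exact suppIn_conv (suppIn_sbc K f) (suppIn_sbc K f') x hx

theorem conv_sbc_self (K : Subgroup G) (f : Set (Cfsg.IrrCharacter K)) :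
    Helper81.conv (Cfsg.subgroupBlockCoeff K f) (Cfsg.subgroupBlockCoeff K f)
      = Cfsg.subgroupBlockCoeff K f := by
  rw [conv_sbc, Set.inter_self]

theorem conv_sbc_of_disjoint (K : Subgroup G) {f f' : Set (Cfsg.IrrCharacter K)}
    (h : f ∩ f' = ∅) :
    Helper81.conv (Cfsg.subgroupBlockCoeff K f) (Cfsg.subgroupBlockCoeff K f') = 0 := by
  rw [conv_sbc, h]
  funext x
  by_cases hx : x ∈ K
  · rw [sbc_of_mem K _ hx]
    exact blockCoeff_empty _
  · exact sbc_of_not_mem K _ hx

end Cfsg.Agent.Helper77
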