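import Cfsg.Agent.Helper77.StableFun

/-!
# Lifting the Brauer map through a stable block

* `brauerOmega_sub_omega_memLocalIdeal`: if `g` is a `P`-stable block of `K ⊇ C_G(P)` with
  `brauerOmega P (idempotent of g) ξ ≡ 1`, then `brauerOmega P a ξ ≡ Ω_η (a|K)` for every
  `η ∈ g` and every `P`-stable `K`-class function `a` supported on `K` with local values.
* `stable_block_unique`: at most one `P`-stable block `g` of `K` has
  `brauerOmega P (idempotent of g) ξ ≡ 1`.
-/

set_option autoImplicit false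
set_option linter.style.haveILetI false
open Cfsg

namespace Cfsg.Agent.Helper77

universe u

variable {G : Type u} [Group G] [Fintype G]

/-- **Lifting.**  Let `g` be a `P`-stable block of `K ⊇ C_G(P)` whose idempotent has
`brauerOmega P · ξ ≡ 1`.  Then on `P`-stable `K`-class functions supported on `K` with local
values, `brauerOmega P · ξ` is congruent to `Ω_η` of the restriction to `K`, for every `η ∈ g`. -/
theorem brauerOmega_sub_omega_memLocalIdeal {p : ℕ} [Fact p.Prime] {M : Ideal Cfsg.AlgInt}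
    (hM : Cfsg.IsPModular p M) (P K : Subgroup G) [Fintype K] (hP : IsPGroup p P)
    (hCK : Subgroup.centralizer (P : Set G) ≤ K)
    (ξ : Cfsg.IrrCharacter (Subgroup.centralizer (P : Set G)))
    (g : Set (Cfsg.IrrCharacter K)) (hg : Cfsg.IsPBlock M g)
    (hgP : ∀ x ∈ P, Cfsg.StabilizesBlock K g x)
    (hξ : Cfsg.MemLocalIdeal M
      (Cfsg.brauerOmega P (Cfsg.subgroupBlockCoeff K g) (ξ : _ → ℂ) - 1))
    {a : G → ℂ} (haK : SuppIn K a) (ha1 : InvUnder K a) (ha2 : InvUnder P a)
    (haS : ∀ x, Cfsg.MemLocalRing M (a x)) (η : Cfsg.IrrCharacter K) (hη : η ∈ g) :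
    Cfsg.MemLocalIdeal M (Cfsg.brauerOmega P a (ξ : _ → ℂ)
      - Helper81.omega (η : K → ℂ) (fun k : K => a k)) := by
  classical
  have hMm := hM.2.1
  have : Fintype (Cfsg.IrrCharacter K) := Fintype.ofFinite _
  set lam : (G → ℂ) → ℂ := fun z => Cfsg.brauerOmega P z (ξ : _ → ℂ) with hlam
  set c : Cfsg.IrrCharacter K → ℂ :=
    fun χ => Helper81.omega (χ : K → ℂ) (fun k : K => a k) with hc
  have haC : InvUnder (Subgroup.centralizer (P : Set G)) a := ha1.mono hCK
  have hcS : ∀ χ, Cfsg.MemLocalRing M (c χ) := fun χ =>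
    Helper16.omega_memLocalRing hMm χ (isClassFunction_restrict ha1) (fun k => haS k)
  have hlamS : ∀ z : G → ℂ, InvUnder (Subgroup.centralizer (P : Set G)) z →
      (∀ x, Cfsg.MemLocalRing M (z x)) → Cfsg.MemLocalRing M (lam z) :=
    fun z hz hzS => brauerOmega_memLocalRing hMm P ξ hz hzS
  have hdS : ∀ (d : ℂ), Cfsg.MemLocalRing M d → ∀ x : G,
      Cfsg.MemLocalRing M (Helper81.deltaOne d x) := by
    intro d hd x
    delta Helper81.deltaOne
    split_ifs
    · exact hd
    · exact memLocalRing_zero hMm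
  have key : ∀ t : Finset (Cfsg.IrrCharacter K), ∃ z : G → ℂ, SuppIn K z ∧ InvUnder K z ∧
      InvUnder P z ∧ (∀ x, Cfsg.MemLocalRing M (z x)) ∧
      (∀ ψ : Cfsg.IrrCharacter K, Helper81.omega (ψ : K → ℂ) (fun k : K => z k)
        = ∏ χ ∈ t, (c ψ - c χ)) ∧
      Cfsg.MemLocalIdeal M (lam z - ∏ χ ∈ t, (lam a - c χ)) := by
    intro t
    induction t using Finset.induction_on with
    | empty =>
      refine ⟨Helper81.deltaOne 1, suppIn_deltaOne K 1, invUnder_deltaOne K 1,
        invUnder_deltaOne P 1, hdS 1 (memLocalRing_one hMm), fun ψ => ?_, ?_⟩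
      · rw [Finset.prod_empty, deltaOne_restrict]
        exact Helper81.omega_deltaOne ψ 1
      · rw [Finset.prod_empty]
        show Cfsg.MemLocalIdeal M (Cfsg.brauerOmega P (Helper81.deltaOne 1) (ξ : _ → ℂ) - 1)
        rw [brauerOmega_deltaOne, sub_self]
        exact memLocalIdeal_zero hMm
    | insert χ₁ t hχ₁ ih =>
      obtain ⟨z, hzK, hz1, hz2, hzS, hz3, hz4⟩ := ih
      set w : G → ℂ := a - Helper81.deltaOne (c χ₁) with hw
      have hwK : SuppIn K w := suppIn_sub haK (suppIn_deltaOne K _)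
      have hw1 : InvUnder K w := invUnder_sub ha1 (invUnder_deltaOne K _)
      have hw2 : InvUnder P w := invUnder_sub ha2 (invUnder_deltaOne P _)
      have hwS : ∀ x, Cfsg.MemLocalRing M (w x) := fun x =>
        memLocalRing_sub hMm (haS x) (hdS _ (hcS χ₁) x)
      have hlamw : lam w = lam a - c χ₁ := by
        show Cfsg.brauerOmega P (a - Helper81.deltaOne (c χ₁)) (ξ : _ → ℂ) = _
        rw [brauerOmega_sub, brauerOmega_deltaOne]
      refine ⟨Helper81.conv z w, suppIn_conv hzK hwK, invUnder_conv hz1 hw1,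
        invUnder_conv hz2 hw2,
        fun x => Helper81.conv_mem (localSubring M hMm) hzS hwS x, fun ψ => ?_, ?_⟩
      · have e1 : (fun k : K => Helper81.conv z w (k : G))
            = Helper81.conv (fun k : K => z k) (fun k : K => w k) := by
          funext k
          exact conv_restrict K hzK w k
        have e2 : (fun k : K => w k)
            = (fun k : K => a k) - Helper81.deltaOne (c χ₁) := by
          rw [← deltaOne_restrict K (c χ₁)]
          rfl
        rw [e1, Helper81.omega_conv ψ (isClassFunction_restrict hz1)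
          (isClassFunction_restrict hw1), hz3 ψ, e2, Helper81.omega_sub,
          Helper81.omega_deltaOne, Finset.prod_insert hχ₁]
        ring
      · rw [Finset.prod_insert hχ₁]
        have h1 := brauerOmega_conv_sub_memLocalIdeal hM P hP ξ hz2 (hz1.mono hCK) hzS
          hw2 (hw1.mono hCK) hwS
        have h1' : Cfsg.MemLocalIdeal M (lam (Helper81.conv z w) - lam z * lam w) := h1
        rw [hlamw] at h1'
        have hla : Cfsg.MemLocalRing M (lam a) := hlamS a haC haS
        have h3 : Cfsg.MemLocalIdeal M ((lam z - ∏ χ ∈ t, (lam a - c χ)) * (lam a - c χ₁)) :=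
          memLocalIdeal_mul' hMm hz4 (memLocalRing_sub hMm hla (hcS χ₁))
        have h4 := memLocalIdeal_add hMm h1' h3
        have e : lam (Helper81.conv z w) - lam z * (lam a - c χ₁)
            + (lam z - ∏ χ ∈ t, (lam a - c χ)) * (lam a - c χ₁)
            = lam (Helper81.conv z w) - (lam a - c χ₁) * ∏ χ ∈ t, (lam a - c χ) := by ring
        rwa [e] at h4
  obtain ⟨z, hzK, hz1, hz2, hzS, hz3, hz4⟩ := key (Set.toFinite g).toFinset
  have hy : Helper81.conv z (Cfsg.subgroupBlockCoeff K g) = 0 := by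
    funext x
    by_cases hx : x ∈ K
    · have h1 := conv_restrict K hzK (Cfsg.subgroupBlockCoeff K g) ⟨x, hx⟩
      rw [sbc_restrict] at h1
      have h2 : Helper81.conv (fun k : K => z k) (Cfsg.blockCoeff g) = 0 := by
        apply eq_of_omega_eq (Helper81.conv_isClassFunction (isClassFunction_restrict hz1)
          (blockCoeff_isClassFunction g)) (fun _ _ => rfl)
        intro ψ
        rw [Helper81.omega_conv ψ (isClassFunction_restrict hz1) (blockCoeff_isClassFunction g),
          hz3 ψ, Helper16.omega_zero]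
        by_cases hψ : ψ ∈ g
        · rw [Finset.prod_eq_zero ((Set.Finite.mem_toFinset _).mpr hψ) (sub_self _), zero_mul]
        · rw [omega_blockCoeff_of_not_mem hψ, mul_zero]
      rw [h2] at h1
      exact h1
    · exact suppIn_conv hzK (suppIn_sbc K g) x hx
  have h5 := brauerOmega_conv_sub_memLocalIdeal hM P hP ξ hz2 (hz1.mono hCK) hzS
    (invUnder_sbc_of_stabilizes K g hgP) ((invUnder_sbc_self K g).mono hCK)
    (sbc_memLocalRing hMm K hg)
  rw [hy, brauerOmega_zero, zero_sub] at h5
  have hlz : Cfsg.MemLocalRing M (lam z) := hlamS z (hz1.mono hCK) hzS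
  have h6 : Cfsg.MemLocalIdeal M (lam z) := by
    have e1 : lam z = -(-(lam z * Cfsg.brauerOmega P (Cfsg.subgroupBlockCoeff K g) (ξ : _ → ℂ)))
        - lam z * (Cfsg.brauerOmega P (Cfsg.subgroupBlockCoeff K g) (ξ : _ → ℂ) - 1) := by ring
    rw [e1]
    exact memLocalIdeal_sub hMm (memLocalIdeal_neg h5) (memLocalIdeal_mul hMm hlz hξ)
  have h7 : Cfsg.MemLocalIdeal M (∏ χ ∈ (Set.toFinite g).toFinset, (lam a - c χ)) := by
    have := memLocalIdeal_sub hMm h6 hz4
    rwa [sub_sub_cancel] at this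
  obtain ⟨χ, hχ, hχ2⟩ := Helper16.exists_memLocalIdeal_of_prod hMm _ _
    (fun χ _ => memLocalRing_sub hMm (hlamS a haC haS) (hcS χ)) h7
  have hχg : χ ∈ g := (Set.Finite.mem_toFinset _).mp hχ
  have h8 := Helper16.omega_sub_memLocalIdeal hMm χ η
    (Helper16.sameBlock_of_mem hMm hg hχg hη) (isClassFunction_restrict ha1) (fun k => haS k)
  have := memLocalIdeal_add hMm hχ2 h8
  rwa [sub_add_sub_cancel] at this

/-- At most one `P`-stable block of `K ⊇ C_G(P)` has `brauerOmega P (idempotent) ξ ≡ 1`. -/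
theorem stable_block_unique {p : ℕ} [Fact p.Prime] {M : Ideal Cfsg.AlgInt}
    (hM : Cfsg.IsPModular p M) (P K : Subgroup G) (hP : IsPGroup p P)
    (hCK : Subgroup.centralizer (P : Set G) ≤ K)
    (ξ : Cfsg.IrrCharacter (Subgroup.centralizer (P : Set G)))
    {f f' : Set (Cfsg.IrrCharacter K)} (hf : Cfsg.IsPBlock M f) (hf' : Cfsg.IsPBlock M f')
    (hfP : ∀ x ∈ P, Cfsg.StabilizesBlock K f x) (hfP' : ∀ x ∈ P, Cfsg.StabilizesBlock K f' x)
    (h : Cfsg.MemLocalIdeal M
      (Cfsg.brauerOmega P (Cfsg.subgroupBlockCoeff K f) (ξ : _ → ℂ) - 1))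
    (h' : Cfsg.MemLocalIdeal M
      (Cfsg.brauerOmega P (Cfsg.subgroupBlockCoeff K f') (ξ : _ → ℂ) - 1)) : f = f' := by
  classical
  have hMm := hM.2.1
  letI : Fintype K := Fintype.ofFinite K
  by_contra hne
  obtain ⟨η, hη⟩ := Helper16.exists_mem_of_isPBlock hMm hf
  have hη' : η ∉ f' := fun h2 => hne (block_eq_of_mem hMm hf hf' hη h2)
  have h1 := brauerOmega_sub_omega_memLocalIdeal hM P K hP hCK ξ f hf hfP h
    (suppIn_sbc K f') (invUnder_sbc_self K f') (invUnder_sbc_of_stabilizes K f' hfP')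
    (sbc_memLocalRing hMm K hf') η hη
  rw [sbc_restrict, omega_blockCoeff_of_not_mem hη', sub_zero] at h1
  have h2 := memLocalIdeal_sub hMm h1 h'
  rw [sub_sub_cancel] at h2
  exact not_memLocalIdeal_one hMm h2

end Cfsg.Agent.Helper77
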