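import Cfsg.Agent.Helper77.StableLift
import Cfsg.Agent.Helper77.MinMax

/-!
# Normal subpairs: existence and uniqueness

* `setAction hPK`: the action of `P ≤ N_G(K)` on sets of irreducible characters of `K`.
* `sum_blocks_blockCoeff`: the block idempotents sum to the identity.
* `exists_stable_block`: for `C_G(P) ≤ K`, `P ≤ N_G(K)`, `P` a `p`-group and `ξ` irreducible of
  `C_G(P)`, some `P`-stable block `f` of `K` has `brauerOmega P (idempotent of f) ξ ≡ 1`.
* `existsUnique_isNormalSubpair`: for a Brauer pair `(P, e)` and `Q ≤ P ≤ N_G(Q)` there is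
  exactly one `f` with `(Q, f) ⊴ (P, e)`.
* `isBrauerPairOf_iff_of_isNormalSubpair`, `isBrauerPairOf_iff_of_subpairLE`.
-/

set_option autoImplicit false
set_option linter.style.haveILetI false
open Cfsg

namespace Cfsg.Agent.Helper77

universe u

variable {G : Type u} [Group G]

/-- The action of `P ≤ N_G(K)` on sets of irreducible characters of `K` by conjugation. -/
@[reducible] noncomputable def setAction {P K : Subgroup G}
    (hPK : P ≤ Subgroup.normalizer (K : Set G)) : MulAction P (Set (Cfsg.IrrCharacter K)) where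
  smul u f := conjIrr K (Subgroup.inclusion hPK u) '' f
  one_smul f := by
    show conjIrr K (Subgroup.inclusion hPK 1) '' f = f
    rw [map_one]
    have : conjIrr K 1 = id := funext (conjIrr_one K)
    rw [this, Set.image_id]
  mul_smul u v f := by
    show conjIrr K (Subgroup.inclusion hPK (u * v)) '' f
      = conjIrr K (Subgroup.inclusion hPK u) '' (conjIrr K (Subgroup.inclusion hPK v) '' f)
    rw [map_mul, Set.image_image]
    exact Set.image_congr fun χ _ => conjIrr_mul K _ _ χ

theorem setAction_smul {P K : Subgroup G} (hPK : P ≤ Subgroup.normalizer (K : Set G)) (u : P)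
    (f : Set (Cfsg.IrrCharacter K)) :
    @HSMul.hSMul _ _ _ (@instHSMul _ _ (setAction hPK).toSMul) u f
      = conjIrr K (Subgroup.inclusion hPK u) '' f := rfl

/-- `f` is stabilized by `P` iff it is a fixed point of the action of `P`. -/
theorem stabilizes_iff_setAction {P K : Subgroup G} [Finite K]
    (hPK : P ≤ Subgroup.normalizer (K : Set G)) (f : Set (Cfsg.IrrCharacter K)) :
    (∀ x ∈ P, Cfsg.StabilizesBlock K f x) ↔
      ∀ u : P, @HSMul.hSMul _ _ _ (@instHSMul _ _ (setAction hPK).toSMul) u f = f := by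
  constructor
  · intro h u
    exact (image_conjIrr_eq_iff K f (Subgroup.inclusion hPK u)).mpr (h u u.2)
  · intro h x hx
    exact (image_conjIrr_eq_iff K f (Subgroup.inclusion hPK ⟨x, hx⟩)).mp (h ⟨x, hx⟩)

variable [Fintype G]

/-- The coefficient function of the set of all irreducible characters is the identity. -/
theorem blockCoeff_univ :
    Cfsg.blockCoeff (Set.univ : Set (Cfsg.IrrCharacter G)) = Helper81.deltaOne 1 := by
  apply eq_of_omega_eq (blockCoeff_isClassFunction _) (Helper81.deltaOne_isClassFunction 1)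
  intro ψ
  rw [omega_blockCoeff_of_mem (Set.mem_univ ψ), Helper81.omega_deltaOne]

open Classical in
/-- The block idempotents sum to the identity. -/
theorem sum_blocks_blockCoeff {M : Ideal Cfsg.AlgInt} (hM : M.IsMaximal)
    [Fintype (Cfsg.IrrCharacter G)] (g : G) :
    ∑ f ∈ Finset.univ.filter (fun f : Set (Cfsg.IrrCharacter G) => Cfsg.IsPBlock M f),
      Cfsg.blockCoeff f g = Helper81.deltaOne 1 g := by
  haveI := hM.isPrime
  rw [← blockCoeff_univ]
  simp only [blockCoeff_eq_sum]
  rw [← Finset.mul_sum, Finset.sum_comm]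
  congr 1
  refine Finset.sum_congr rfl fun χ _ => ?_
  rw [if_pos (Set.mem_univ χ)]
  rw [Finset.sum_eq_single (Cfsg.blockOf M (χ : G → ℂ))]
  · rw [if_pos (Helper81.mem_blockOf_self χ)]
  · intro f hf hne
    rw [Finset.mem_filter] at hf
    rw [if_neg]
    intro hχ
    exact hne (Helper16.eq_blockOf_of_mem hM hf.2 hχ)
  · intro h
    exact absurd (Finset.mem_filter.mpr ⟨Finset.mem_univ _, ⟨χ, rfl⟩⟩) h

/-- **Existence of a stable block below.** -/
theorem exists_stable_block {p : ℕ} [Fact p.Prime] {M : Ideal Cfsg.AlgInt}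
    (hM : Cfsg.IsPModular p M) (P K : Subgroup G) (hP : IsPGroup p P)
    (hCK : Subgroup.centralizer (P : Set G) ≤ K) (hPK : P ≤ Subgroup.normalizer (K : Set G))
    (ξ : Cfsg.IrrCharacter (Subgroup.centralizer (P : Set G))) :
    ∃ f : Set (Cfsg.IrrCharacter K), Cfsg.IsPBlock M f ∧
      (∀ x ∈ P, Cfsg.StabilizesBlock K f x) ∧
      Cfsg.MemLocalIdeal M
        (Cfsg.brauerOmega P (Cfsg.subgroupBlockCoeff K f) (ξ : _ → ℂ) - 1) := by
  classical
  have hMm := hM.2.1
  letI : Fintype K := Fintype.ofFinite _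
  letI : Fintype (Subgroup.centralizer (P : Set G)) := Fintype.ofFinite _
  letI : Fintype (Cfsg.IrrCharacter K) := Fintype.ofFinite _
  letI := setAction hPK
  set μ : Set (Cfsg.IrrCharacter K) → ℂ :=
    fun f => Cfsg.brauerOmega P (Cfsg.subgroupBlockCoeff K f) (ξ : _ → ℂ) with hμ
  have hμS : ∀ f, Cfsg.IsPBlock M f → Cfsg.MemLocalRing M (μ f) := fun f hf =>
    brauerOmega_memLocalRing hMm P ξ ((invUnder_sbc_self K f).mono hCK) (sbc_memLocalRing hMm K hf)
  have hstab : ∀ f : Set (Cfsg.IrrCharacter K),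
      (∀ x ∈ P, Cfsg.StabilizesBlock K f x) ↔ ∀ u : P, u • f = f :=
    fun f => stabilizes_iff_setAction hPK f
  -- the total sum is `1`
  have hsum : ∑ f ∈ Finset.univ.filter (fun f : Set (Cfsg.IrrCharacter K) => Cfsg.IsPBlock M f),
      μ f = 1 := by
    have h1 : ∀ f : Set (Cfsg.IrrCharacter K), μ f
        = (∑ c : Subgroup.centralizer (P : Set G),
            Cfsg.subgroupBlockCoeff K f (c : G) *
              (ξ : Subgroup.centralizer (P : Set G) → ℂ) c) /
          (ξ : Subgroup.centralizer (P : Set G) → ℂ) 1 := by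
      intro f
      show Cfsg.brauerOmega P (Cfsg.subgroupBlockCoeff K f) (ξ : _ → ℂ) = _
      rw [brauerOmega_eq_restrict]
      rfl
    simp only [h1]
    rw [← Finset.sum_div, Finset.sum_comm]
    have h2 : ∀ c : Subgroup.centralizer (P : Set G),
        ∑ f ∈ Finset.univ.filter (fun f : Set (Cfsg.IrrCharacter K) => Cfsg.IsPBlock M f),
          Cfsg.subgroupBlockCoeff K f (c : G) * (ξ : Subgroup.centralizer (P : Set G) → ℂ) c
        = Helper81.deltaOne 1 c * (ξ : Subgroup.centralizer (P : Set G) → ℂ) c := by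
      intro c
      rw [← Finset.sum_mul]
      congr 1
      have h3 := sum_blocks_blockCoeff (G := K) hMm (M := M) ⟨(c : G), hCK c.2⟩
      rw [← deltaOne_restrict (Subgroup.centralizer (P : Set G)) 1,
        ← deltaOne_restrict K 1] at *
      rw [← h3]
      refine Finset.sum_congr rfl fun f _ => ?_
      exact sbc_of_mem K f (hCK c.2)
    rw [Finset.sum_congr rfl (fun c _ => h2 c)]
    exact Helper81.omega_deltaOne ξ 1
  -- the non-stable blocks contribute `0`
  set F : Set (Cfsg.IrrCharacter K) → ℂ :=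
    fun f => if Cfsg.IsPBlock M f ∧ ¬ (∀ u : P, u • f = f) then μ f else 0 with hF
  have hFinv : ∀ (u : P) (f : Set (Cfsg.IrrCharacter K)), F (u • f) = F f := by
    intro u f
    have hi : Cfsg.IsPBlock M (u • f) ↔ Cfsg.IsPBlock M f := by
      constructor
      · intro h
        have h2 := isPBlock_image_conjIrr K (Subgroup.inclusion hPK u⁻¹) h
        have h3 : u⁻¹ • (u • f) = f := inv_smul_smul u f
        rw [← h3]
        exact h2
      · intro h
        exact isPBlock_image_conjIrr K (Subgroup.inclusion hPK u) h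
    have hii : (∀ v : P, v • (u • f) = u • f) ↔ (∀ v : P, v • f = f) := by
      constructor
      · intro h v
        have h2 := h (u * v * u⁻¹)
        rw [smul_smul, inv_mul_cancel_right, mul_smul] at h2
        exact MulAction.injective u h2
      · intro h v
        have h2 : v * u = u * (u⁻¹ * v * u) := by group
        rw [smul_smul, h2, mul_smul, h (u⁻¹ * v * u)]
    have hiii : μ (u • f) = μ f := by
      apply brauerOmega_congr
      intro c hc
      have h2 := subgroupBlockCoeff_image_conjIrr K (Subgroup.inclusion hPK u) f c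
      have h3 : ((Subgroup.inclusion hPK u : Subgroup.normalizer (K : Set G)) : G) * c
          * ((Subgroup.inclusion hPK u : Subgroup.normalizer (K : Set G)) : G)⁻¹ = c := by
        have h4 := Subgroup.mem_centralizer_iff.mp hc (u : G) u.2
        show (u : G) * c * (u : G)⁻¹ = c
        rw [h4]
        group
      rw [h3] at h2
      exact h2
    show (if Cfsg.IsPBlock M (u • f) ∧ ¬ (∀ v : P, v • (u • f) = u • f) then μ (u • f) else 0)
      = (if Cfsg.IsPBlock M f ∧ ¬ (∀ v : P, v • f = f) then μ f else 0)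
    rw [hiii]
    exact if_congr (and_congr hi (not_congr hii)) rfl rfl
  have hFloc : ∀ f, Cfsg.MemLocalRing M (F f) := by
    intro f
    show Cfsg.MemLocalRing M (if Cfsg.IsPBlock M f ∧ ¬ (∀ v : P, v • f = f) then μ f else 0)
    split_ifs with h
    · exact hμS f h.1
    · exact memLocalRing_zero hMm
  have hFfix : ∀ f, (∀ u : P, u • f = f) → Cfsg.MemLocalIdeal M (F f) := by
    intro f h
    show Cfsg.MemLocalIdeal M (if Cfsg.IsPBlock M f ∧ ¬ (∀ v : P, v • f = f) then μ f else 0)
    rw [if_neg (fun h2 => h2.2 h)]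
    exact memLocalIdeal_zero hMm
  have hns := sum_memLocalIdeal_of_isPGroup hM hP F hFinv hFloc hFfix
  -- conclusion
  by_contra hcon
  have hst : ∀ f : Set (Cfsg.IrrCharacter K), Cfsg.IsPBlock M f → (∀ u : P, u • f = f) →
      Cfsg.MemLocalIdeal M (μ f) := by
    intro f hf hfix
    have hfP := (hstab f).mpr hfix
    have h1 := brauerOmega_conv_sub_memLocalIdeal hM P hP ξ
      (invUnder_sbc_of_stabilizes K f hfP) ((invUnder_sbc_self K f).mono hCK)
      (sbc_memLocalRing hMm K hf)
      (invUnder_sbc_of_stabilizes K f hfP) ((invUnder_sbc_self K f).mono hCK)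
      (sbc_memLocalRing hMm K hf)
    rw [conv_sbc_self] at h1
    have h2 : Cfsg.MemLocalIdeal M (μ f * (μ f - 1)) := by
      have e : μ f * (μ f - 1) = -(μ f - μ f * μ f) := by ring
      rw [e]
      exact memLocalIdeal_neg h1
    rcases Helper16.memLocalIdeal_or_of_mul hMm (hμS f hf) h2 with h3 | h3
    · exact h3
    · exact absurd ⟨f, hf, hfP, h3⟩ hcon
  have h1 : ∑ f ∈ Finset.univ.filter (fun f : Set (Cfsg.IrrCharacter K) => Cfsg.IsPBlock M f),
      μ f = ∑ f : Set (Cfsg.IrrCharacter K), F f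
        + ∑ f : Set (Cfsg.IrrCharacter K),
          (if Cfsg.IsPBlock M f ∧ (∀ u : P, u • f = f) then μ f else 0) := by
    rw [Finset.sum_filter, ← Finset.sum_add_distrib]
    refine Finset.sum_congr rfl fun f _ => ?_
    show _ = (if Cfsg.IsPBlock M f ∧ ¬ (∀ v : P, v • f = f) then μ f else 0) + _
    by_cases hf : Cfsg.IsPBlock M f
    · by_cases hfix : (∀ u : P, u • f = f)
      · rw [if_pos hf, if_neg (fun h => h.2 hfix), if_pos ⟨hf, hfix⟩, zero_add]
      · rw [if_pos hf, if_pos ⟨hf, hfix⟩, if_neg (fun h => hfix h.2), add_zero]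
    · rw [if_neg hf, if_neg (fun h => hf h.1), if_neg (fun h => hf h.1), add_zero]
  have h2 : Cfsg.MemLocalIdeal M (∑ f : Set (Cfsg.IrrCharacter K),
      (if Cfsg.IsPBlock M f ∧ (∀ u : P, u • f = f) then μ f else 0)) := by
    refine memLocalIdeal_sum hMm _ _ fun f _ => ?_
    split_ifs with h
    · exact hst f h.1 h.2
    · exact memLocalIdeal_zero hMm
  have h3 := memLocalIdeal_add hMm hns h2
  rw [← h1, hsum] at h3
  exact not_memLocalIdeal_one hMm h3

/-- **Normal subpairs exist and are unique** (Alperin–Broué). -/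
theorem existsUnique_isNormalSubpair {p : ℕ} [Fact p.Prime] {M : Ideal Cfsg.AlgInt}
    (hM : Cfsg.IsPModular p M) (P Q : Subgroup G)
    (e : Set (Cfsg.IrrCharacter (Subgroup.centralizer (P : Set G))))
    (hPe : Cfsg.IsBrauerPair p M P e) (hQP : Q ≤ P)
    (hPN : P ≤ Subgroup.normalizer (Q : Set G)) :
    ∃! f : Set (Cfsg.IrrCharacter (Subgroup.centralizer (Q : Set G))),
      Cfsg.IsNormalSubpair p M Q f P e := by
  classical
  have hMm := hM.2.1
  have hCK : Subgroup.centralizer (P : Set G) ≤ Subgroup.centralizer (Q : Set G) :=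
    Subgroup.centralizer_le hQP
  have hPK : P ≤ Subgroup.normalizer ((Subgroup.centralizer (Q : Set G) : Subgroup G) : Set G) :=
    fun x hx => Helper75.normalizer_le_normalizer_centralizer' Q (hPN hx)
  obtain ⟨ξ₀, hξ₀⟩ := Helper16.exists_mem_of_isPBlock hMm hPe.2
  obtain ⟨f, hf, hfP, hfξ⟩ := exists_stable_block hM P (Subgroup.centralizer (Q : Set G)) hPe.1
    hCK hPK ξ₀
  refine ⟨f, ⟨⟨hPe.1.to_le hQP, hf⟩, hPe, hQP, hPN, hfP, fun ξ hξ => ?_⟩, ?_⟩
  · have h1 := brauerOmega_sub_memLocalIdeal_of_sameBlock hMm P ξ ξ₀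
      (Helper16.sameBlock_of_mem hMm hPe.2 hξ hξ₀)
      ((invUnder_sbc_self (Subgroup.centralizer (Q : Set G)) f).mono hCK)
      (sbc_memLocalRing hMm _ hf)
    have h2 := memLocalIdeal_add hMm h1 hfξ
    rwa [sub_add_sub_cancel] at h2
  · rintro f' ⟨⟨-, hf'⟩, -, -, -, hfP', hfξ'⟩
    exact stable_block_unique hM P (Subgroup.centralizer (Q : Set G)) hPe.1 hCK ξ₀ hf' hf
      hfP' hfP (hfξ' ξ₀ hξ₀) hfξ

end Cfsg.Agent.Helper77
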